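import Cfsg.Agent.H98.TensorSp.Main

/-!
The algebra of a slot when only the roots of that slot are given.
-/

set_option autoImplicit false

namespace Cfsg.Agent.H72.SympWreath

open Module Matrix Cfsg.Agent.H98 Cfsg.Agent.H98.ExtField Cfsg.Agent.H98.TensorGL Cfsg.Agent.H98.TensorSp

variable {F : Type*} [Field F] {a b : ℕ}

/-- A group of isometries containing the roots of one factor. -/
structure GenR (S : Pair F a b) (M : Subgroup (Module.End F (T F a b))ˣ) : Prop where
  right : ∀ (t : F) (v : Fin b → F), MN M (te (t • (1 : Matrix (Fin a) (Fin a) F)) v (S.B₂ v))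
  iso : ∀ u ∈ M, ∀ x y, S.Bt ((u : Module.End F (T F a b)) x) ((u : Module.End F (T F a b)) y) = S.Bt x y

variable {S : Pair F a b} {M : Subgroup (Module.End F (T F a b))ˣ}

theorem GenR.siegel (hM : GenR S M) (t : F) {v w : Fin b → F} (h : S.B₂ v w = 0) :
    MN M (S.sk (t • 1) (t • 1) v w) := by
  have hz : ∀ {x y : Fin b → F}, S.B₂ x y = 0 →
      te (t • (1 : Matrix (Fin a) (Fin a) F)) x (S.B₂ x) * te (t • (1 : Matrix (Fin a) (Fin a) F)) y (S.B₂ y) = 0 :=
    fun hxy => by rw [te_mul_te, hxy, zero_smul]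
  have hs : S.B₂ (v + w) v = 0 := by rw [map_add, LinearMap.add_apply, S.alt₂, S.comm₂ h, add_zero]
  have hs' : S.B₂ (v + w) w = 0 := by rw [map_add, LinearMap.add_apply, S.alt₂, h, add_zero]
  have h1 := (hM.right t (v + w)).sub (hM.right t v) (hz hs) (hz (S.comm₂ hs))
  have h2 := h1.sub (hM.right t w) (by rw [sub_mul, hz hs', hz h, sub_zero])
    (by rw [mul_sub, hz (S.comm₂ hs'), hz (S.comm₂ h), sub_zero])
  convert h2 using 1
  refine LinearMap.ext fun m => ?_
  have e : ev (S.B₂ (v + w)) m = ev (S.B₂ v) m + ev (S.B₂ w) m := funext fun i => by simp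
  simp only [Pair.sk, LinearMap.add_apply, LinearMap.sub_apply, te_apply]
  rw [e]
  simp only [Matrix.mulVec_add, map_add]
  exact funext fun i => by simp only [TensorGL.pure_apply, Pi.add_apply, Pi.sub_apply, smul_add]; abel

theorem GenR.step (hM : GenR S M) {K K' : Matrix (Fin a) (Fin a) F} {v w u : Fin b → F}
    (h : MN M (S.sk K K' v w)) (hvu : S.B₂ v u = 0) (hwu : S.B₂ w u = 0)
    (hw : w ∉ Submodule.span F {v, u}) (c : F) : MN M (S.sk (c • K) (c • K') v u) := by
  obtain ⟨w', hw', hz⟩ := exists_partner S hw 1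
  have hu : S.B₂ w' u = 0 := S.comm₂ (hz u (Submodule.subset_span (by simp)))
  have := mn_mul h (hM.siegel c hu) hvu hwu (hz v (Submodule.subset_span (by simp))) hw'
  simpa using this

theorem GenR.move (hM : GenR S M) (hb : 6 ≤ b) {K K' : Matrix (Fin a) (Fin a) F} {v w u : Fin b → F}
    (h : MN M (S.sk K K' v w)) (hw : w ∉ Submodule.span F {v}) (hvu : S.B₂ v u = 0)
    (c : F) : MN M (S.sk (c • K) (c • K') v u) := by
  obtain ⟨x, hx, hx1, hx2⟩ := exists_avoid S ![v, w, u] _ _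
    (lt_of_le_of_lt (Nat.add_le_add_right (finrank_span_pair_le v w) 3) (by omega))
    (lt_of_le_of_lt (Nat.add_le_add_right (finrank_span_pair_le v u) 3) (by omega))
  have h1 : MN M (S.sk ((1 : F) • K) ((1 : F) • K') v x) := by
    refine hM.step h (hx 0) (hx 1) (fun hm => ?_) 1
    obtain ⟨s, t, hst⟩ := Submodule.mem_span_pair.1 hm
    rcases eq_or_ne t 0 with rfl | ht
    · exact hw (Submodule.mem_span_singleton.2 ⟨s, by simpa using hst⟩)
    · exact hx1 (Submodule.mem_span_pair.2 ⟨-(t⁻¹ * s), t⁻¹, by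
        rw [← hst, smul_add, smul_smul, smul_smul, inv_mul_cancel₀ ht, one_smul, neg_smul]; abel⟩)
  rw [one_smul, one_smul] at h1
  exact hM.step h1 hvu (S.comm₂ (hx 2)) hx2 c

/-- One pair suffices. -/
theorem GenR.inL (hM : GenR S M) (hb : 6 ≤ b) {K K' : Matrix (Fin a) (Fin a) F} (hadj : S.IsAdj K K')
    {v w : Fin b → F} (hv : v ≠ 0) (hw : w ∉ Submodule.span F {v}) (h : MN M (S.sk K K' v w)) (c : F) :
    InL S M (c • K) := by
  intro L' hL v' w' hv' hw' hvw'
  obtain rfl := Pair.IsAdj.unique S (Pair.IsAdj.smul S hadj c) hL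
  have h1 : finrank F (Submodule.span F ({v} : Set (Fin b → F))) + 3 < b := by
    rw [finrank_span_singleton hv]; omega
  have h2 : finrank F (Submodule.span F ({v'} : Set (Fin b → F))) + 3 < b := by
    rw [finrank_span_singleton hv']; omega
  obtain ⟨x, hx, hx1, hx2⟩ := exists_avoid S ![v, v', v] _ _ h1 h2
  have a1 := hM.move hb h hw (hx 0) c
  rw [S.sk_symm] at a1
  have a2 := hM.move hb a1 (not_mem_span_symm hv hx1) (S.comm₂ (hx 1)) 1
  rw [one_smul, one_smul, S.sk_symm] at a2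
  have a3 := hM.move hb a2 hx2 hvw' 1
  rwa [one_smul, one_smul] at a3

theorem GenR.inL_scalar (hM : GenR S M) (c : F) : InL S M (c • 1) := fun K' hK v w _ _ h => by
  obtain rfl := Pair.IsAdj.unique S (S.isAdj_scalar c) hK
  exact hM.siegel c h

theorem GenR.smul_mem (hM : GenR S M) (hb : 6 ≤ b) {K : Matrix (Fin a) (Fin a) F} (hK : InL S M K) (c : F) :
    InL S M (c • K) := by
  obtain ⟨K', h⟩ := S.exists_adj K
  obtain ⟨v, w, -, hv, hw, -, hvw, -⟩ := exists_pairs S hb
  exact hM.inL hb h hv hw (hK K' h v w hv hw hvw) c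

theorem GenR.mul_mem (hM : GenR S M) (hb : 6 ≤ b) {K L : Matrix (Fin a) (Fin a) F} (hK : InL S M K)
    (hL : InL S M L) : InL S M (K * L) := by
  obtain ⟨K', h⟩ := S.exists_adj K
  obtain ⟨L', h'⟩ := S.exists_adj L
  obtain ⟨v, w, u, hv, hw, hu, hvw, hvu, hwu, hwn⟩ := exists_pairs S hb
  obtain ⟨w', hw', hz⟩ := exists_partner S hwn 1
  have hvw' : S.B₂ v w' = 0 := hz v (Submodule.subset_span (by simp))
  have huw' : S.B₂ w' u = 0 := S.comm₂ (hz u (Submodule.subset_span (by simp)))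
  have hw'0 : w' ≠ 0 := fun e => by simp [e] at hw'
  have hu' : u ∉ Submodule.span F {w'} := fun hm => by
    obtain ⟨t, rfl⟩ := Submodule.mem_span_singleton.1 hm
    rw [map_smul, hw', smul_eq_mul, mul_one] at hwu
    exact hu (by rw [hwu, zero_smul]; exact Submodule.zero_mem _)
  have := hM.inL hb (Pair.IsAdj.mul S h h') hv hu
    (mn_mul (hK K' h v w hv hw hvw) (hL L' h' w' u hw'0 hu' huw') hvu hwu hvw' hw') 1
  rwa [one_smul] at this

theorem mn_skew (hM : GenR S M) {D : Module.End F (T F a b)} (hD : MN M D) (x y : T F a b) :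
    S.Bt (D x) y + S.Bt x (D y) + S.Bt (D x) (D y) = 0 := by
  obtain ⟨-, u, hu, huD⟩ := hD
  have := hM.iso u hu x y
  simp only [huD, LinearMap.add_apply, Module.End.one_apply, S.Bt_add_left, S.Bt_add_right] at this
  linear_combination this

/-- An element of the radical attached to `v` that is not a tensor. -/
theorem GenR.of_radical (hM : GenR S M) (hb : 6 ≤ b) {D : Module.End F (T F a b)} (hD : MN M D)
    {v v' : Fin b → F} (hv : v ≠ 0) (hv' : v' ∉ Submodule.span F {v}) (hvv' : S.B₂ v v' = 0)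
    (hD0 : ∀ u, D (TensorGL.pure v u) = 0) {K : Matrix (Fin a) (Fin a) F}
    (hK : ∀ u, D (TensorGL.pure v' u) = TensorGL.pure v (K *ᵥ u)) (hns : ∀ t : F, K ≠ t • 1) :
    HasL S M := by
  obtain ⟨K', hadj⟩ := S.exists_adj K
  have hvD : ∀ x, ev (S.B₂ v) (D x) = 0 := fun x => S.nd₁' fun u => by
    have := mn_skew hM hD x (TensorGL.pure v u)
    rwa [hD0, S.Bt_comm x, S.Bt_zero_left, S.Bt_comm (D x) 0, S.Bt_zero_left, add_zero, add_zero, S.Bt_comm,
      S.Bt_pure] at this
  have hv'D : ∀ x, ev (S.B₂ v') (D x) = -(K' *ᵥ ev (S.B₂ v) x) := fun x =>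
    eq_neg_of_add_eq_zero_left (S.nd₁' fun u => by
      have := mn_skew hM hD x (TensorGL.pure v' u)
      rw [hK, S.Bt_comm (D x), S.Bt_pure, S.Bt_comm x, S.Bt_pure, hadj, S.Bt_comm (D x), S.Bt_pure, hvD, map_zero,
        add_zero] at this
      rw [map_add]
      exact this)
  set H : Module.End F (T F a b) := te (1 : Matrix (Fin a) (Fin a) F) v' (S.B₂ v') with hH
  have hH1 : MN M H := by simpa [hH] using hM.right 1 v'
  have hHD : H * D = te (-K') v' (S.B₂ v) := LinearMap.ext fun x => by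
    rw [Module.End.mul_apply, hH, te_apply, te_apply, hv'D, Matrix.one_mulVec, Matrix.neg_mulVec]
  have hDH : D * H = te K v (S.B₂ v') := LinearMap.ext fun x => by
    rw [Module.End.mul_apply, hH, te_apply, te_apply, hK, Matrix.one_mulVec]
  have hHDH : H * D * H = 0 := by rw [hHD, hH, te_mul_te, hvv', zero_smul]
  have hDHD : D * H * D = te (-(K * K')) v (S.B₂ v) := LinearMap.ext fun x => by
    rw [hDH, Module.End.mul_apply, te_apply, te_apply, hv'D, Matrix.mulVec_neg, Matrix.neg_mulVec,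
      Matrix.mulVec_mulVec]
  obtain ⟨hH2, u, hu, huH⟩ := hH1
  have hD2 := hD.1
  obtain ⟨-, d, hd, hdD⟩ := hD
  set C : Module.End F (T F a b) := te (-K') v' (S.B₂ v) - te K v (S.B₂ v') + te (-(K * K')) v (S.B₂ v) with hC
  have hC1 : MN M C := by
    refine ⟨by simp [hC, add_mul, mul_add, sub_mul, mul_sub, te_mul_te, hvv', S.comm₂ hvv', S.alt₂],
      u * d * u⁻¹ * d⁻¹, M.mul_mem (M.mul_mem (M.mul_mem hu hd) (M.inv_mem hu)) (M.inv_mem hd), ?_⟩
    rw [Units.val_mul, Units.val_mul, Units.val_mul, coe_inv_of_eq hH2 huH, coe_inv_of_eq hD2 hdD, huH, hdD]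
    have expand : (1 + H) * (1 + D) * (1 - H) * (1 - D) = 1 + (H * D - D * H - H * D * H + D * H * D +
        H * D * H * D) - H * H * (1 - D) - D * D - H * (D * D) := by
      simp only [add_mul, mul_add, sub_mul, mul_sub, one_mul, mul_one, mul_assoc]
      abel
    rw [expand, hH2, hD2, hHDH, hDHD, hHD, hDH, hC]
    simp only [zero_mul, mul_zero, sub_zero, add_zero]
  have hu' : ∃ x, S.B₂ v x = 0 ∧ S.B₂ v' x = 0 ∧ x ∉ Submodule.span F {v, v'} := by
    obtain ⟨x, hx, hx', -⟩ := exists_avoid S ![v, v', v] _ _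
      (lt_of_le_of_lt (Nat.add_le_add_right (finrank_span_pair_le v v') 3) (by omega))
      (lt_of_le_of_lt (Nat.add_le_add_right (finrank_span_pair_le v v') 3) (by omega))
    exact ⟨x, hx 0, hx 1, hx'⟩
  obtain ⟨x, hvx, hv'x, hxn⟩ := hu'
  have hv'n : v' ∉ Submodule.span F {v, x} := fun hm => by
    obtain ⟨s, t, hst⟩ := Submodule.mem_span_pair.1 hm
    rcases eq_or_ne t 0 with rfl | ht
    · exact hv' (Submodule.mem_span_singleton.2 ⟨s, by simpa using hst⟩)
    · exact hxn (Submodule.mem_span_pair.2 ⟨-(t⁻¹ * s), t⁻¹, by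
        rw [← hst, smul_add, smul_smul, smul_smul, inv_mul_cancel₀ ht, one_smul, neg_smul]; abel⟩)
  obtain ⟨w, hw, hz⟩ := exists_partner S hv'n 1
  have hvw : S.B₂ v w = 0 := hz v (Submodule.subset_span (by simp))
  have hxw : S.B₂ x w = 0 := hz x (Submodule.subset_span (by simp))
  have hB := hM.siegel 1 (S.comm₂ hxw)
  rw [one_smul] at hB
  have e1 : C * S.sk 1 1 w x = -te K v (S.B₂ x) := LinearMap.ext fun m => by
    simp [hC, Pair.sk, te_apply, ev_pure, hvw, hvx, hv'x, hw]
  have e2 : S.sk 1 1 w x * C = te K' x (S.B₂ v) := LinearMap.ext fun m => by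
    simp [hC, Pair.sk, te_apply, ev_pure, S.comm₂ hvw, S.comm₂ hvx, S.comm₂ hv'x, S.skew₂ v' w, hw,
      Matrix.neg_mulVec]
  have h3 := MN.bracket hC1 hB
    (by rw [e1]; exact LinearMap.ext fun m => by simp [hC, te_apply, ev_pure, S.comm₂ hvx, S.comm₂ hv'x])
    (by rw [e2]; exact LinearMap.ext fun m => by simp [Pair.sk, te_apply, ev_pure, hvw, hvx])
  rw [e1, e2] at h3
  have h4 : MN M (S.sk K K' v x) := by
    convert h3.neg using 1
    refine LinearMap.ext fun m => ?_
    simp [Pair.sk, add_comm]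
  have hx : x ∉ Submodule.span F {v} := fun h => hxn (Submodule.span_mono (by simp) h)
  exact ⟨(1 : F) • K, hM.inL hb hadj hv hx h4 1, fun t => by rw [one_smul]; exact hns t⟩

end Cfsg.Agent.H72.SympWreath
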