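import Cfsg.Agent.H72.SympWreath.Global

/-!
What commutes with every slot is a scalar.
-/

set_option autoImplicit false

namespace Cfsg.Agent.H72.SympWreath

open QuadraticMap Module Matrix Cfsg.Agent.Orthogonal Cfsg.Agent.H98 Cfsg.Agent.H98.ExtField Cfsg.Agent.H98.TensorGL
  Cfsg.Agent.H98.TensorSp Cfsg.Agent.H96.TensorPower

variable {F : Type*} [Field F] {k t : ℕ}

theorem central (hk : 0 < k) {h : Module.End F (Sp F k t)} (hc : ∀ i f, Commute h (slot i f)) :
    ∃ c : F, h = c • 1 := by
  classical
  let e : Fin k → F := Pi.single ⟨0, hk⟩ 1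
  have he : e ≠ 0 := by simp [e]
  let φ : Dual F (Fin k → F) := LinearMap.proj ⟨0, hk⟩
  have hφ : φ e = 1 := by simp [φ, e]
  let p₀ : Sp F k t := pureT fun _ => e
  have hfix : ∀ s : Finset (Fin t), ∃ f : Module.End F (Sp F k t), Commute h f ∧
      ∀ x, f (pureT x) = (∏ l ∈ s, φ (x l)) • pureT (fun l => if l ∈ s then e else x l) := by
    intro s
    induction s using Finset.induction_on with
    | empty => exact ⟨1, Commute.one_right h, fun x => by simp⟩
    | @insert i s hi ih =>
      obtain ⟨f, hf, hfx⟩ := ih
      refine ⟨slot i (φ.smulRight e) * f, (hc i _).mul_right hf, fun x => ?_⟩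
      rw [Module.End.mul_apply, hfx, map_smul, slot_pureT, if_neg hi, LinearMap.smulRight_apply, pureT_smul,
        smul_smul, Finset.prod_insert hi, mul_comm]
      congr 2
      funext l
      rcases eq_or_ne l i with rfl | hl
      · simp
      · simp [hl]
  obtain ⟨f, hf, hfx⟩ := hfix Finset.univ
  have hline : ∀ m, ∃ c : F, f m = c • p₀ := by
    intro m
    have : LinearMap.range f ≤ Submodule.span F {p₀} := by
      rw [LinearMap.range_eq_map, ← span_pure (W := (Submodule.span F {p₀}).comap f) fun x => ?_]
      · exact Submodule.map_comap_le _ _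
      rw [Submodule.mem_comap, hfx]
      exact Submodule.smul_mem _ _ (by simp only [Finset.mem_univ, if_true]; exact Submodule.mem_span_singleton_self _)
    obtain ⟨c, hc⟩ := Submodule.mem_span_singleton.1 (this (LinearMap.mem_range_self f m))
    exact ⟨c, hc.symm⟩
  obtain ⟨c, hcf⟩ := hline (h p₀)
  have hp₀ : h p₀ = c • p₀ := by
    rw [← hcf, ← Module.End.mul_apply, ← hf.eq, Module.End.mul_apply, hfx]
    simp [p₀, hφ]
  refine ⟨c, ext_pure fun x => ?_⟩
  have key : ∀ s : Finset (Fin t), h (pureT fun l => if l ∈ s then x l else e) =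
      c • pureT (fun l => if l ∈ s then x l else e) := by
    intro s
    induction s using Finset.induction_on with
    | empty => simpa using hp₀
    | @insert i s hi ih =>
      have e1 : pureT (fun l => if l ∈ insert i s then x l else e) =
          slot i (φ.smulRight (x i)) (pureT fun l => if l ∈ s then x l else e) := by
        rw [slot_pureT, if_neg hi, LinearMap.smulRight_apply, hφ, one_smul]
        congr 1
        funext l
        rcases eq_or_ne l i with rfl | hl
        · simp
        · simp [hl]
      rw [e1, ← Module.End.mul_apply, (hc i _).eq, Module.End.mul_apply, ih, map_smul]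
  simpa using key Finset.univ

namespace Base

variable (D : Base F k t)

/-- The map `z ↦ β(b, z) a`. -/
noncomputable def tauL (a b : Fin k → F) : (Fin k → F) →ₗ[F] (Fin k → F) := (D.β b).smulRight a

theorem root_eq (i : Fin t) (v : Fin k → F) : D.root i v = slot i (D.tauL v v) := rfl

theorem slot_mul (i : Fin t) (f g : (Fin k → F) →ₗ[F] (Fin k → F)) :
    (slot i f * slot i g : Module.End F (Sp F k t)) = slot i (f ∘ₗ g) := slot_comp i f g

theorem root_comm {i j : Fin t} (h : i ≠ j) (v w : Fin k → F) : Commute (D.root i v) (D.root j w) :=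
  slot_comm h _ _

/-- A map commuting with the roots of a slot commutes with the slot. -/
theorem comm_slot {h : Module.End F (Sp F k t)} {i : Fin t} (hr : ∀ v, Commute h (D.root i v))
    (f : (Fin k → F) →ₗ[F] (Fin k → F)) : Commute h (slot i f) := by
  let W : Submodule F ((Fin k → F) →ₗ[F] (Fin k → F)) :=
    { carrier := {g | Commute h (slot i g)}
      add_mem' := fun {a b} ha hb => by
        show Commute h (slot i (a + b))
        rw [slot_add]
        exact Commute.add_right ha hb
      zero_mem' := by
        show Commute h (slot i 0)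
        rw [slot_zero]
        exact Commute.zero_right h
      smul_mem' := fun c a ha => by
        show Commute h (slot i (c • a))
        rw [slot_smul]
        exact Commute.smul_right ha c }
  have hne : ∀ a b, D.β a b ≠ 0 → D.tauL a b ∈ W := fun a b hab => by
    have h1 : Commute h (slot i (D.tauL a a ∘ₗ D.tauL b b)) := by
      rw [← slot_mul]
      exact (hr a).mul_right (hr b)
    have e : D.tauL a b = (D.β a b)⁻¹ • (D.tauL a a ∘ₗ D.tauL b b) := LinearMap.ext fun z => by
      simp only [tauL, LinearMap.smul_apply, LinearMap.comp_apply, LinearMap.smulRight_apply, map_smul, smul_smul]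
      congr 1
      field_simp
    rw [e]
    exact W.smul_mem _ h1
  have hall : ∀ a b, D.tauL a b ∈ W := fun a b => by
    by_cases hab : D.β a b ≠ 0
    · exact hne a b hab
    push Not at hab
    rcases eq_or_ne a 0 with rfl | ha
    · rw [show D.tauL 0 b = 0 from LinearMap.ext fun z => by simp [tauL]]
      exact W.zero_mem
    obtain ⟨f, hf⟩ := not_forall.1 fun h0 => ha (D.nd a h0)
    have e : D.tauL a b = D.tauL a (b + f) - D.tauL a f := LinearMap.ext fun z => by
      simp [tauL, add_smul]
    rw [e]
    exact W.sub_mem (hne a _ (by rw [map_add, hab, zero_add]; exact hf)) (hne a f hf)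
  show f ∈ W
  choose d hd using fun j : Fin k => (D.pair i).rep₂ (LinearMap.proj j)
  have e : f = ∑ j, D.tauL (f (Pi.single j 1)) (d j) := LinearMap.ext fun z => by
    conv_lhs => rw [pi_eq_sum_univ' z, map_sum]
    rw [LinearMap.sum_apply]
    refine Finset.sum_congr rfl fun j _ => ?_
    rw [map_smul, tauL, LinearMap.smulRight_apply, show D.β (d j) = LinearMap.proj j from hd j]
    rfl
  rw [e]
  exact W.sum_mem fun j _ => hall _ _

theorem eq_scalar_of_comm {h : Module.End F (Sp F k t)} (hr : ∀ i v, Commute h (D.root i v)) :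
    ∃ c : F, h = c • 1 := central D.k_pos fun i f => D.comm_slot (hr i) f

theorem root_not_central (i : Fin t) {w : Fin k → F} (hw : w ≠ 0) :
    ∃ v, ¬ Commute (D.root i w) (D.root i v) := by
  obtain ⟨v, hv⟩ := not_forall.1 fun h => hw (D.nd w h)
  refine ⟨v, fun hc => ?_⟩
  have h := congrArg (cj F k i) hc.eq
  rw [map_mul, map_mul, D.cj_root, D.cj_root, te_mul_te, te_mul_te] at h
  let u : Fin (rk k t i) → F := fun _ => 1
  have h1 := congrArg (ev ((D.pair i).B₂ w)) (LinearMap.congr_fun h (TensorGL.pure v u))
  simp only [LinearMap.smul_apply, map_smul, te_apply, ev_pure, Matrix.one_mul, Matrix.one_mulVec, smul_smul,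
    Base.pair] at h1
  have h2 := congrFun h1 ⟨0, D.rk_pos i⟩
  simp only [Pi.smul_apply, u, smul_eq_mul, mul_one] at h2
  rw [D.skew w v, D.alt v, D.alt w] at h2
  simp [hv] at h2

end Base

end Cfsg.Agent.H72.SympWreath
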