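import Cfsg.Agent.H72.SympWreath.Alg

/-!
Square-zero elements of full rank over one slot: deficient support, tensor type, rank bound.
-/

set_option autoImplicit false

namespace Cfsg.Agent.H72.SympWreath

open Module Matrix Cfsg.Agent.H98 Cfsg.Agent.H98.ExtField Cfsg.Agent.H98.TensorGL Cfsg.Agent.H98.TensorSp

variable {F : Type*} [Field F] {a b : ℕ} {S : Pair F a b} {M : Subgroup (Module.End F (T F a b))ˣ}

/-- The column at `v`. -/
abbrev col (a : ℕ) {b : ℕ} (v : Fin b → F) : Submodule F (T F a b) := LinearMap.range (TensorGL.pure v)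

/-- The tensors with second components in `Z`. -/
def oth (b : ℕ) {a : ℕ} (Z : Submodule F (Fin a → F)) : Submodule F (T F a b) :=
  ⨅ φ : Dual F (Fin b → F), Z.comap (ev φ)

theorem mem_oth {Z : Submodule F (Fin a → F)} {m : T F a b} : m ∈ oth b Z ↔ ∀ φ, ev φ m ∈ Z := by
  simp [oth]

theorem pure_mem_oth {Z : Submodule F (Fin a → F)} (v : Fin b → F) {z : Fin a → F} (hz : z ∈ Z) :
    TensorGL.pure v z ∈ oth b Z := mem_oth.2 fun φ => by rw [ev_pure]; exact Z.smul_mem _ hz

theorem exists_dual_one {v : Fin b → F} {U : Submodule F (Fin b → F)} (hv : v ∉ U) :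
    ∃ φ : Dual F (Fin b → F), φ v = 1 ∧ ∀ x ∈ U, φ x = 0 := by
  obtain ⟨φ, hφ, hle⟩ := Submodule.exists_le_ker_of_notMem hv
  exact ⟨(φ v)⁻¹ • φ, by rw [LinearMap.smul_apply, smul_eq_mul, inv_mul_cancel₀ hφ],
    fun x hx => by rw [LinearMap.smul_apply, LinearMap.mem_ker.1 (hle hx), smul_zero]⟩

theorem exists_dual_pure {v : Fin b → F} (hv : v ≠ 0) : ∃ φ : Dual F (Fin b → F), φ v = 1 := by
  obtain ⟨φ, h, -⟩ := exists_dual_one (U := ⊥) (v := v) (by rwa [Submodule.mem_bot])
  exact ⟨φ, h⟩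

theorem finrank_col {v : Fin b → F} (hv : v ≠ 0) : finrank F (col a v) = a := by
  rw [LinearMap.finrank_range_of_inj (pure_injective hv), finrank_fin_fun]

theorem Bt_pure' (v : Fin b → F) (u : Fin a → F) (y : T F a b) :
    S.Bt y (TensorGL.pure v u) = S.B₁ u (ev (S.B₂ v) y) := by rw [S.Bt_comm, S.Bt_pure]

theorem Bt_nd {x : T F a b} (h : ∀ y, S.Bt x y = 0) : x = 0 := by
  have h1 : ∀ v, ev (S.B₂ v) x = 0 := fun v => S.nd₁' fun u => by rw [← Bt_pure']; exact h _
  funext i
  exact S.nd₂ _ fun v => by rw [S.skew₂, show S.B₂ v (x i) = 0 from congrFun (h1 v) i, neg_zero]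

theorem GenR.skew (hM : GenR S M) {N : Module.End F (T F a b)} (hN : MN M N) (x y : T F a b) :
    S.Bt (N x) y + S.Bt x (N y) = 0 := by
  have h1 := mn_skew hM hN x (N y)
  have h2 := mn_skew hM hN x y
  rw [← Module.End.mul_apply N N, hN.1, LinearMap.zero_apply, S.Bt_comm x 0, S.Bt_zero_left,
    S.Bt_comm (N x) 0, S.Bt_zero_left, add_zero, add_zero] at h1
  rwa [h1, add_zero] at h2

theorem GenR.apply_eq_zero (hM : GenR S M) {N : Module.End F (T F a b)} (hN : MN M N) {m : T F a b}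
    (h : ∀ p ∈ LinearMap.range N, S.Bt m p = 0) : N m = 0 := Bt_nd (S := S) fun y => by
  have := hM.skew hN m y
  rwa [h _ (LinearMap.mem_range_self _ _), add_zero] at this

/-- Any non-zero vector is reached by transvections. -/
theorem orbit (S : Pair F a b) {P : (Fin b → F) → Prop}
    (step : ∀ v (t : F) e, P v → P (v + (t * S.B₂ e v) • e)) {v w : Fin b → F} (hv : v ≠ 0) (hw : w ≠ 0)
    (h : P v) : P w := by
  have one : ∀ v w, S.B₂ v w ≠ 0 → P v → P w := fun v w hvw h => by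
    have hne : S.B₂ (w - v) v ≠ 0 := by
      rw [map_sub, LinearMap.sub_apply, S.alt₂, sub_zero, S.skew₂, neg_ne_zero]; exact hvw
    have := step v (S.B₂ (w - v) v)⁻¹ (w - v) h
    rwa [inv_mul_cancel₀ hne, one_smul, add_sub_cancel] at this
  obtain ⟨f₁, h₁⟩ := not_forall.1 fun h0 => hv (S.nd₂ v h0)
  obtain ⟨f₂, h₂⟩ : ∃ f, S.B₂ f w ≠ 0 := by
    by_contra hc
    push Not at hc
    exact hw (S.nd₂ w fun y => by rw [S.skew₂, hc y, neg_zero])
  by_cases h3 : S.B₂ f₁ w = 0
  · by_cases h4 : S.B₂ v f₂ = 0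
    · exact one _ _ (by rw [map_add, LinearMap.add_apply, h3, zero_add]; exact h₂)
        (one v (f₁ + f₂) (by rw [map_add, h4, add_zero]; exact h₁) h)
    · exact one _ _ h₂ (one v f₂ h4 h)
  · exact one _ _ h3 (one v f₁ h₁ h)

theorem te_conj (K : Matrix (Fin a) (Fin a) F) (t : F) (v e : Fin b → F) :
    (1 + te (t • (1 : Matrix (Fin a) (Fin a) F)) e (S.B₂ e)) * te K v (S.B₂ v) *
      (1 - te (t • (1 : Matrix (Fin a) (Fin a) F)) e (S.B₂ e)) =
    te K (v + (t * S.B₂ e v) • e) (S.B₂ (v + (t * S.B₂ e v) • e)) := by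
  refine LinearMap.ext fun m => funext fun i => ?_
  have he : ev (S.B₂ v + (t * S.B₂ e v) • S.B₂ e) m = ev (S.B₂ v) m + (t * S.B₂ e v) • ev (S.B₂ e) m :=
    funext fun j => by simp
  simp only [Module.End.mul_apply, LinearMap.add_apply, LinearMap.sub_apply, Module.End.one_apply, te_apply,
    map_sub, ev_pure, he, Matrix.smul_mulVec, Matrix.one_mulVec, Matrix.mulVec_smul, Matrix.mulVec_add,
    map_add, map_smul, Pi.add_apply, Pi.sub_apply, Pi.smul_apply, TensorGL.pure_apply, smul_eq_mul, S.skew₂ e v]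
  module

theorem GenR.mn_te_move (hM : GenR S M) {K : Matrix (Fin a) (Fin a) F} {v w : Fin b → F}
    (h : MN M (te K v (S.B₂ v))) (hv : v ≠ 0) (hw : w ≠ 0) : MN M (te K w (S.B₂ w)) := by
  refine orbit S (P := fun v => MN M (te K v (S.B₂ v))) (fun v t e hve => ?_) hv hw h
  obtain ⟨hE, u, hu, huE⟩ := hM.right t e
  have := hve.conj hu
  rwa [coe_inv_of_eq hE huE, huE, te_conj] at this

/-- A member supported on one line is a scalar root. -/
theorem GenR.scalar_of_te (hM : GenR S M) (hb : 6 ≤ b) (hns : ¬ HasL S M) {K : Matrix (Fin a) (Fin a) F}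
    {v : Fin b → F} (hv : v ≠ 0) (h : MN M (te K v (S.B₂ v))) : ∃ t : F, K = t • 1 := by
  obtain ⟨w, hw, -⟩ := exists_partner S (U := ⊥) (w := v) (by rwa [Submodule.mem_bot]) 1
  have hadj : S.IsAdj K K := fun x y => by
    have := hM.skew h (TensorGL.pure w x) (TensorGL.pure w y)
    simp only [te_apply, ev_pure, hw, one_smul, S.Bt_pure_pure, S.skew₂ v w] at this
    linear_combination this
  have h1 : finrank F (Submodule.span F ({v} : Set (Fin b → F))) + 3 < b := by
    rw [finrank_span_singleton hv]; omega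
  obtain ⟨y, hy, hyn, -⟩ := exists_avoid S ![v, v, v] _ _ h1 h1
  have hvy : S.B₂ v y = 0 := hy 0
  have hy0 : y ≠ 0 := fun e => hyn (e ▸ Submodule.zero_mem _)
  have hsum : v + y ≠ 0 := fun e => hyn (by
    rw [eq_neg_of_add_eq_zero_right e]
    exact Submodule.neg_mem _ (Submodule.mem_span_singleton_self v))
  have hz : ∀ {p r : Fin b → F}, S.B₂ p r = 0 → te K p (S.B₂ p) * te K r (S.B₂ r) = 0 :=
    fun hpr => by rw [te_mul_te, hpr, zero_smul]
  have hs : S.B₂ (v + y) v = 0 := by rw [map_add, LinearMap.add_apply, S.alt₂, S.comm₂ hvy, add_zero]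
  have hs' : S.B₂ (v + y) y = 0 := by rw [map_add, LinearMap.add_apply, S.alt₂, hvy, add_zero]
  have h2 := ((hM.mn_te_move h hv hsum).sub h (hz hs) (hz (S.comm₂ hs))).sub (hM.mn_te_move h hv hy0)
    (by rw [sub_mul, hz hs', hz hvy, sub_zero]) (by rw [mul_sub, hz (S.comm₂ hs'), hz (S.comm₂ hvy), sub_zero])
  have h3 : MN M (S.sk K K v y) := by
    convert h2 using 1
    refine LinearMap.ext fun m => funext fun i => ?_
    have e : ev (S.B₂ (v + y)) m = ev (S.B₂ v) m + ev (S.B₂ y) m := funext fun i => by simp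
    simp only [Pair.sk, LinearMap.add_apply, LinearMap.sub_apply, te_apply]
    rw [e]
    simp only [Matrix.mulVec_add, map_add, TensorGL.pure_apply, Pi.add_apply, Pi.sub_apply, smul_add]
    abel
  by_contra hne
  exact hns ⟨(1 : F) • K, hM.inL hb hadj hv hyn h3 1, fun t ht => hne ⟨t, by rw [← ht, one_smul]⟩⟩

/-- An element whose image is a column is a root. -/
theorem GenR.eq_root (hM : GenR S M) (hb : 6 ≤ b) (ha : 0 < a) (hns : ¬ HasL S M) {N : Module.End F (T F a b)}
    (hN : MN M N) {s : Fin b → F} (hs : s ≠ 0) (hr : LinearMap.range N = col a s) :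
    ∃ t : F, t ≠ 0 ∧ N = te (t • (1 : Matrix (Fin a) (Fin a) F)) s (S.B₂ s) := by
  obtain ⟨φ, hφ⟩ := exists_dual_pure hs
  obtain ⟨w, hw, -⟩ := exists_partner S (U := ⊥) (w := s) (by rwa [Submodule.mem_bot]) 1
  set K := LinearMap.toMatrix' (ev φ ∘ₗ N ∘ₗ TensorGL.pure w) with hKdef
  have hN' : N = te K s (S.B₂ s) := LinearMap.ext fun m => by
    have h0 : N (m - TensorGL.pure w (ev (S.B₂ s) m)) = 0 := hM.apply_eq_zero hN fun p hp => by
      rw [hr] at hp
      obtain ⟨z, rfl⟩ := hp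
      rw [Bt_pure', map_sub, ev_pure, hw, one_smul, sub_self, map_zero]
    rw [map_sub, sub_eq_zero] at h0
    obtain ⟨z, hz⟩ := hr.le (LinearMap.mem_range_self N (TensorGL.pure w (ev (S.B₂ s) m)))
    rw [h0, te_apply, hKdef, LinearMap.toMatrix'_mulVec, LinearMap.comp_apply, LinearMap.comp_apply, ← hz,
      ev_pure, hφ, one_smul]
  obtain ⟨t, ht⟩ := hM.scalar_of_te hb hns hs (hN' ▸ hN)
  refine ⟨t, fun h0 => ?_, by rw [hN', ht]⟩
  have : finrank F (LinearMap.range N) = a := by rw [hr, finrank_col hs]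
  rw [hN', ht, h0, zero_smul, te_zero_left, LinearMap.range_zero, finrank_bot] at this
  omega

/-- An image orthogonal to a column is a column. -/
theorem GenR.col_of_perp (hM : GenR S M) (hb : 6 ≤ b) (ha : 0 < a) (hns : ¬ HasL S M)
    {N : Module.End F (T F a b)} (hN : MN M N) (hrk : finrank F (LinearMap.range N) = a) {x : Fin b → F}
    (hx : x ≠ 0) (hxN : ∀ m, ev (S.B₂ x) (N m) = 0) :
    ∃ s, s ≠ 0 ∧ S.B₂ x s = 0 ∧ ∃ t : F, t ≠ 0 ∧ N = te (t • (1 : Matrix (Fin a) (Fin a) F)) s (S.B₂ s) := by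
  suffices ∃ s, s ≠ 0 ∧ LinearMap.range N = col a s by
    obtain ⟨s, hs, hr⟩ := this
    refine ⟨s, hs, ?_, hM.eq_root hb ha hns hN hs hr⟩
    obtain ⟨m, hm⟩ := hr.ge ⟨fun _ => 1, rfl⟩
    have := congrFun (hxN m) ⟨0, ha⟩
    rw [hm, ev_pure] at this
    simpa using this
  have halt : ∀ x, x ≠ 0 → (∀ m, ev (S.B₂ x) (N m) = 0) →
      LinearMap.range N = col a x ∨ ∃ z, ∀ m i, N m i ∈ Submodule.span F {z, x} := by
    intro x hx hxN
    have hNx : ∀ z, N (TensorGL.pure x z) = 0 := fun z => hM.apply_eq_zero hN fun p hp => by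
      obtain ⟨m, rfl⟩ := hp
      rw [S.Bt_pure, hxN, map_zero]
    by_cases hz : ∀ y, S.B₂ x y = 0 → ∀ z, N (TensorGL.pure y z) ∈ col a x
    · left
      by_cases h0 : ∀ y, S.B₂ x y = 0 → ∀ z, N (TensorGL.pure y z) = 0
      · refine Submodule.eq_of_le_of_finrank_eq ?_ (by rw [hrk, finrank_col hx])
        rintro _ ⟨m, rfl⟩
        refine mem_range_pure₂ S fun w hw => S.nd₁' fun u => ?_
        have := hM.skew hN (TensorGL.pure w u) m
        rwa [h0 w (S.comm₂ hw), S.Bt_zero_left, zero_add, S.Bt_pure] at this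
      push Not at h0
      obtain ⟨y, hxy, z₀, hz₀⟩ := h0
      have hy : y ∉ Submodule.span F {x} := fun hm => by
        obtain ⟨r, rfl⟩ := Submodule.mem_span_singleton.1 hm
        refine hz₀ ?_
        rw [show TensorGL.pure (r • x) z₀ = r • TensorGL.pure x z₀ from
          funext fun i => by simp [smul_comm r], map_smul, hNx, smul_zero]
      obtain ⟨φ, hφ⟩ := exists_dual_pure hx
      set K := LinearMap.toMatrix' (ev φ ∘ₗ N ∘ₗ TensorGL.pure y) with hKdef
      have hK : ∀ u, N (TensorGL.pure y u) = TensorGL.pure x (K *ᵥ u) := fun u => by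
        obtain ⟨r, hr⟩ := hz y hxy u
        rw [hKdef, LinearMap.toMatrix'_mulVec, LinearMap.comp_apply, LinearMap.comp_apply, ← hr, ev_pure, hφ,
          one_smul]
      obtain ⟨t, ht⟩ : ∃ t : F, K = t • 1 := by
        by_contra hne
        push Not at hne
        exact hns (hM.of_radical hb hN hx hy hxy hNx hK hne)
      have ht0 : t ≠ 0 := fun e => hz₀ (by rw [hK, ht, e, zero_smul, Matrix.zero_mulVec, map_zero])
      refine (Submodule.eq_of_le_of_finrank_eq ?_ (by rw [hrk, finrank_col hx])).symm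
      rintro _ ⟨r, rfl⟩
      exact ⟨TensorGL.pure y (t⁻¹ • r), by
        rw [hK, ht, Matrix.smul_mulVec, Matrix.one_mulVec, smul_smul, mul_inv_cancel₀ ht0, one_smul]⟩
    right
    push Not at hz
    obtain ⟨y, hxy, z₀, hz₀⟩ := hz
    have hy : y ∉ Submodule.span F {x} := fun hm => by
      obtain ⟨r, rfl⟩ := Submodule.mem_span_singleton.1 hm
      refine hz₀ ?_
      rw [show TensorGL.pure (r • x) z₀ = r • TensorGL.pure x z₀ from
        funext fun i => by simp [smul_comm r], map_smul, hNx, smul_zero]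
      exact Submodule.zero_mem _
    have hscal : ∀ w, S.B₂ x w = 0 → ∃ t : F, ∀ u, ev (S.B₂ w) (N (TensorGL.pure y u)) = t • u := by
      intro w hw
      have hA := hM.siegel 1 hw
      rw [one_smul] at hA
      set A := S.sk 1 1 x w with hAdef
      have hA' : ∀ m, A m = TensorGL.pure x (ev (S.B₂ w) m) + TensorGL.pure w (ev (S.B₂ x) m) := fun m => by
        simp [hAdef, Pair.sk, te_apply]
      have hAN : ∀ m, A (N m) = TensorGL.pure x (ev (S.B₂ w) (N m)) := fun m => by
        rw [hA', hxN, map_zero, add_zero]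
      have hNAN : N * A * N = 0 := LinearMap.ext fun m => by
        rw [Module.End.mul_apply, Module.End.mul_apply, hAN, hNx, LinearMap.zero_apply]
      have hD := MN.twist hA hN hNAN
      set K := LinearMap.toMatrix' (ev (S.B₂ w) ∘ₗ N ∘ₗ TensorGL.pure y) with hKdef
      have hAp : ∀ z, S.B₂ x z = 0 → ∀ u, A (TensorGL.pure z u) = TensorGL.pure x (S.B₂ w z • u) := fun z hz u => by
        rw [hA', ev_pure, ev_pure, hz, zero_smul, map_zero, add_zero]
      by_contra hne
      refine hns (hM.of_radical hb hD hx hy hxy (fun u => ?_) (K := K) (fun u => ?_) fun t ht => hne ⟨t, fun u => ?_⟩)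
      · simp only [LinearMap.sub_apply, Module.End.mul_apply, hAp x (S.alt₂ x), hNx, map_zero, sub_zero]
      · simp only [LinearMap.sub_apply, Module.End.mul_apply, hAp y hxy, hNx, map_zero, sub_zero, hAN, hKdef,
          LinearMap.toMatrix'_mulVec, LinearMap.comp_apply]
      · have := LinearMap.toMatrix'_mulVec (ev (S.B₂ w) ∘ₗ N ∘ₗ TensorGL.pure y) u
        rw [← hKdef, ht, Matrix.smul_mulVec, Matrix.one_mulVec] at this
        exact this.symm
    obtain ⟨z, hzz⟩ : ∃ z, ∀ u, N (TensorGL.pure y u) - TensorGL.pure z u ∈ col a x := by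
      refine ⟨N (TensorGL.pure y (Pi.single ⟨0, ha⟩ 1)) ⟨0, ha⟩, fun u => mem_range_pure₂ S fun w hw => ?_⟩
      obtain ⟨t, ht⟩ := hscal w (S.comm₂ hw)
      have h1 := congrFun (ht (Pi.single ⟨0, ha⟩ 1)) ⟨0, ha⟩
      simp only [ev_apply, Pi.smul_apply, Pi.single_eq_same, smul_eq_mul, mul_one] at h1
      rw [map_sub, ht, ev_pure, h1, sub_self]
    have hzx : z ∉ Submodule.span F {x} := fun hm => by
      obtain ⟨s, rfl⟩ := Submodule.mem_span_singleton.1 hm
      obtain ⟨r, hr⟩ := hzz z₀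
      exact hz₀ ⟨r + s • z₀, by
        rw [map_add, hr, show TensorGL.pure x (s • z₀) = TensorGL.pure (s • x) z₀ from
          funext fun i => by simp [smul_smul, mul_comm], sub_add_cancel]⟩
    refine ⟨z, fun m i => ?_⟩
    set Z := N ∘ₗ TensorGL.pure y with hZ
    have hZinj : Function.Injective Z := (injective_iff_map_eq_zero Z).2 fun w hw => by
      obtain ⟨r, hr⟩ := hzz w
      rw [show N (TensorGL.pure y w) = 0 from hw, zero_sub] at hr
      refine funext fun j => ?_
      by_contra hj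
      have h1 := congrFun hr j
      rw [TensorGL.pure_apply, Pi.neg_apply, TensorGL.pure_apply] at h1
      refine hzx (Submodule.mem_span_singleton.2 ⟨-((w j)⁻¹ * r j), ?_⟩)
      rw [neg_smul, mul_smul, h1, smul_neg, neg_neg, inv_smul_smul₀ hj]
    have heq : LinearMap.range Z = LinearMap.range N := Submodule.eq_of_le_of_finrank_eq
      (LinearMap.range_comp_le_range _ _)
      (by rw [LinearMap.finrank_range_of_inj hZinj, finrank_fin_fun, hrk])
    obtain ⟨w, hw⟩ := heq.ge ⟨m, rfl⟩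
    obtain ⟨r, hr⟩ := hzz w
    refine Submodule.mem_span_pair.2 ⟨w i, r i, ?_⟩
    have h1 := congrFun hr i
    rw [TensorGL.pure_apply, Pi.sub_apply, TensorGL.pure_apply] at h1
    rw [← hw, hZ, LinearMap.comp_apply, h1, add_sub_cancel]
  rcases halt x hx hxN with h | ⟨z, hz⟩
  · exact ⟨x, hx, h⟩
  have hle := lt_of_le_of_lt (Nat.add_le_add_right (finrank_span_pair_le z x) 3) (show 2 + 3 < b by omega)
  obtain ⟨x', hx', hxn, -⟩ := exists_avoid S ![z, x, z] _ _ hle hle
  have hx'N : ∀ m, ev (S.B₂ x') (N m) = 0 := fun m => funext fun i => by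
    obtain ⟨s, t, hst⟩ := Submodule.mem_span_pair.1 (hz m i)
    have h0 : S.B₂ z x' = 0 := hx' 0
    have h1 : S.B₂ x x' = 0 := hx' 1
    rw [ev_apply, ← hst, map_add, map_smul, map_smul, S.comm₂ h0, S.comm₂ h1, smul_zero, smul_zero, add_zero,
      Pi.zero_apply]
  have hx'0 : x' ≠ 0 := fun e => hxn (e ▸ Submodule.zero_mem _)
  rcases halt x' hx'0 hx'N with h | ⟨z', hz'⟩
  · exact ⟨x', hx'0, h⟩
  obtain ⟨s, hs⟩ : ∃ s, Submodule.span F {z, x} ⊓ Submodule.span F {z', x'} ≤ Submodule.span F {s} := by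
    have hlt : Submodule.span F {z, x} ⊓ Submodule.span F {z', x'} < Submodule.span F {z', x'} :=
      lt_of_le_not_ge inf_le_right fun h => hxn (h (Submodule.subset_span (by simp))).1
    have h1 := Submodule.finrank_lt_finrank_of_lt hlt
    have h2 := finrank_span_pair_le z' x'
    by_cases hbot : Submodule.span F {z, x} ⊓ Submodule.span F {z', x'} = ⊥
    · exact ⟨0, by rw [hbot]; exact bot_le⟩
    obtain ⟨s, hs, hs0⟩ := Submodule.exists_mem_ne_zero_of_ne_bot hbot
    refine ⟨s, le_of_eq (Submodule.eq_of_le_of_finrank_le ((Submodule.span_singleton_le_iff_mem _ _).2 hs)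
      ?_).symm⟩
    rw [finrank_span_singleton hs0]
    omega
  have hle' : LinearMap.range N ≤ col a s := by
    rintro _ ⟨m, rfl⟩
    choose c hc using fun i => Submodule.mem_span_singleton.1 (hs ⟨hz m i, hz' m i⟩)
    exact ⟨c, funext fun i => hc i⟩
  have hs0 : s ≠ 0 := by
    rintro rfl
    have h0 : col a (0 : Fin b → F) = ⊥ := LinearMap.range_eq_bot.2 (LinearMap.ext fun u => funext fun i => by simp)
    rw [h0, le_bot_iff] at hle'
    rw [hle', finrank_bot] at hrk
    omega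
  exact ⟨s, hs0, Submodule.eq_of_le_of_finrank_eq hle' (by rw [hrk, finrank_col hs0])⟩

/-- An element preserving all columns of one slot is a root, unless it commutes with that slot. -/
theorem GenR.root_of_pure (hM : GenR S M) (hb : 6 ≤ b) (ha : 0 < a) (hns : ¬ HasL S M)
    {N : Module.End F (T F a b)} (hN : MN M N) (hrk : finrank F (LinearMap.range N) = a)
    (hp : ∀ v, v ≠ 0 → ∃ w, ∀ u, (1 + N) (TensorGL.pure v u) ∈ col a w)
    (hJ : ∃ v, N * te (1 : Matrix (Fin a) (Fin a) F) v (S.B₂ v) ≠ te 1 v (S.B₂ v) * N) :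
    ∃ s, s ≠ 0 ∧ ∃ t : F, t ≠ 0 ∧ N = te (t • (1 : Matrix (Fin a) (Fin a) F)) s (S.B₂ s) := by
  obtain ⟨hN2, g, hg, hgN⟩ := hN
  obtain ⟨A, B, hAB⟩ := exists_of_pure ha (by omega) (g := g) fun v hv hnp => by
    obtain ⟨w, hw⟩ := hp v hv
    refine hnp w ?_
    rintro _ ⟨u, rfl⟩
    rw [LinearMap.comp_apply, hgN]
    exact hw u
  set A' := (A : Matrix (Fin a) (Fin a) F)
  set B' := (B : Matrix (Fin b) (Fin b) F)
  have hpure : ∀ v u, (1 + N) (TensorGL.pure v u) = TensorGL.pure (B' *ᵥ v) (A' *ᵥ u) := fun v u => by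
    rw [← hgN, hAB]
    refine funext fun i => ?_
    simp only [TensorGL.pure_apply, Matrix.mulVec_smul, smul_smul, ← Finset.sum_smul]
    rfl
  by_cases hBs : ∀ v, B' *ᵥ v ∈ Submodule.span F {v}
  · exfalso
    obtain ⟨c, hc⟩ := scalar_of_eigen B' hBs
    obtain ⟨v, hv⟩ := hJ
    refine hv ?_
    have hN' : N = lt (c • A') - 1 := by
      rw [eq_sub_iff_add_eq, add_comm, ← hgN]
      exact LinearMap.ext fun m => by
        rw [hAB]
        exact funext fun i => by simp [lt, hc, Matrix.smul_mulVec, smul_smul, mul_comm c, B']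
    rw [hN', sub_mul, mul_sub, lt_mul_te, te_mul_lt, Matrix.mul_one, Matrix.one_mul, one_mul, mul_one]
  push Not at hBs
  obtain ⟨w, hw⟩ := hBs
  by_cases hAs : ∀ u, A' *ᵥ u ∈ Submodule.span F {u}
  · obtain ⟨c, hc⟩ := scalar_of_eigen A' hAs
    have hs : c • (B' *ᵥ w) - w ≠ 0 := fun e => by
      rw [sub_eq_zero] at e
      rcases eq_or_ne c 0 with rfl | hc0
      · rw [zero_smul] at e
        exact hw (by rw [← e, Matrix.mulVec_zero]; exact Submodule.zero_mem _)
      · refine hw (Submodule.mem_span_singleton.2 ⟨c⁻¹, ?_⟩)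
        conv_lhs => rw [← e]
        rw [inv_smul_smul₀ hc0]
    refine ⟨_, hs, hM.eq_root hb ha hns ⟨hN2, g, hg, hgN⟩ hs
      (Submodule.eq_of_le_of_finrank_eq ?_ (by rw [hrk, finrank_col hs])).symm⟩
    rintro _ ⟨u, rfl⟩
    refine ⟨TensorGL.pure w u, ?_⟩
    have := hpure w u
    rw [LinearMap.add_apply, Module.End.one_apply, hc, Matrix.smul_mulVec, Matrix.one_mulVec] at this
    rw [eq_sub_of_add_eq' this]
    exact funext fun i => by simp [smul_sub, smul_smul, mul_comm c]
  exfalso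
  push Not at hAs
  obtain ⟨u₀, hu₀⟩ := hAs
  have hNp : ∀ v u, N (TensorGL.pure v u) = TensorGL.pure (B' *ᵥ v) (A' *ᵥ u) - TensorGL.pure v u := fun v u =>
    eq_sub_of_add_eq' (by rw [← hpure, LinearMap.add_apply, Module.End.one_apply])
  have hw' : w ∉ Submodule.span F {B' *ᵥ w} := fun h => by
    obtain ⟨r, hr⟩ := Submodule.mem_span_singleton.1 h
    rcases eq_or_ne r 0 with rfl | hr0
    · rw [zero_smul] at hr
      exact hw (by rw [← hr, Matrix.mulVec_zero]; exact Submodule.zero_mem _)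
    · exact hw (Submodule.mem_span_singleton.2 ⟨r⁻¹, by conv_lhs => rw [← hr]; rw [inv_smul_smul₀ hr0]⟩)
  obtain ⟨φ, hφ, hφ0⟩ := exists_dual_one hw'
  have hinj : Function.Injective (N ∘ₗ TensorGL.pure w) := (injective_iff_map_eq_zero _).2 fun u hu => by
    have := congrArg (ev φ) hu
    rw [LinearMap.comp_apply, hNp, map_sub, ev_pure, ev_pure, hφ0 _ (Submodule.mem_span_singleton_self _), hφ,
      zero_smul, one_smul, zero_sub, map_zero, neg_eq_zero] at this
    exact this
  have heq : LinearMap.range (N ∘ₗ TensorGL.pure w) = LinearMap.range N := Submodule.eq_of_le_of_finrank_eq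
    (LinearMap.range_comp_le_range _ _) (by rw [LinearMap.finrank_range_of_inj hinj, finrank_fin_fun, hrk])
  obtain ⟨z, hz⟩ : ∃ z, z ∉ Submodule.span F {B' *ᵥ w, w} := by
    by_contra hc
    push Not at hc
    have := Submodule.finrank_mono (show ⊤ ≤ Submodule.span F {B' *ᵥ w, w} from fun z _ => hc z)
    rw [finrank_top, finrank_fin_fun] at this
    have := finrank_span_pair_le (F := F) (B' *ᵥ w) w
    omega
  obtain ⟨ψ, hψ, hψ0⟩ := exists_dual_one hz
  have hid : ∀ m, ψ (B' *ᵥ z) • (A' *ᵥ m) = m := fun m => by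
    obtain ⟨u, hu⟩ := heq.ge ⟨TensorGL.pure z m, rfl⟩
    have := congrArg (ev ψ) hu
    rw [LinearMap.comp_apply, hNp, hNp, map_sub, map_sub, ev_pure, ev_pure, ev_pure, ev_pure,
      hψ0 _ (Submodule.subset_span (by simp)), hψ0 _ (Submodule.subset_span (by simp)), hψ, zero_smul, zero_smul,
      sub_zero, one_smul, eq_comm, sub_eq_zero] at this
    exact this
  refine hu₀ (Submodule.mem_span_singleton.2 ⟨(ψ (B' *ᵥ z))⁻¹, ?_⟩)
  rcases eq_or_ne (ψ (B' *ᵥ z)) 0 with h0 | h0
  · exfalso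
    have := hid u₀
    rw [h0, zero_smul] at this
    exact hu₀ (by rw [← this, Matrix.mulVec_zero]; exact Submodule.zero_mem _)
  · conv_lhs => arg 2; rw [← hid u₀]
    rw [inv_smul_smul₀ h0]

/-- An element of small rank cannot send two columns into the other type. -/
theorem not_col_to_oth (hb : 6 ≤ b) (ha : 0 < a) {N : Module.End F (T F a b)}
    (hrk : finrank F (LinearMap.range N) = a) {x y : Fin b → F} (hx : x ≠ 0) (hy : y ∉ Submodule.span F {x})
    {Z Z' : Submodule F (Fin a → F)} (hZ : b * finrank F Z = a) (hZ' : b * finrank F Z' = a)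
    (h : ∀ u, (1 + N) (TensorGL.pure x u) ∈ oth b Z) (h' : ∀ u, (1 + N) (TensorGL.pure y u) ∈ oth b Z') :
    False := by
  let Φ : (Fin a → F) × (Fin a → F) →ₗ[F] T F a b := (TensorGL.pure x).coprod (TensorGL.pure y)
  obtain ⟨φ, hφ, hφ0⟩ := exists_dual_one hy
  obtain ⟨ψ, hψ, hψ0⟩ := exists_dual_one (not_mem_span_symm hx hy)
  set K := LinearMap.ker (N ∘ₗ Φ) with hKdef
  have hle : K ≤ (Z ⊔ Z').prod (Z ⊔ Z') := by
    rintro ⟨u, v⟩ hK
    rw [hKdef, LinearMap.mem_ker, LinearMap.comp_apply] at hK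
    have hmem : Φ (u, v) ∈ oth b (Z ⊔ Z') := by
      have hfix : (1 + N) (Φ (u, v)) = Φ (u, v) := by
        rw [LinearMap.add_apply, Module.End.one_apply, hK, add_zero]
      rw [← hfix, mem_oth]
      intro χ
      rw [LinearMap.coprod_apply, map_add (1 + N), map_add]
      exact Submodule.add_mem_sup (mem_oth.1 (h u) χ) (mem_oth.1 (h' v) χ)
    refine ⟨?_, ?_⟩
    · have := mem_oth.1 hmem ψ
      rwa [LinearMap.coprod_apply, map_add, ev_pure, ev_pure, hψ, hψ0 _ (Submodule.mem_span_singleton_self y),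
        zero_smul, one_smul, add_zero] at this
    · have := mem_oth.1 hmem φ
      rwa [LinearMap.coprod_apply, map_add, ev_pure, ev_pure, hφ, hφ0 _ (Submodule.mem_span_singleton_self x),
        zero_smul, one_smul, zero_add] at this
  have h1 := LinearMap.finrank_range_add_finrank_ker (N ∘ₗ Φ)
  have h2 := Submodule.finrank_mono (LinearMap.range_comp_le_range Φ N)
  have h3 := Submodule.finrank_mono hle
  have h4 : finrank F ((Z ⊔ Z').prod (Z ⊔ Z')) ≤ finrank F ↥(Z ⊔ Z') + finrank F ↥(Z ⊔ Z') := by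
    rw [← finrank_prod]
    refine (Submodule.finrank_mono ?_).trans (LinearMap.finrank_range_le ((Z ⊔ Z').subtype.prodMap (Z ⊔ Z').subtype))
    rintro ⟨p, r⟩ ⟨hp, hr⟩
    exact ⟨(⟨p, hp⟩, ⟨r, hr⟩), rfl⟩
  have h5 := Submodule.finrank_add_le_finrank_add_finrank Z Z'
  rw [finrank_prod, finrank_fin_fun] at h1
  rw [hrk] at h2
  rw [← hKdef] at h1
  have h6 : 6 * finrank F Z ≤ a := (Nat.mul_le_mul_right _ hb).trans hZ.le
  have h7 : 6 * finrank F Z' ≤ a := (Nat.mul_le_mul_right _ hb).trans hZ'.le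
  omega

/-! ### Contractions -/

/-- The contraction at `x`. -/
def contr (S : Pair F a b) (N : Module.End F (T F a b)) (x : Fin b → F) : Module.End F (Fin a → F) :=
  ev (S.B₂ x) ∘ₗ N ∘ₗ TensorGL.pure x

theorem contr_conj (S : Pair F a b) (N : Module.End F (T F a b)) (x : Fin b → F) :
    contr S ((1 + N) * te (1 : Matrix (Fin a) (Fin a) F) x (S.B₂ x) * (1 - N)) x = -(contr S N x * contr S N x) :=
  LinearMap.ext fun u => by
    simp [contr, te_apply, ev_pure, S.alt₂]

theorem ev_conj_eq_zero (S : Pair F a b) (N : Module.End F (T F a b)) (x : Fin b → F) (h : contr S N x = 0)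
    (m : T F a b) : ev (S.B₂ x) (((1 + N) * te (1 : Matrix (Fin a) (Fin a) F) x (S.B₂ x) * (1 - N)) m) = 0 := by
  have h' : ∀ u, ev (S.B₂ x) (N (TensorGL.pure x u)) = 0 := fun u => LinearMap.congr_fun h u
  simp only [Module.End.mul_apply, LinearMap.add_apply, Module.End.one_apply, te_apply, map_add, h', ev_pure,
    S.alt₂, zero_smul, add_zero]

theorem te_mul_pow_apply (S : Pair F a b) (N : Module.End F (T F a b)) (x : Fin b → F) (n : ℕ) (u : Fin a → F) :
    ((te (1 : Matrix (Fin a) (Fin a) F) x (S.B₂ x) * N) ^ n) (TensorGL.pure x u) =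
      TensorGL.pure x ((contr S N x ^ n) u) := by
  induction n with
  | zero => simp
  | succ n ih =>
    rw [pow_succ', Module.End.mul_apply, ih, pow_succ', Module.End.mul_apply, Module.End.mul_apply, te_apply,
      Matrix.one_mulVec]
    rfl

theorem contr_nilpotent (S : Pair F a b) {N : Module.End F (T F a b)} {x : Fin b → F} (hx : x ≠ 0)
    (h : IsNilpotent (te (1 : Matrix (Fin a) (Fin a) F) x (S.B₂ x) * N)) : IsNilpotent (contr S N x) := by
  obtain ⟨n, hn⟩ := h
  refine ⟨n, LinearMap.ext fun u => pure_injective hx ?_⟩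
  rw [← te_mul_pow_apply, hn, LinearMap.zero_apply, LinearMap.zero_apply, map_zero]

theorem perp_of_nilpotent (ha : 0 < a) {x w : Fin b → F} {t : F} (ht : t ≠ 0)
    (h : IsNilpotent (contr S (te (t • (1 : Matrix (Fin a) (Fin a) F)) w (S.B₂ w)) x)) : S.B₂ x w = 0 := by
  obtain ⟨n, hn⟩ := h
  have e : contr S (te (t • (1 : Matrix (Fin a) (Fin a) F)) w (S.B₂ w)) x =
      (S.B₂ x w * t * S.B₂ w x) • (1 : Module.End F (Fin a → F)) := LinearMap.ext fun u => by
    simp [contr, te_apply, ev_pure, Matrix.smul_mulVec, smul_smul]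
    congr 1
    ring
  rw [e, smul_pow, one_pow] at hn
  have h1 := congrFun (LinearMap.congr_fun hn fun _ => 1) ⟨0, ha⟩
  simp only [LinearMap.smul_apply, Module.End.one_apply, Pi.smul_apply, smul_eq_mul, mul_one,
    LinearMap.zero_apply, Pi.zero_apply] at h1
  have h2 := eq_zero_of_pow_eq_zero h1
  by_contra hne
  rw [S.skew₂ x w] at h2
  exact mul_ne_zero (mul_ne_zero hne ht) (neg_ne_zero.2 hne) h2

end Cfsg.Agent.H72.SympWreath
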