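import Cfsg.Agent.H72.SympWreath.Descent

/-!
Without a non-scalar member of the algebras the group is monomial on pure tensors.
-/

set_option autoImplicit false

namespace Cfsg.Agent.H72.SympWreath

open QuadraticMap Module Matrix Cfsg.Agent.Orthogonal Cfsg.Agent.H98 Cfsg.Agent.H98.ExtField Cfsg.Agent.H98.TensorGL
  Cfsg.Agent.H98.TensorSp Cfsg.Agent.H96.TensorPower

variable {F : Type*} [Field F] {k t : ℕ}

theorem pureT_ne_zero {x : Fin t → Fin k → F} (h : ∀ l, x l ≠ 0) : pureT x ≠ 0 := by
  choose a ha using fun l => Function.ne_iff.1 (h l)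
  exact fun e => Finset.prod_ne_zero_iff.2 (fun l _ => ha l) (congrFun e a)

theorem pureT_mem_Col {x : Fin t → Fin k → F} {i : Fin t} : pureT x ∈ Col i (x i) := by
  rw [← Ls_pure_self i x]
  exact Submodule.mem_map_of_mem (LinearMap.mem_range_self _ _)

theorem Col_inf_eq_bot {i : Fin t} {v w : Fin k → F} (h : w ∉ Submodule.span F {v}) : Col i v ⊓ Col i w = ⊥ := by
  refine map_symm_inj i ?_
  rw [Submodule.map_inf _ (Ls F k i).symm.injective, map_Col, map_Col, Submodule.map_bot, disjoint_col h]

theorem Col_eq_of_inter {i : Fin t} {v w : Fin k → F} (hw : w ≠ 0) {m : Sp F k t} (hm : m ≠ 0)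
    (h1 : m ∈ Col i v) (h2 : m ∈ Col i w) : Col i v = Col i w := by
  by_cases h : w ∈ Submodule.span F {v}
  · obtain ⟨c, rfl⟩ := Submodule.mem_span_singleton.1 h
    refine map_symm_inj i ?_
    rw [map_Col, map_Col, col_eq_of_mem (fun e => hw (by rw [e, zero_smul]))]
  · exact absurd ((Submodule.mem_bot F).1 (Col_inf_eq_bot h ▸ ⟨h1, h2⟩)) hm

/-- Permuting the slots. -/
noncomputable def permL (F : Type*) [Field F] (k : ℕ) (π : Equiv.Perm (Fin t)) : Sp F k t ≃ₗ[F] Sp F k t :=
  LinearEquiv.funCongrLeft F F (Equiv.arrowCongr π.symm (Equiv.refl (Fin k)))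

theorem permL_pureT (π : Equiv.Perm (Fin t)) (x : Fin t → Fin k → F) :
    permL F k π (pureT x) = pureT fun l => x (π.symm l) := by
  funext a
  show (∏ i, x i (a (π i))) = ∏ l, x (π.symm l) (a l)
  rw [← Equiv.prod_comp π (fun l => x (π.symm l) (a l))]
  exact Finset.prod_congr rfl fun i _ => by rw [Equiv.symm_apply_apply]

theorem map_permL_Col (π : Equiv.Perm (Fin t)) (i : Fin t) {v : Fin k → F} (hv : v ≠ 0) :
    (Col i v).map (permL F k π).toLinearMap = Col (π i) v := by
  have hk : 0 < k := by
    by_contra h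
    have : k = 0 := by omega
    subst this
    exact hv (Subsingleton.elim _ _)
  refine Submodule.eq_of_le_of_finrank_eq ?_ (by rw [LinearEquiv.finrank_map_eq, finrank_Col hv, finrank_Col hv])
  rw [Col, ← Submodule.map_comp, col, ← LinearMap.range_comp, LinearMap.range_le_iff_comap, eq_top_iff]
  intro u _
  rw [Submodule.mem_comap]
  have h : (Col (π i) v).mkQ ∘ₗ ((permL F k π).toLinearMap ∘ₗ (Ls F k i).toLinearMap ∘ₗ TensorGL.pure v) = 0 :=
    ext_rest i hk fun x => by
      rw [LinearMap.zero_apply, LinearMap.comp_apply, Submodule.mkQ_apply, Submodule.Quotient.mk_eq_zero,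
        LinearMap.comp_apply, LinearMap.comp_apply, LinearEquiv.coe_coe, LinearEquiv.coe_coe, Ls_pure, permL_pureT]
      have e := pureT_mem_Col (x := fun l => Function.update x i v (π.symm l)) (i := π i)
      simpa using e
  have h2 := LinearMap.congr_fun h u
  rw [LinearMap.zero_apply, LinearMap.comp_apply, Submodule.mkQ_apply, Submodule.Quotient.mk_eq_zero] at h2
  exact h2

namespace Setup

variable {D : Setup F k t} {X : Subgroup (O D.Q)} [Finite F]

theorem Over.col_map (hX : D.Over X) {g : (Module.End F (Sp F k t))ˣ} (hg : g ∈ D.gl X) (i : Fin t)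
    {v : Fin k → F} (hv : v ≠ 0) :
    ∃ l w, w ≠ 0 ∧ (Col i v).map (g : Module.End F (Sp F k t)) = Col l w := by
  obtain ⟨l, w, c, hw, hc, he⟩ := hX.all_col ((hX.rk_root i hv).conj hg)
  refine ⟨l, w, hw, ?_⟩
  have hr := range_conj g (D.root i v)
  have hrv : LinearMap.range (D.root i v) = Col i v := by
    simpa using D.range_root (i := i) hv (one_ne_zero (α := F))
  rw [hrv, he, D.range_root hw hc] at hr
  exact hr.symm

/-- Every member is monomial. -/
theorem Over.monomial (hX : D.Over X) {g : (Module.End F (Sp F k t))ˣ} (hg : g ∈ D.gl X) :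
    ∃ (gs : Fin t → GL (Fin k) F) (π : Equiv.Perm (Fin t)), ∀ x, (g : Module.End F (Sp F k t)) (pureT x) =
      pureT fun l => ((gs l : GL (Fin k) F) : Matrix (Fin k) (Fin k) F) *ᵥ x (π l) := by
  classical
  let e : Fin k → F := Pi.single ⟨0, D.k_pos⟩ 1
  have he : e ≠ 0 := by simp [e]
  choose σ w hw hσ using fun i => hX.col_map hg i he
  have hall : ∀ i y, y ≠ 0 → ∃ s, s ≠ 0 ∧ (Col i y).map (g : Module.End F (Sp F k t)) = Col (σ i) s :=
    fun i y hy => hX.glob hg he (hw i) (hσ i) hy
  have hinj : Function.Injective σ := by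
    intro i i' hii
    by_contra hne
    have h1 := Submodule.mem_map_of_mem (f := (g : Module.End F (Sp F k t)))
      (pureT_mem_Col (x := fun _ => e) (i := i))
    have h2 := Submodule.mem_map_of_mem (f := (g : Module.End F (Sp F k t)))
      (pureT_mem_Col (x := fun _ => e) (i := i'))
    rw [hσ i] at h1
    rw [hσ i', ← hii] at h2
    have hne0 : (g : Module.End F (Sp F k t)) (pureT fun _ => e) ≠ 0 := fun h =>
      pureT_ne_zero (fun _ => he) (gl_injective g (h.trans (map_zero _).symm))
    have hcc := Col_eq_of_inter (hw i') hne0 h1 h2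
    have hCC : Col i' e = Col i e := Submodule.map_injective_of_injective (gl_injective g)
      (by rw [hσ i, hσ i', ← hii, hcc])
    obtain ⟨-, f, -, -, hf, -⟩ := exists_pairs (D.pair i) D.hk
    obtain ⟨f, hf⟩ : ∃ f, f ∉ Submodule.span F {e} := by
      obtain ⟨f, hf, hfn, -⟩ := exists_avoid (D.pair i) ![e, e, e] (Submodule.span F {e}) (Submodule.span F {e})
        (by rw [finrank_span_singleton he]; have := D.hk; omega)
        (by rw [finrank_span_singleton he]; have := D.hk; omega)
      exact ⟨f, hfn⟩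
    have hm : pureT (Function.update (fun _ => e) i f) ∈ Col i e := by
      rw [← hCC]
      have := pureT_mem_Col (x := Function.update (fun _ => e) i f) (i := i')
      rwa [Function.update_of_ne (Ne.symm hne)] at this
    have hm' : pureT (Function.update (fun _ => e) i f) ∈ Col i f := by
      have := pureT_mem_Col (x := Function.update (fun _ => e) i f) (i := i)
      rwa [Function.update_self] at this
    have hbot : pureT (Function.update (fun _ => e) i f) ∈ Col i e ⊓ Col i f := ⟨hm, hm'⟩
    rw [Col_inf_eq_bot hf, Submodule.mem_bot] at hbot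
    refine pureT_ne_zero (fun l => ?_) hbot
    rcases eq_or_ne l i with rfl | hl
    · rw [Function.update_self]; exact fun h => hf (h ▸ Submodule.zero_mem _)
    · rw [Function.update_of_ne hl]; exact he
  let π : Equiv.Perm (Fin t) := Equiv.ofBijective σ (Finite.injective_iff_bijective.1 hinj)
  let g' : (Module.End F (Sp F k t))ˣ :=
    LinearMap.GeneralLinearGroup.ofLinearEquiv (permL F k π.symm) * g
  have hg'v : ∀ m, (g' : Module.End F (Sp F k t)) m = permL F k π.symm ((g : Module.End F (Sp F k t)) m) :=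
    fun _ => rfl
  have hpure : ∀ i, ∃ (A : GL (Fin (rk k t i)) F) (B : GL (Fin k) F), ∀ v u,
      cj F k i (g' : Module.End F (Sp F k t)) (TensorGL.pure v u) =
        TensorGL.pure ((B : Matrix (Fin k) (Fin k) F) *ᵥ v) ((A : Matrix _ _ F) *ᵥ u) := by
    intro i
    let G : (Module.End F (T F (rk k t i) k))ˣ := Units.map (cj F k i).toAlgHom.toRingHom.toMonoidHom g'
    obtain ⟨A, B, hAB⟩ := exists_of_pure (D.rk_pos i) D.k_pos (g := G) fun v hv hnp => by
      obtain ⟨s, hs, hvs⟩ := hall i v hv
      refine hnp s ?_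
      rintro _ ⟨u, rfl⟩
      have h1 : permL F k π.symm ((g : Module.End F (Sp F k t)) (Ls F k i (TensorGL.pure v u))) ∈
          (Col (σ i) s).map (permL F k π.symm).toLinearMap := by
        rw [← hvs]
        exact Submodule.mem_map_of_mem (Submodule.mem_map_of_mem (Submodule.mem_map_of_mem
          (LinearMap.mem_range_self _ u)))
      rw [map_permL_Col _ _ hs, show π.symm (σ i) = i from π.symm_apply_apply i] at h1
      have h2 := Submodule.mem_map_of_mem (f := (Ls F k i).symm.toLinearMap) h1
      rw [map_Col] at h2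
      exact h2
    refine ⟨A, B, fun v u => (hAB _).trans (funext fun r => ?_)⟩
    simp only [TensorGL.pure_apply, Matrix.mulVec_smul, smul_smul, ← Finset.sum_smul]
    rfl
  choose A B hAB using hpure
  let Binv : Module.End F (Sp F k t) :=
    Matrix.toLin' (tensorMat fun l => (((B l)⁻¹ : GL (Fin k) F) : Matrix (Fin k) (Fin k) F))
  have hBinv : ∀ x, Binv (pureT x) =
      pureT fun l => (((B l)⁻¹ : GL (Fin k) F) : Matrix (Fin k) (Fin k) F) *ᵥ x l := fun x => by
    rw [Matrix.toLin'_apply, tensorMat_pureT]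
  let h := Binv * (g' : Module.End F (Sp F k t))
  have hh : ∀ i f, Commute h (slot i f) := by
    intro i f
    let Bm : (Fin k → F) →ₗ[F] (Fin k → F) := Matrix.toLin' (B i : Matrix (Fin k) (Fin k) F)
    let Bi : (Fin k → F) →ₗ[F] (Fin k → F) := Matrix.toLin' (((B i)⁻¹ : GL (Fin k) F) : Matrix (Fin k) (Fin k) F)
    have hBB : ∀ v, Bi (Bm v) = v := fun v => by
      simp only [Bi, Bm, Matrix.toLin'_apply, Matrix.mulVec_mulVec, Units.inv_mul, Matrix.one_mulVec]
    have hBB' : ∀ v, Bm (Bi v) = v := fun v => by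
      simp only [Bi, Bm, Matrix.toLin'_apply, Matrix.mulVec_mulVec, Units.mul_inv, Matrix.one_mulVec]
    have e1 : (g' : Module.End F (Sp F k t)) * slot i f = slot i (Bm ∘ₗ f ∘ₗ Bi) * g' := by
      refine (cj F k i).injective (ext_T i D.k_pos fun v x => ?_)
      rw [map_mul, map_mul, Module.End.mul_apply, Module.End.mul_apply, cj_slot_self i D.k_pos, hAB, hAB,
        cj_slot_self i D.k_pos, LinearMap.comp_apply, LinearMap.comp_apply]
      congr 2
      simp only [Bm, Bi, Matrix.toLin'_apply, Matrix.mulVec_mulVec, Units.inv_mul, Matrix.mulVec_mulVec]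
      simp [Matrix.one_mulVec]
    have e2 : Binv * slot i (Bm ∘ₗ f ∘ₗ Bi) = slot i f * Binv := ext_pure fun x => by
      rw [Module.End.mul_apply, Module.End.mul_apply, slot_pureT, hBinv, hBinv, slot_pureT]
      congr 1
      funext l
      rcases eq_or_ne l i with rfl | hl
      · rw [Function.update_self, Function.update_self, LinearMap.comp_apply, LinearMap.comp_apply]
        exact hBB _
      · rw [Function.update_of_ne hl, Function.update_of_ne hl]
    show Binv * (g' : Module.End F (Sp F k t)) * slot i f = slot i f * (Binv * (g' : Module.End F (Sp F k t)))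
    rw [mul_assoc, e1, ← mul_assoc, e2, mul_assoc]
  obtain ⟨c, hc⟩ := central D.k_pos hh
  have hgx : ∀ x, (g' : Module.End F (Sp F k t)) (pureT x) =
      c • pureT fun l => (B l : Matrix (Fin k) (Fin k) F) *ᵥ x l := by
    intro x
    have hB : ∀ y, Matrix.toLin' (tensorMat fun l => (B l : Matrix (Fin k) (Fin k) F)) (Binv y) = y := by
      intro y
      refine LinearMap.congr_fun (f := Matrix.toLin' _ ∘ₗ Binv) (g := LinearMap.id) (ext_pure fun z => ?_) y
      rw [LinearMap.comp_apply, hBinv, Matrix.toLin'_apply, tensorMat_pureT]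
      simp [Matrix.mulVec_mulVec]
    have h1 := LinearMap.congr_fun hc (pureT x)
    rw [LinearMap.smul_apply, Module.End.one_apply] at h1
    rw [← hB ((g' : Module.End F (Sp F k t)) (pureT x)),
      show Binv ((g' : Module.End F (Sp F k t)) (pureT x)) = c • pureT x from h1, map_smul, Matrix.toLin'_apply,
      tensorMat_pureT]
  have hc0 : c ≠ 0 := fun h0 => by
    have := hgx fun _ => e
    rw [h0, zero_smul, ← map_zero (g' : Module.End F (Sp F k t))] at this
    exact pureT_ne_zero (fun _ => he) (gl_injective g' this)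
  have ht : 0 < t := lt_of_lt_of_le two_pos D.ht
  let l₀ : Fin t := ⟨0, ht⟩
  let C : Fin t → GL (Fin k) F := fun l =>
    if l = l₀ then Units.map (algebraMap F (Matrix (Fin k) (Fin k) F)).toMonoidHom (Units.mk0 c hc0) * B l else B l
  refine ⟨fun l => C (π.symm l), π.symm, fun x => ?_⟩
  have h1 := congrArg (permL F k π) ((hg'v (pureT x)).symm.trans (hgx x))
  rw [show permL F k π (permL F k π.symm ((g : Module.End F (Sp F k t)) (pureT x))) =
      (g : Module.End F (Sp F k t)) (pureT x) from funext fun a => by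
        simp [permL, LinearEquiv.funCongrLeft, LinearMap.funLeft, Equiv.arrowCongr, Function.comp_def]] at h1
  rw [h1, map_smul, permL_pureT]
  have e3 : (fun l => ((C (π.symm l) : GL (Fin k) F) : Matrix (Fin k) (Fin k) F) *ᵥ x (π.symm l)) =
      Function.update (fun l => (B (π.symm l) : Matrix (Fin k) (Fin k) F) *ᵥ x (π.symm l)) (π l₀)
        (c • ((B l₀ : Matrix (Fin k) (Fin k) F) *ᵥ x l₀)) := by
    funext l
    rcases eq_or_ne l (π l₀) with rfl | hl
    · simp [C, Algebra.algebraMap_eq_smul_one, Matrix.smul_mulVec]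
    · rw [Function.update_of_ne hl]
      simp [C, show π.symm l ≠ l₀ from fun h => hl (by rw [← h, Equiv.apply_symm_apply])]
  rw [e3, pureT_smul]
  congr 1
  congr 1
  funext l
  rcases eq_or_ne l (π l₀) with rfl | hl
  · simp
  · rw [Function.update_of_ne hl]

end Setup

end Cfsg.Agent.H72.SympWreath
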