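import Cfsg.Agent.H72.SympWreath.Spread
import Cfsg.Agent.H72.SympWreath.Monomial

/-!
With three-cycles of the slots every algebra is everything.
-/

set_option autoImplicit false

namespace Cfsg.Agent.H72.SympWreath

open QuadraticMap Module Matrix Cfsg.Agent.Orthogonal Cfsg.Agent.H98 Cfsg.Agent.H98.ExtField Cfsg.Agent.H98.TensorGL
  Cfsg.Agent.H98.TensorSp Cfsg.Agent.H96.TensorPower

variable {F : Type*} [Field F] {k t : ℕ}

namespace Setup

variable (D : Setup F k t)

/-- The Siegel map supported on two slots. -/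
noncomputable def sie2 (i j : Fin t) (v w c d : Fin k → F) : Module.End F (Sp F k t) :=
  slot i (D.tauL v w) * slot j (D.tauL c d) - slot i (D.tauL w v) * slot j (D.tauL d c)

theorem sie2_symm {i j : Fin t} (h : i ≠ j) (v w c d : Fin k → F) : D.sie2 i j v w c d = D.sie2 j i c d v w := by
  rw [sie2, sie2]
  exact congrArg₂ (· - ·) (slot_comm h _ _) (slot_comm h _ _)

theorem cj_slot_tauL (i : Fin t) (v w : Fin k → F) :
    cj F k i (slot i (D.tauL v w)) = te (1 : Matrix (Fin (rk k t i)) (Fin (rk k t i)) F) v ((D.pair i).B₂ w) :=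
  ext_T i D.k_pos fun u x => by
    rw [cj_slot_self i D.k_pos, te_apply, ev_pure, Matrix.one_mulVec]
    exact funext fun r => by simp [Base.pair, Base.tauL, smul_smul, mul_comm]

theorem cj_sie2 {i j : Fin t} (hj : j ≠ i) (v w c d : Fin k → F) :
    cj F k i (D.sie2 i j v w c d) =
      (D.pair i).sk (rsHom i D.k_pos hj (D.tauL c d)) (rsHom i D.k_pos hj (-D.tauL d c)) v w := by
  rw [sie2, map_sub, map_mul, map_mul, D.cj_slot_tauL, D.cj_slot_tauL, cj_slot_ne hj D.k_pos,
    cj_slot_ne hj D.k_pos, te_mul_lt, te_mul_lt, Matrix.one_mul, Matrix.one_mul, Pair.sk, map_neg, rs_eq_rsF,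
    rs_eq_rsF, ← rsHom_apply i D.k_pos hj, ← rsHom_apply i D.k_pos hj, sub_eq_add_neg]
  congr 1
  refine LinearMap.ext fun m => ?_
  rw [LinearMap.neg_apply, te_apply, te_apply, Matrix.neg_mulVec, map_neg]

variable {D} {X : Subgroup (O D.Q)}

/-- The two readings of a two-slot member. -/
theorem Reach.mn (hR : D.Roots X) {i j : Fin t} (h : Reach hR i j) {v w : Fin k → F} (hv : v ≠ 0)
    (hw : w ∉ Submodule.span F {v}) (hvw : D.β v w = 0) (c d : Fin k → F) : MN (D.gl X) (D.sie2 i j v w c d) := by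
  obtain ⟨hj, hf⟩ := h
  rw [← D.MN_cj i, D.cj_sie2 hj]
  exact hf _ _ (D.isAdj_tl hj c d) v w hv hw hvw

theorem exists_orth (D : Setup F k t) :
    ∃ v w : Fin k → F, v ≠ 0 ∧ w ∉ Submodule.span F {v} ∧ D.β v w = 0 := by
  obtain ⟨i⟩ : Nonempty (Fin t) := ⟨⟨0, by have := D.ht; omega⟩⟩
  obtain ⟨v, w, -, hv, hw, -, hvw, -⟩ := exists_pairs (D.pair i) D.hk
  exact ⟨v, w, hv, hw, hvw⟩

theorem reach_of_mn (hR : D.Roots X) {i j : Fin t} (hij : i ≠ j) {v w c d : Fin k → F} (hv : v ≠ 0)
    (hw : w ∉ Submodule.span F {v}) (_hvw : D.β v w = 0) (hc : c ≠ 0) (hd : d ≠ 0)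
    (h : MN (D.gl X) (D.sie2 i j v w c d)) : Reach hR i j := by
  refine ⟨hij.symm, ?_⟩
  rw [← D.MN_cj i, D.cj_sie2 hij.symm] at h
  have hL := (D.genR hR i).inL D.hk (D.isAdj_tl hij.symm c d) hv hw h 1
  rw [one_smul] at hL
  set R' := (Lalg hR i).comap (rsHom i D.k_pos hij.symm).toLinearMap with hR'
  have hinv : Inv (D.pair i) (AlgHom.id F _) R' := fun g hg s x => by
    rw [hR', Submodule.mem_comap, AlgHom.toLinearMap_apply] at hg ⊢
    have := inv_Lalg hR hij.symm _ hg s x
    simpa using this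
  have hmem : tl (D.pair i) c d ∈ R' := hL
  obtain ⟨g, hg, c', d', r, hr, hdc, he⟩ := hinv.idem hc hd hmem
  have h2 : r • tl (D.pair i) c' d' ∈ R' := by
    rw [← he, hR', Submodule.mem_comap, AlgHom.toLinearMap_apply, map_mul]
    exact Lalg_mul hR hL hg
  have h3 := R'.smul_mem r⁻¹ h2
  rw [inv_smul_smul₀ hr] at h3
  exact hinv.all hdc h3

theorem Reach.symm (hR : D.Roots X) {i j : Fin t} (h : Reach hR i j) : Reach hR j i := by
  obtain ⟨hj, -⟩ := id h
  obtain ⟨v, w, hv, hw, hvw⟩ := D.exists_orth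
  have hw0 : w ≠ 0 := fun e => hw (e ▸ Submodule.zero_mem _)
  have := h.mn hR hv hw hvw v w
  rw [D.sie2_symm hj.symm] at this
  exact reach_of_mn hR hj hv hw hvw hv hw0 this

theorem permL_slot (π : Equiv.Perm (Fin t)) (i : Fin t) (f : (Fin k → F) →ₗ[F] (Fin k → F)) (m : Sp F k t) :
    permL F k π (slot i f m) = slot (π i) f (permL F k π m) := by
  have h : (permL F k π).toLinearMap ∘ₗ slot i f = slot (π i) f ∘ₗ (permL F k π).toLinearMap := ext_pure fun x => by
    simp only [LinearMap.comp_apply, LinearEquiv.coe_coe, slot_pureT, permL_pureT]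
    congr 1
    funext l
    by_cases hl : l = π i
    · subst hl
      simp
    · rw [Function.update_of_ne hl, Function.update_of_ne]
      exact fun e => hl (by rw [← e, Equiv.apply_symm_apply])
  exact LinearMap.congr_fun h m

theorem Reach.transport (hR : D.Roots X) {i j : Fin t} (h : Reach hR i j) (π : Equiv.Perm (Fin t))
    (hg : ∃ g ∈ X, ∀ m, (g : Sp F k t ≃ₗ[F] Sp F k t) m = permL F k π m) : Reach hR (π i) (π j) := by
  obtain ⟨hj, -⟩ := id h
  obtain ⟨g, hgX, hgm⟩ := hg
  obtain ⟨v, w, hv, hw, hvw⟩ := D.exists_orth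
  have hw0 : w ≠ 0 := fun e => hw (e ▸ Submodule.zero_mem _)
  have hmn := (h.mn hR hv hw hvw v w).conj (Subgroup.mem_map_of_mem (toU D.Q) hgX)
  refine reach_of_mn hR (fun e => hj (π.injective e).symm) hv hw hvw hv hw0 ?_
  have key : (toU D.Q g : Module.End F (Sp F k t)) * D.sie2 i j v w v w =
      D.sie2 (π i) (π j) v w v w * (toU D.Q g : Module.End F (Sp F k t)) := LinearMap.ext fun m => by
    simp only [Module.End.mul_apply, toU_apply, hgm, sie2, LinearMap.sub_apply, map_sub, permL_slot]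
  rwa [key, mul_assoc, Units.mul_inv, mul_one] at hmn

/-- All three-cycles of slots. -/
def Cycles (D : Setup F k t) (X : Subgroup (O D.Q)) : Prop :=
  ∀ a b m : Fin t, a ≠ b → b ≠ m → a ≠ m →
    ∃ g ∈ X, ∀ x, (g : Sp F k t ≃ₗ[F] Sp F k t) x = permL F k (Equiv.swap a b * Equiv.swap b m) x

theorem Reach.all (hR : D.Roots X) (hC : D.Cycles X) {i₀ j₀ : Fin t} (h : Reach hR i₀ j₀) :
    ∀ i j, i ≠ j → Reach hR i j := by
  have step : ∀ a b, Reach hR a b → ∀ m, m ≠ a → m ≠ b → Reach hR b m := by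
    intro a b hab m hma hmb
    obtain ⟨hba, -⟩ := id hab
    have := hab.transport hR (Equiv.swap a b * Equiv.swap b m) (hC a b m hba.symm hmb.symm hma.symm)
    rwa [Equiv.Perm.mul_apply, Equiv.swap_apply_of_ne_of_ne hba.symm hma.symm, Equiv.swap_apply_left,
      Equiv.Perm.mul_apply, Equiv.swap_apply_left, Equiv.swap_apply_of_ne_of_ne hma hmb] at this
  have hi : ∀ a, a ≠ i₀ → Reach hR i₀ a := fun a ha => by
    rcases eq_or_ne a j₀ with rfl | hb
    · exact h
    · exact step _ _ (h.symm hR) a hb ha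
  intro i j hij
  rcases eq_or_ne i i₀ with rfl | hi0
  · exact hi j hij.symm
  rcases eq_or_ne j i₀ with rfl | hj0
  · exact (hi i hi0).symm hR
  exact step _ _ (hi i hi0) j hj0 hij.symm

theorem tau_mem (hR : D.Roots X) {i : Fin t} (hall : ∀ j, j ≠ i → Reach hR i j) (c d : Fin (rk k t i) → F) :
    (D.pair i).tau c d ∈ Lalg hR i := by
  classical
  have hprod : ∀ P : Fin t → Module.End F (Fin k → F), rsF i P ∈ Lalg hR i := by
    intro P
    have : ∀ s : Finset (Fin t), i ∉ s → rsF i (fun l => if l ∈ s then P l else 1) ∈ Lalg hR i := by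
      intro s
      induction s using Finset.induction_on with
      | empty =>
        intro _
        simp only [Finset.notMem_empty, if_false]
        rw [rsF_one i D.k_pos, ← one_smul F (1 : Matrix _ _ F)]
        exact (D.genR hR i).inL_scalar 1
      | @insert j s hjs ih =>
        intro his
        rw [Finset.mem_insert, not_or] at his
        obtain ⟨hj, hf⟩ := hall j (Ne.symm his.1)
        have := Lalg_mul hR (ih his.2) (hf (P j))
        rw [rsF_mul_rsHom i D.k_pos hj (if_neg hjs)] at this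
        convert this using 2
        funext l
        rcases eq_or_ne l j with rfl | hl
        · simp
        · simp [hl]
    have h := this (Finset.univ.erase i) (Finset.notMem_erase i _)
    rwa [rsF_congr i (P' := P) fun l hl => by simp [hl]] at h
  have h1 : ∀ (x : Fin t → Fin k → F) (d : Fin (rk k t i) → F), (D.pair i).tau (restVec i x) d ∈ Lalg hR i := by
    intro x d
    let φ : (Fin (rk k t i) → F) →ₗ[F] Matrix (Fin (rk k t i)) (Fin (rk k t i)) F :=
      { toFun := fun d => (D.pair i).tau (restVec i x) d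
        map_add' := (D.pair i).tau_add_right _
        map_smul' := fun r d => (D.pair i).tau_smul_right r _ d }
    have h := LinearMap.congr_fun (ext_rest i D.k_pos (f := (Lalg hR i).mkQ ∘ₗ φ) (g := 0) fun y => by
      rw [LinearMap.comp_apply, LinearMap.zero_apply, Submodule.mkQ_apply, Submodule.Quotient.mk_eq_zero]
      show (D.pair i).tau (restVec i x) (restVec i y) ∈ Lalg hR i
      rw [D.tau_restVec]
      exact (Lalg hR i).smul_mem _ (hprod _)) d
    rwa [LinearMap.comp_apply, LinearMap.zero_apply, Submodule.mkQ_apply, Submodule.Quotient.mk_eq_zero] at h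
  let ψ : (Fin (rk k t i) → F) →ₗ[F] Matrix (Fin (rk k t i)) (Fin (rk k t i)) F :=
    { toFun := fun c => (D.pair i).tau c d
      map_add' := fun c c' => (D.pair i).tau_add_left c c' d
      map_smul' := fun r c => (D.pair i).tau_smul_left r c d }
  have h := LinearMap.congr_fun (ext_rest i D.k_pos (f := (Lalg hR i).mkQ ∘ₗ ψ) (g := 0) fun x => by
    rw [LinearMap.comp_apply, LinearMap.zero_apply, Submodule.mkQ_apply, Submodule.Quotient.mk_eq_zero]
    exact h1 x d) c
  rwa [LinearMap.comp_apply, LinearMap.zero_apply, Submodule.mkQ_apply, Submodule.Quotient.mk_eq_zero] at h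

end Setup

end Cfsg.Agent.H72.SympWreath
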