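import Mathlib

/-!
Two square-zero elements inside one `p`-group have a nilpotent product.
-/

set_option autoImplicit false

namespace Cfsg.Agent.H72.SympWreath

open Module

variable {F : Type*} [Field F] [Finite F] {V : Type*} [AddCommGroup V] [Module F V] [FiniteDimensional F V]
  {p : ℕ} [hp : Fact p.Prime] [CharP F p]

theorem exists_fixed_quot {P : Subgroup (Module.End F V)ˣ} (hP : IsPGroup p P) {W : Submodule F V}
    (hW : ∀ u ∈ P, ∀ w ∈ W, (u : Module.End F V) w ∈ W) (hne : W ≠ ⊤) :
    ∃ v ∉ W, ∀ u ∈ P, (u : Module.End F V) v - v ∈ W := by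
  have hle : ∀ u : P, W ≤ W.comap ((u : (Module.End F V)ˣ) : Module.End F V) := fun u w hw => hW u u.2 w hw
  let q : P → (V ⧸ W →ₗ[F] V ⧸ W) := fun u => W.mapQ W _ (hle u)
  let _ : MulAction P (V ⧸ W) :=
    { smul := fun u x => q u x
      one_smul := fun x => by
        induction x using Submodule.Quotient.induction_on with
        | _ x => rfl
      mul_smul := fun u w x => by
        induction x using Submodule.Quotient.induction_on with
        | _ x => rfl }
  have : Finite (V ⧸ W) := Module.finite_of_finite F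
  have : Nontrivial (V ⧸ W) := Submodule.Quotient.nontrivial_iff.2 hne
  have hdvd : p ∣ Nat.card (V ⧸ W) := by
    obtain ⟨y, hy⟩ := exists_ne (0 : V ⧸ W)
    have h1 : addOrderOf y = p := addOrderOf_eq_prime (by
      rw [← Nat.cast_smul_eq_nsmul F, CharP.cast_eq_zero, zero_smul]) hy
    exact h1 ▸ addOrderOf_dvd_natCard y
  obtain ⟨y, hy, hy0⟩ := hP.exists_fixed_point_of_prime_dvd_card_of_fixed_point (V ⧸ W) hdvd (a := 0)
    (fun u => map_zero (q u))
  induction y using Submodule.Quotient.induction_on with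
  | _ v =>
    exact ⟨v, fun h => hy0 ((Submodule.Quotient.mk_eq_zero W).2 h).symm,
      fun u hu => (Submodule.Quotient.eq W).1 (hy ⟨u, hu⟩)⟩

/-- Members of a `p`-group are unipotent together. -/
theorem isNilpotent_mul_of_pGroup {P : Subgroup (Module.End F V)ˣ} (hP : IsPGroup p P)
    {u w : (Module.End F V)ˣ} (hu : u ∈ P) (hw : w ∈ P) :
    IsNilpotent (((u : Module.End F V) - 1) * ((w : Module.End F V) - 1)) := by
  suffices ∀ m, ∀ W : Submodule F V, finrank F V - finrank F W = m → (∀ u ∈ P, ∀ w ∈ W, (u : Module.End F V) w ∈ W) →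
      ∃ n, ∀ v, ((((u : Module.End F V) - 1) * ((w : Module.End F V) - 1)) ^ n : Module.End F V) v ∈ W by
    obtain ⟨n, hn⟩ := this _ ⊥ rfl fun u _ w hw => by rw [Submodule.mem_bot] at hw ⊢; rw [hw, map_zero]
    exact ⟨n, LinearMap.ext fun v => (Submodule.mem_bot F).1 (hn v)⟩
  intro m
  induction m using Nat.strong_induction_on with
  | _ m ih =>
    intro W hm hW
    rcases eq_or_ne W ⊤ with rfl | hne
    · exact ⟨0, fun v => Submodule.mem_top⟩
    obtain ⟨v₀, hv₀, hfix⟩ := exists_fixed_quot hP hW hne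
    set W' := W ⊔ Submodule.span F {v₀}
    have hlt : W < W' := lt_of_le_not_ge le_sup_left fun h =>
      hv₀ (h (Submodule.mem_sup_right (Submodule.mem_span_singleton_self v₀)))
    have hsub : ∀ u ∈ P, ∀ x ∈ W', (u : Module.End F V) x - x ∈ W := by
      intro u hu x hx
      obtain ⟨a, ha, b, hb, rfl⟩ := Submodule.mem_sup.1 hx
      obtain ⟨c, rfl⟩ := Submodule.mem_span_singleton.1 hb
      rw [map_add, map_smul, add_sub_add_comm, ← smul_sub]
      exact W.add_mem (W.sub_mem (hW u hu a ha) ha) (W.smul_mem c (hfix u hu))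
    have hW' : ∀ u ∈ P, ∀ x ∈ W', (u : Module.End F V) x ∈ W' := fun u hu x hx => by
      rw [← sub_add_cancel ((u : Module.End F V) x) x]
      exact W'.add_mem (hlt.le (hsub u hu x hx)) hx
    have h1 := Submodule.finrank_lt_finrank_of_lt hlt
    have h2 := Submodule.finrank_le W'
    obtain ⟨n, hn⟩ := ih _ (by omega) W' rfl hW'
    refine ⟨n + 1, fun v => ?_⟩
    rw [pow_succ', Module.End.mul_apply, Module.End.mul_apply, LinearMap.sub_apply, Module.End.one_apply]
    refine hsub u hu _ ?_
    rw [LinearMap.sub_apply, Module.End.one_apply]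
    exact hlt.le (hsub w hw _ (hn v))

/-- Two square-zero elements become jointly unipotent after conjugation inside the group they generate. -/
theorem exists_conj_pair (p : ℕ) [Fact p.Prime] [CharP F p] {A N : Module.End F V} (hA : A * A = 0) (hN : N * N = 0)
    {uA uN : (Module.End F V)ˣ} (huA : (uA : Module.End F V) = 1 + A) (huN : (uN : Module.End F V) = 1 + N) :
    ∃ h ∈ Subgroup.closure {uA, uN},
      IsNilpotent (A * ((h : Module.End F V) * N * ((h⁻¹ : (Module.End F V)ˣ) : Module.End F V))) := by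
  have : Finite V := Module.finite_of_finite F
  have : Finite (Module.End F V) := Finite.of_injective (fun f : Module.End F V => ⇑f) DFunLike.coe_injective
  have hp1 : ∀ {B : Module.End F V} {u : (Module.End F V)ˣ}, B * B = 0 → (u : Module.End F V) = 1 + B →
      u ^ p = 1 := fun {B u} hB hu => by
    have h : ∀ n : ℕ, (1 + B) ^ n = 1 + (n : F) • B := fun n => by
      induction n with
      | zero => simp
      | succ n ih =>
        rw [pow_succ, ih, add_mul, one_mul, smul_mul_assoc, mul_add, mul_one, hB, add_zero, Nat.cast_succ,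
          add_smul, one_smul]
        abel
    ext1
    rw [Units.val_pow_eq_pow_val, hu, h, CharP.cast_eq_zero, zero_smul, add_zero, Units.val_one]
  set G := Subgroup.closure {uA, uN}
  let gA : G := ⟨uA, Subgroup.subset_closure (by simp)⟩
  let gN : G := ⟨uN, Subgroup.subset_closure (by simp)⟩
  have hpg : ∀ g : G, g ^ p = 1 → IsPGroup p (Subgroup.zpowers g) := by
    rintro g hg ⟨x, hx⟩
    refine ⟨1, Subtype.ext ?_⟩
    obtain ⟨n, rfl⟩ := Subgroup.mem_zpowers_iff.1 hx
    rw [pow_one]
    show (g ^ n) ^ p = 1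
    rw [← zpow_natCast, ← zpow_mul, mul_comm, zpow_mul, zpow_natCast, hg, one_zpow]
  obtain ⟨P, hP⟩ := (hpg gA (Subtype.ext (hp1 hA huA))).exists_le_sylow
  obtain ⟨P', hP'⟩ := (hpg gN (Subtype.ext (hp1 hN huN))).exists_le_sylow
  obtain ⟨g, hg⟩ := MulAction.exists_smul_eq G P' P
  refine ⟨g, g.2, ?_⟩
  have hAm : gA ∈ (P : Subgroup G) := hP (Subgroup.mem_zpowers gA)
  have hNm : g * gN * g⁻¹ ∈ (P : Subgroup G) := by
    rw [← hg]
    exact ⟨gN, hP' (Subgroup.mem_zpowers gN), by simp [MulAut.conj_apply]⟩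
  have h := isNilpotent_mul_of_pGroup (hP := P.isPGroup'.map G.subtype) (u := uA) (w := (g * gN * g⁻¹ : G))
    ⟨gA, hAm, rfl⟩ ⟨_, hNm, rfl⟩
  convert h using 2
  · rw [huA, add_sub_cancel_left]
  · simp only [Subgroup.coe_mul, Subgroup.coe_inv, Units.val_mul]
    rw [show (gN : (Module.End F V)ˣ) = uN from rfl, huN, mul_add, add_mul, mul_one, Units.mul_inv, add_sub_cancel_left]

end Cfsg.Agent.H72.SympWreath
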