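import Cfsg.Agent.H72.SympWreath.Central
import Cfsg.Agent.H72.SympWreath.Kolchin

/-!
Every square-zero member of root rank is a root.
-/

set_option autoImplicit false

namespace Cfsg.Agent.H72.SympWreath

open QuadraticMap Module Matrix Cfsg.Agent.Orthogonal Cfsg.Agent.H98 Cfsg.Agent.H98.ExtField Cfsg.Agent.H98.TensorGL
  Cfsg.Agent.H98.TensorSp Cfsg.Agent.H96.TensorPower

variable {F : Type*} [Field F] {k t : ℕ} {D : Setup F k t} {X : Subgroup (O D.Q)}

namespace Setup

/-- The slots with whose roots `N` commutes. -/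
noncomputable def J (D : Setup F k t) (N : Module.End F (Sp F k t)) : Finset (Fin t) := by
  classical exact Finset.univ.filter fun j => ∀ v, Commute N (D.root j v)

theorem mem_J {N : Module.End F (Sp F k t)} {j : Fin t} : j ∈ D.J N ↔ ∀ v, Commute N (D.root j v) := by
  classical simp [J]

/-- The conjugate used in the descent. -/
noncomputable def down (D : Setup F k t) (N : Module.End F (Sp F k t)) (i : Fin t) (x : Fin k → F) :
    Module.End F (Sp F k t) := (1 + N) * D.root i x * (1 - N)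

theorem map_part (i : Fin t) (x : Fin k → F) (P : Submodule F (Sp F k t)) :
    (P ⊓ Perp D i x).map (Ls F k i).symm.toLinearMap =
      part (D.pair i) (P.map (Ls F k i).symm.toLinearMap) x := by
  rw [Submodule.map_inf _ (Ls F k i).symm.injective, D.map_Perp]
  rfl

theorem root_of_commute {N : Module.End F (Sp F k t)} (hN : Rk D X N) :
    ∃ i, i ∉ D.J N := by
  by_contra hc
  push Not at hc
  obtain ⟨c, hc'⟩ := D.eq_scalar_of_comm fun i v => mem_J.1 (hc i) v
  have h2 := hN.1.1
  rw [hc', smul_mul_smul_comm, one_mul] at h2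
  have hc0 : c = 0 := by
    have h3 := congrFun (LinearMap.congr_fun h2 fun _ => 1) fun _ => ⟨0, D.k_pos⟩
    simpa using h3
  have h4 := hN.2
  rw [hc', hc0, zero_smul, LinearMap.range_zero, finrank_bot] at h4
  exact absurd h4.symm (pow_pos D.k_pos _).ne'

theorem Over.rk_down (hX : D.Over X) {N : Module.End F (Sp F k t)} (hN : Rk D X N) (i : Fin t) {x : Fin k → F}
    (hx : x ≠ 0) : Rk D X (D.down N i x) := by
  obtain ⟨hN2, g, hg, hgN⟩ := hN.1
  have := (hX.rk_root i hx).conj hg
  rwa [coe_inv_of_eq hN2 hgN, hgN] at this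

theorem J_subset_down {N : Module.End F (Sp F k t)} {i : Fin t} (hi : i ∉ D.J N) (x : Fin k → F) :
    D.J N ⊆ D.J (D.down N i x) := fun j hj => mem_J.2 fun v => by
  have hji : i ≠ j := fun e => hi (e ▸ hj)
  have h := mem_J.1 hj v
  exact (((Commute.one_left _).add_left h).mul_left (D.root_comm hji x v)).mul_left ((Commute.one_left _).sub_left h)

/-- A conjugation moving a column cannot produce a root unless the start is one. -/
theorem Over.col_of_down (hX : D.Over X) {N : Module.End F (Sp F k t)} (hN : Rk D X N) {i : Fin t} (hi : i ∉ D.J N)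
    {x : Fin k → F} (hx : x ≠ 0) (h : IsCol D (D.down N i x)) : IsCol D N := by
  obtain ⟨l, w, c, hw, hc, he⟩ := h
  obtain ⟨hN2, g, hg, hgN⟩ := hN.1
  have hcol : (Col i x).map (g : Module.End F (Sp F k t)) = Col l w := by
    have hr := range_conj g (D.root i x)
    have hrx : LinearMap.range (D.root i x) = Col i x := by
      simpa using D.range_root (i := i) hx (one_ne_zero (α := F))
    rw [hrx, coe_inv_of_eq hN2 hgN, hgN, show (1 + N) * D.root i x * (1 - N) = c • D.root l w from he,
      D.range_root hw hc] at hr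
    rw [hgN]
    exact hr.symm
  have hgl : ∀ y, y ≠ 0 → ∃ s, s ≠ 0 ∧ ∀ u, ((1 + cj F k i N) (TensorGL.pure y u)) ∈
      (Col l s).map (Ls F k i).symm.toLinearMap := by
    intro y hy
    obtain ⟨s, hs, hys⟩ := hX.glob hg hx hw hcol hy
    refine ⟨s, hs, fun u => ⟨(g : Module.End F (Sp F k t)) (Ls F k i (TensorGL.pure y u)), ?_, ?_⟩⟩
    · rw [← hys]
      exact Submodule.mem_map_of_mem ⟨_, ⟨u, rfl⟩, rfl⟩
    · rw [hgN, ← map_one (cj F k i), ← map_add, cj_apply]
      rfl
  have hrk : finrank F (LinearMap.range (cj F k i N)) = rk k t i := by rw [finrank_range_cj, hN.2]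
  rcases eq_or_ne l i with rfl | hli
  · obtain ⟨s, hs, c', hc', hN'⟩ := (D.genR hX.root l).root_of_pure D.hk (D.rk_pos l) (hX.noL l)
      ((D.MN_cj l).2 hN.1) hrk (fun v hv => by
        obtain ⟨s, -, hs⟩ := hgl v hv
        exact ⟨s, fun u => by rw [← map_Col]; exact hs u⟩) (by
        by_contra hc
        push Not at hc
        refine hi (mem_J.2 fun v => (cj F k l).injective ?_)
        rw [map_mul, map_mul, D.cj_root]
        exact hc v)
    exact ⟨l, s, c', hs, hc', (cj F k l).injective (by rw [hN', map_smul, D.cj_root, ← te_smul])⟩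
  exfalso
  obtain ⟨v, w', -, hv, hw', -⟩ := exists_pairs (D.pair i) D.hk
  obtain ⟨s, hs, h1⟩ := hgl v hv
  obtain ⟨s', hs', h2⟩ := hgl w' fun e => hw' (e ▸ Submodule.zero_mem _)
  obtain ⟨Z, hZ, hZe⟩ := Col_other (F := F) hli hs
  obtain ⟨Z', hZ', hZe'⟩ := Col_other (F := F) hli hs'
  rw [hZe] at h1
  rw [hZe'] at h2
  exact not_col_to_oth D.hk (D.rk_pos i) hrk hv hw' hZ hZ' h1 h2

/-- A member outside the roots has no nilpotent contraction, given the statement for larger centralisers. -/
theorem Over.not_nilpotent (hX : D.Over X) {J₀ : Finset (Fin t)}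
    (hIH : ∀ N, Rk D X N → J₀ ⊂ D.J N → IsCol D N) (n : ℕ) :
    ∀ N, Rk D X N → ¬ IsCol D N → D.J N = J₀ → ∀ i, i ∉ J₀ → ∀ x : Fin k → F, x ≠ 0 →
      contr (D.pair i) (cj F k i N) x ^ n ≠ 0 := by
  induction n with
  | zero =>
    intro N _ _ _ i _ x _ h
    have := congrFun (LinearMap.congr_fun (h : (1 : Module.End F (Fin (rk k t i) → F)) = 0) fun _ => 1) ⟨0, D.rk_pos i⟩
    simp at this
  | succ n ih =>
    intro N hN hnc hJ i hi x hx h
    have hi' : i ∉ D.J N := by rwa [hJ]
    have hN1 := hX.rk_down hN i hx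
    have hnc1 : ¬ IsCol D (D.down N i x) := fun h => hnc (hX.col_of_down hN hi' hx h)
    have hJ1 : D.J (D.down N i x) = J₀ := by
      have hsub := J_subset_down hi' x
      rw [hJ] at hsub
      by_contra hne
      exact hnc1 (hIH _ hN1 (Finset.ssubset_iff_subset_ne.2 ⟨hsub, Ne.symm hne⟩))
    have hcj : cj F k i (D.down N i x) =
        (1 + cj F k i N) * te (1 : Matrix (Fin (rk k t i)) (Fin (rk k t i)) F) x ((D.pair i).B₂ x) *
          (1 - cj F k i N) := by
      simp only [down, map_mul, map_add, map_sub, map_one, D.cj_root]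
    rcases Nat.eq_zero_or_pos n with rfl | hn
    · rw [zero_add, pow_one] at h
      refine hnc1 ?_
      obtain ⟨s, c, hs, hc, -, he⟩ := hX.col_of_perp hN1 hx (i := i) (by
        rw [← map_symm_le i, map_range_cj, D.map_Perp, hcj]
        rintro _ ⟨m, rfl⟩
        exact ev_conj_eq_zero (D.pair i) _ x h m)
      exact ⟨i, s, c, hs, hc, he⟩
    refine ih _ hN1 hnc1 hJ1 i hi x hx ?_
    rw [hcj, contr_conj]
    refine (neg_pow (contr (D.pair i) (cj F k i N) x * contr (D.pair i) (cj F k i N) x : Module.End F (Fin (rk k t i) → F)) n).trans ?_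
    rw [← pow_two, ← pow_mul, pow_eq_zero_of_le (show n + 1 ≤ 2 * n by omega) h, mul_zero]

variable [Finite F]

/-- A conjugate of `N` inside the group it generates with a root. -/
theorem Over.move (hX : D.Over X) {J₀ : Finset (Fin t)} (hIH : ∀ N, Rk D X N → J₀ ⊂ D.J N → IsCol D N)
    {N : Module.End F (Sp F k t)} (hN : Rk D X N) (hJ : D.J N = J₀) {i : Fin t} (hi : i ∉ J₀) {x : Fin k → F}
    (hx : x ≠ 0) :
    ∃ h ∈ D.gl X, ∃ (l : Fin t) (w : Fin k → F), w ≠ 0 ∧ l ∉ J₀ ∧ (l = i → D.β x w = 0) ∧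
      (LinearMap.range N).map (h : Module.End F (Sp F k t)) = Col l w ∧
      LinearMap.range N ⊓ Perp D i x ≤ Col l w ∧ Col l w ≤ Col i x ⊔ LinearMap.range N ∧
      ∀ m ∈ Perp D i x, (∀ p ∈ LinearMap.range N, polar D.Q m p = 0) → (h : Module.End F (Sp F k t)) m = m := by
  obtain ⟨hN2, uN, huN, huN'⟩ := hN.1
  obtain ⟨hA2, uA, huA, huA'⟩ := (hX.rk_root i hx).1
  obtain ⟨p, hp⟩ := CharP.exists F
  have : Fact p.Prime := ⟨CharP.char_is_prime F p⟩
  obtain ⟨h, hhG, hnil⟩ := exists_conj_pair p hA2 hN2 huA' huN'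
  set A := D.root i x
  have hle : Subgroup.closure {uA, uN} ≤ D.gl X := by
    rw [Subgroup.closure_le]
    rintro u (rfl | rfl) <;> assumption
  have hh : h ∈ D.gl X := hle hhG
  have hAi : ((uA⁻¹ : (Module.End F (Sp F k t))ˣ) : Module.End F (Sp F k t)) = 1 - A := coe_inv_of_eq hA2 huA'
  have hNi : ((uN⁻¹ : (Module.End F (Sp F k t))ˣ) : Module.End F (Sp F k t)) = 1 - N := coe_inv_of_eq hN2 huN'
  -- whatever both annihilate is fixed
  have hfix : ∀ g ∈ Subgroup.closure {uA, uN}, ∀ m, A m = 0 → N m = 0 → (g : Module.End F (Sp F k t)) m = m := by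
    intro g hg m h1 h2
    induction hg using Subgroup.closure_induction with
    | mem u hu =>
      rcases hu with rfl | rfl
      · rw [huA', LinearMap.add_apply, Module.End.one_apply, h1, add_zero]
      · rw [huN', LinearMap.add_apply, Module.End.one_apply, h2, add_zero]
    | one => rfl
    | mul u v _ _ hu hv => rw [Units.val_mul, Module.End.mul_apply, hv, hu]
    | inv u _ hu =>
      conv_lhs => rw [← hu]
      rw [← Module.End.mul_apply, Units.inv_mul, Module.End.one_apply]
  -- the sum of both images is preserved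
  set R := LinearMap.range A ⊔ LinearMap.range N
  have hR : ∀ g ∈ Subgroup.closure {uA, uN}, ∀ m ∈ R, (g : Module.End F (Sp F k t)) m ∈ R ∧
      ((g⁻¹ : (Module.End F (Sp F k t))ˣ) : Module.End F (Sp F k t)) m ∈ R := by
    intro g hg
    induction hg using Subgroup.closure_induction with
    | mem u hu =>
      intro m hm
      rcases hu with rfl | rfl
      · rw [huA', hAi]
        exact ⟨R.add_mem hm (Submodule.mem_sup_left (LinearMap.mem_range_self A m)),
          R.sub_mem hm (Submodule.mem_sup_left (LinearMap.mem_range_self A m))⟩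
      · rw [huN', hNi]
        exact ⟨R.add_mem hm (Submodule.mem_sup_right (LinearMap.mem_range_self N m)),
          R.sub_mem hm (Submodule.mem_sup_right (LinearMap.mem_range_self N m))⟩
    | one => intro m hm; simp [hm]
    | mul u v _ _ hu hv =>
      intro m hm
      rw [_root_.mul_inv_rev, Units.val_mul, Units.val_mul]
      exact ⟨(hu _ (hv m hm).1).1, (hv _ (hu m hm).2).2⟩
    | inv u _ hu =>
      intro m hm
      rw [inv_inv]
      exact ⟨(hu m hm).2, (hu m hm).1⟩
  set N' := (h : Module.End F (Sp F k t)) * N * ((h⁻¹ : (Module.End F (Sp F k t))ˣ) : Module.End F (Sp F k t))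
    with hN'
  have hN'r : Rk D X N' := hN.conj hh
  have hJsub : J₀ ⊆ D.J N' := by
    intro j hj
    refine mem_J.2 fun v => ?_
    have hcN : Commute N (D.root j v) := mem_J.1 (hJ ▸ hj) v
    have hcA : Commute A (D.root j v) := D.root_comm (fun e => hi (by rw [e]; exact hj)) x v
    have hg : ∀ g ∈ Subgroup.closure {uA, uN}, Commute ((g : (Module.End F (Sp F k t))ˣ) : Module.End F (Sp F k t))
        (D.root j v) := by
      intro g hg
      induction hg using Subgroup.closure_induction with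
      | mem u hu =>
        rcases hu with rfl | rfl
        · rw [huA']; exact (Commute.one_left _).add_left hcA
        · rw [huN']; exact (Commute.one_left _).add_left hcN
      | one => exact Commute.one_left _
      | mul u w _ _ hu hw => rw [Units.val_mul]; exact hu.mul_left hw
      | inv u _ hu => exact hu.units_inv_left
    exact ((hg h hhG).mul_left hcN).mul_left (hg _ (inv_mem hhG))
  have hnilc : IsNilpotent (contr (D.pair i) (cj F k i N') x) := by
    refine contr_nilpotent (D.pair i) hx ?_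
    rw [← D.cj_root, ← map_mul]
    exact hnil.map (cj F k i)
  obtain ⟨l, w, c, hw, hc, he⟩ : IsCol D N' := by
    by_contra hnc
    obtain ⟨n, hn⟩ := hnilc
    refine hX.not_nilpotent hIH n N' hN'r hnc ?_ i hi x hx hn
    by_contra hne
    exact hnc (hIH _ hN'r (Finset.ssubset_iff_subset_ne.2 ⟨hJsub, Ne.symm hne⟩))
  have hlJ : l ∉ J₀ := fun hl => by
    obtain ⟨v, hv⟩ := D.root_not_central l hw
    refine hv ?_
    have := (mem_J.1 (hJsub hl) v)
    rw [he] at this
    have h2 := this.smul_left c⁻¹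
    rwa [inv_smul_smul₀ hc] at h2
  have hrange : (LinearMap.range N).map (h : Module.End F (Sp F k t)) = Col l w := by
    rw [← range_conj, ← hN', he, D.range_root hw hc]
  have hA : LinearMap.range A = Col i x := by simpa using D.range_root (i := i) hx (one_ne_zero (α := F))
  have hA0 : ∀ m ∈ Perp D i x, A m = 0 := fun m hm => by
    apply (Ls F k i).symm.injective
    rw [map_zero, ← (Ls F k i).apply_symm_apply m, ← cj_apply, D.cj_root, te_apply,
      show ev ((D.pair i).B₂ x) ((Ls F k i).symm m) = 0 from hm, Matrix.mulVec_zero, map_zero]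
  refine ⟨h, hh, l, w, hw, hlJ, fun hli => ?_, hrange, fun m hm => ?_, ?_, fun m hm hP => ?_⟩
  · subst hli
    rw [he, map_smul, D.cj_root, ← te_smul] at hnilc
    exact perp_of_nilpotent (S := D.pair l) (D.rk_pos l) hc hnilc
  · rw [← hrange]
    obtain ⟨hmP, hmx⟩ := hm
    obtain ⟨y, rfl⟩ := hmP
    refine ⟨N y, LinearMap.mem_range_self N y, hfix h hhG _ (hA0 _ hmx) ?_⟩
    rw [← Module.End.mul_apply, hN2, LinearMap.zero_apply]
  · rw [← hrange, ← hA]
    rintro _ ⟨m, hm, rfl⟩
    exact (hR h hhG m (Submodule.mem_sup_right hm)).1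
  · refine hfix h hhG m (hA0 m hm) ?_
    apply (Ls F k i).symm.injective
    rw [map_zero, ← (Ls F k i).apply_symm_apply m, ← cj_apply]
    refine (D.genR hX.root i).apply_eq_zero ((D.MN_cj i).2 hN.1) fun q hq => ?_
    rw [← map_range_cj] at hq
    obtain ⟨q, hq, rfl⟩ := hq
    rw [← (D.coord i).polar_eq, LinearEquiv.apply_symm_apply, LinearEquiv.coe_coe, LinearEquiv.apply_symm_apply]
    exact hP q hq

theorem Over.step (hX : D.Over X) {J₀ : Finset (Fin t)} (hIH : ∀ N, Rk D X N → J₀ ⊂ D.J N → IsCol D N)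
    {N : Module.End F (Sp F k t)} (hN : Rk D X N) (hnc : ¬ IsCol D N) (hJ : D.J N = J₀) : False := by
  classical
  set P := LinearMap.range N with hP
  obtain ⟨i₁, hi₁⟩ := root_of_commute hN
  rw [hJ] at hi₁
  let f : Fin t → (Fin k → F) → ℕ := fun i x => finrank F ↥(P ⊓ Perp D i x)
  let e₀ : Fin k → F := Pi.single ⟨0, D.k_pos⟩ 1
  obtain ⟨⟨i, x⟩, hix, hmax⟩ := Set.exists_max_image {q : Fin t × (Fin k → F) | q.1 ∉ J₀ ∧ q.2 ≠ 0}
    (fun q => f q.1 q.2) (Set.toFinite _) ⟨(i₁, e₀), hi₁, by simp [e₀]⟩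
  -- the images of parts
  have hlt : ∀ i x, x ≠ 0 → finrank F ↥(P ⊓ Perp D i x) < k ^ (t - 1) := by
    intro i x hx
    refine lt_of_le_of_ne (by rw [← hN.2]; exact Submodule.finrank_mono inf_le_left) fun he => ?_
    have hle : P ≤ Perp D i x := by
      have h1 : P ⊓ Perp D i x = P := Submodule.eq_of_le_of_finrank_eq inf_le_left (by rw [he, hN.2])
      exact h1 ▸ inf_le_right
    obtain ⟨s, c, hs, hc, -, he'⟩ := hX.col_of_perp hN hx hle
    exact hnc ⟨i, s, c, hs, hc, he'⟩
  have hmax' : ∀ {i' x'}, i' ∉ J₀ → x' ≠ 0 → f i' x' ≤ f i x := fun {i' x'} h1 h2 => hmax (i', x') ⟨h1, h2⟩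
  -- good vectors
  let Good : Fin t → (Fin k → F) → Prop := fun i x => P ⊓ Perp D i x ≤ Col i x ∧ ∃ h ∈ D.gl X,
    P.map (h : Module.End F (Sp F k t)) = Col i x ∧
      ∀ m ∈ Perp D i x, (∀ p ∈ P, polar D.Q m p = 0) → (h : Module.End F (Sp F k t)) m = m
  have hgood : ∀ i x, i ∉ J₀ → x ≠ 0 → Good i x ∨ ∃ l w, w ≠ 0 ∧ l ∉ J₀ ∧ l ≠ i ∧
      P ⊓ Perp D i x ≤ Col l w ∧ Col l w ≤ Col i x ⊔ P := by
    intro i x hi hx
    obtain ⟨h, hh, l, w, hw, hl, hxw, hmap, hle, hsup, hfix⟩ := hX.move hIH hN hJ hi hx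
    rcases eq_or_ne l i with rfl | hli
    · left
      have he : Col l w = Col l x := by
        refine map_symm_inj l ?_
        rw [map_Col, map_Col]
        have h1 := (map_symm_le l).2 hsup
        rw [Submodule.map_sup, map_Col, map_Col] at h1
        have h2 := (map_symm_le l).2 hle
        rw [map_part, map_Col] at h2
        refine good_of_col (S := D.pair l) hw (hxw rfl) h1 h2 ?_
        rw [← map_part, LinearEquiv.finrank_map_eq]
        exact hlt l x hx
      rw [he] at hmap hle
      exact ⟨hle, h, hh, hmap, hfix⟩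
    · exact Or.inr ⟨l, w, hw, hl, hli, hle, hsup⟩
  have hbound : ∀ {i l : Fin t} {x w : Fin k → F}, l ≠ i → x ≠ 0 → w ≠ 0 → Col l w ≤ Col i x ⊔ P →
      ∃ c, 0 < c ∧ k * c = k ^ (t - 1) ∧ (k - 2) * c ≤ f i x := by
    intro i l x w hli hx hw hsup
    obtain ⟨Z, hZ, hZe⟩ := Col_other (F := F) hli hw
    have hpos : 0 < finrank F Z := by
      by_contra h0
      rw [not_lt, Nat.le_zero] at h0
      rw [h0, mul_zero] at hZ
      exact (D.rk_pos i).ne hZ
    refine ⟨_, hpos, hZ, ?_⟩
    have h1 := (map_symm_le i).2 hsup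
    rw [Submodule.map_sup, map_Col, hZe] at h1
    refine (bad_bound (S := D.pair i) hx h1).trans ?_
    rw [← map_part, LinearEquiv.finrank_map_eq]
  -- some maximum is good
  obtain ⟨i, x, hi, hx, hmax', hG⟩ : ∃ i x, i ∉ J₀ ∧ x ≠ 0 ∧
      (∀ {i' x'}, i' ∉ J₀ → x' ≠ 0 → f i' x' ≤ f i x) ∧ Good i x := by
    rcases hgood i x hix.1 hix.2 with h | ⟨l, w, hw, hl, hli, hle, hsup⟩
    · exact ⟨i, x, hix.1, hix.2, hmax', h⟩
    have hle' : P ⊓ Perp D i x ≤ P ⊓ Perp D l w := le_inf inf_le_left (hle.trans (D.Col_le_Perp (D.alt w)))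
    have heq : P ⊓ Perp D i x = P ⊓ Perp D l w :=
      Submodule.eq_of_le_of_finrank_le hle' (hmax' hl hw)
    have hf : f l w = f i x := by
      show finrank F ↥(P ⊓ Perp D l w) = finrank F ↥(P ⊓ Perp D i x)
      rw [heq]
    rcases hgood l w hl hw with h | ⟨l', w', hw', hl', hll, hle2, hsup2⟩
    · exact ⟨l, w, hl, hw, fun h1 h2 => hf.symm ▸ hmax' h1 h2, h⟩
    exfalso
    obtain ⟨c, hc, hkc, hbd⟩ := hbound hll hw hw' hsup2
    obtain ⟨Z, hZ, hZe⟩ := Col_other (F := F) hll hw'
    have h1 := le_inf ((map_symm_le l).2 (heq ▸ hle)) ((map_symm_le l).2 hle2)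
    rw [map_Col, hZe] at h1
    have h2 := (Submodule.finrank_mono h1).trans (col_inf_oth hw)
    rw [LinearEquiv.finrank_map_eq] at h2
    have hk := D.hk
    have hcZ : c = finrank F Z := Nat.eq_of_mul_eq_mul_left D.k_pos (hkc.trans hZ.symm)
    have h3 : 4 * c ≤ f l w := le_trans (Nat.mul_le_mul_right c (show 4 ≤ k - 2 by omega)) hbd
    simp only [f] at h3
    omega
  -- it must vanish
  have hzero : P ⊓ Perp D i x = ⊥ := by
    by_contra hne
    have h1 : finrank F (Submodule.span F ({x} : Set (Fin k → F))) + 3 < k := by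
      rw [finrank_span_singleton hx]; have := D.hk; omega
    obtain ⟨y, hy, hyn, -⟩ := exists_avoid (D.pair i) ![x, x, x] _ _ h1 h1
    have hy0 : y ≠ 0 := fun e => hyn (e ▸ Submodule.zero_mem _)
    have hle : P ⊓ Perp D i x ≤ P ⊓ Perp D i y :=
      le_inf inf_le_left (hG.1.trans (D.Col_le_Perp ((D.pair i).comm₂ (hy 0))))
    have heq : P ⊓ Perp D i x = P ⊓ Perp D i y := Submodule.eq_of_le_of_finrank_le hle (hmax' hi hy0)
    rcases hgood i y hi hy0 with h | ⟨l, w, hw, hl, hli, hle2, hsup⟩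
    · refine hne (eq_bot_iff.2 ?_)
      rw [← map_symm_le i, Submodule.map_bot, ← disjoint_col (a := rk k t i) hyn, ← map_Col, ← map_Col,
        ← Submodule.map_inf _ (Ls F k i).symm.injective, map_symm_le]
      exact le_inf hG.1 (heq ▸ h.1)
    · obtain ⟨Z, hZ, hZe⟩ := Col_other (F := F) hli hw
      have h2 := (map_symm_le i).2 hsup
      rw [Submodule.map_sup, map_Col, hZe] at h2
      have h3 := (map_symm_le i).2 (heq ▸ hG.1)
      rw [map_part, map_Col] at h3
      refine not_bad_beside (S := D.pair i) D.hk (fun e => ?_) h3 h2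
      rw [e, finrank_bot, mul_zero] at hZ
      exact (D.rk_pos i).ne hZ
  have hf0 : ∀ {y}, y ≠ 0 → f i y = 0 := fun {y} hy => Nat.le_zero.1 ((hmax' hi hy).trans (le_of_eq (by
    show finrank F ↥(P ⊓ Perp D i x) = 0
    rw [hzero, finrank_bot])))
  refine pair_contra (S := D.pair i) (M := D.Mi X i) (P := P.map (Ls F k i).symm.toLinearMap) D.hk (D.rk_pos i)
    (by rw [LinearEquiv.finrank_map_eq, hN.2]) (fun y hy => ?_) (fun y hy => ?_) ?_ (D.genR hX.root i)
  · rw [← map_part, Submodule.finrank_eq_zero.1 (hf0 hy), Submodule.map_bot]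
  · rcases hgood i y hi hy with ⟨-, h, hh, hmap, hfix⟩ | ⟨l, w, hw, hl, hli, -, hsup⟩
    · obtain ⟨z, hz, rfl⟩ := hh
      refine ⟨coordUnits D.Q (Ls F k i) z, Subgroup.mem_map_of_mem _ hz, ?_, fun m hm hmp => ?_⟩
      · rw [coordUnits_val, ← map_Col, ← hmap, ← Submodule.map_comp, ← Submodule.map_comp]
        congr 1
        exact LinearMap.ext fun m => by simp [cj_apply]
      · rw [coordUnits_val, cj_apply, LinearEquiv.symm_apply_eq]
        refine hfix _ ?_ fun p hp => ?_
        · show ev (D.β y) ((Ls F k i).symm (Ls F k i m)) = 0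
          rw [LinearEquiv.symm_apply_apply]
          exact hm
        · rw [← (Ls F k i).apply_symm_apply p, (D.coord i).polar_eq]
          exact hmp _ (Submodule.mem_map_of_mem hp)
    · exfalso
      obtain ⟨c, hc, -, hbd⟩ := hbound hli hy hw hsup
      have hk := D.hk
      have h3 : 4 * c ≤ f i y := le_trans (Nat.mul_le_mul_right c (show 4 ≤ k - 2 by omega)) hbd
      rw [hf0 hy] at h3
      omega
  · rintro g ⟨z, hz, rfl⟩ a b ha hab v hv
    have hcol : (Col i a).map (toU D.Q z : Module.End F (Sp F k t)) = Col i b := by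
      refine map_symm_inj i ?_
      rw [map_Col, ← hab, coordUnits_val, ← map_Col, ← Submodule.map_comp, ← Submodule.map_comp]
      congr 1
      exact LinearMap.ext fun m => by simp [cj_apply]
    have hb : b ≠ 0 := by
      rintro rfl
      have h0 : col (rk k t i) (0 : Fin k → F) = ⊥ :=
        LinearMap.range_eq_bot.2 (LinearMap.ext fun u => funext fun r => by simp)
      rw [h0, Submodule.eq_bot_iff] at hab
      have := hab _ (Submodule.mem_map_of_mem ⟨fun _ => 1, rfl⟩)
      have h2 := pure_injective ha ((units_injective _ (this.trans (map_zero _).symm)).trans (map_zero _).symm)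
      exact one_ne_zero (congrFun h2 ⟨0, D.rk_pos i⟩)
    obtain ⟨s, -, hs⟩ := hX.glob (Subgroup.mem_map_of_mem _ hz) ha hb hcol hv
    refine ⟨s, fun u => ?_⟩
    rw [← map_Col, ← hs, coordUnits_val, cj_apply]
    exact Submodule.mem_map_of_mem (Submodule.mem_map_of_mem ⟨_, ⟨u, rfl⟩, rfl⟩)

/-- Every member of root rank is a root. -/
theorem Over.all_col (hX : D.Over X) {N : Module.End F (Sp F k t)} (hN : Rk D X N) : IsCol D N := by
  suffices ∀ m N, t - (D.J N).card = m → Rk D X N → IsCol D N from this _ N rfl hN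
  intro m
  induction m using Nat.strong_induction_on with
  | _ m ih =>
    intro N hm hN
    by_contra hnc
    refine hX.step (fun N' hN' hlt => ih _ ?_ N' rfl hN') hN hnc rfl
    have h1 := Finset.card_lt_card hlt
    have h2 := Finset.card_le_univ (D.J N')
    rw [Fintype.card_fin] at h2
    omega

end Setup

end Cfsg.Agent.H72.SympWreath
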