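import Cfsg.Agent.H98.TensorSp.Main

/-!
All rank one members of the algebra give the Siegel transformations.
-/

set_option autoImplicit false

namespace Cfsg.Agent.H72.SympWreath

open QuadraticMap Module Matrix Cfsg.Agent.Orthogonal Cfsg.Agent.H98 Cfsg.Agent.H98.SubfieldOrth
  Cfsg.Agent.H98.ExtField Cfsg.Agent.H98.TensorGL Cfsg.Agent.H98.TensorSp

/-- A vector orthogonal to two given ones outside two subspaces. -/
theorem exists_avoid₂ {F : Type*} [Field F] {a b : ℕ} (S : Pair F a b) (x y : Fin b → F)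
    (U₁ U₂ : Submodule F (Fin b → F)) (h₁ : finrank F U₁ + 2 < b) (h₂ : finrank F U₂ + 2 < b) :
    ∃ z, S.B₂ x z = 0 ∧ S.B₂ y z = 0 ∧ z ∉ U₁ ∧ z ∉ U₂ := by
  let f : (Fin b → F) →ₗ[F] F × F := (S.B₂ x).prod (S.B₂ y)
  have hker : b ≤ finrank F (LinearMap.ker f) + 2 := by
    have h1 := LinearMap.finrank_range_add_finrank_ker f
    have h2 := Submodule.finrank_le (LinearMap.range f)
    rw [finrank_prod, finrank_self] at h2
    rw [finrank_fin_fun] at h1
    omega
  have hnot : ∀ U : Submodule F (Fin b → F), finrank F U + 2 < b → ¬ LinearMap.ker f ≤ U := fun U hU hle => by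
    have := Submodule.finrank_mono hle
    omega
  obtain ⟨u, hu, hu'⟩ := SetLike.not_le_iff_exists.1 (hnot U₁ h₁)
  obtain ⟨v, hv, hv'⟩ := SetLike.not_le_iff_exists.1 (hnot U₂ h₂)
  have hmem : ∀ z ∈ LinearMap.ker f, S.B₂ x z = 0 ∧ S.B₂ y z = 0 := fun z hz =>
    ⟨congrArg Prod.fst (LinearMap.mem_ker.1 hz), congrArg Prod.snd (LinearMap.mem_ker.1 hz)⟩
  by_cases h : u ∈ U₂
  · by_cases h' : v ∈ U₁
    · exact ⟨u + v, (hmem _ (add_mem hu hv)).1, (hmem _ (add_mem hu hv)).2,
        fun hc => hu' ((Submodule.add_mem_iff_left _ h').1 hc), fun hc => hv' ((Submodule.add_mem_iff_right _ h).1 hc)⟩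
    · exact ⟨v, (hmem _ hv).1, (hmem _ hv).2, h', hv'⟩
  · exact ⟨u, (hmem _ hu).1, (hmem _ hu).2, hu', h⟩

section Tau

variable {F : Type*} [Field F] {a b : ℕ} {V : Type*} [AddCommGroup V] [Module F V]
  {Q : QuadraticForm F V} {S : Pair F a b} {L : T F a b ≃ₗ[F] V} (hc : Coord S Q L)
include hc

/-- All rank one members of the algebra give the Siegel transformations. -/
theorem sieGroup_le_of_tau [FiniteDimensional F V] (hQ : Nondeg Q) (hn : 3 ≤ finrank F V) (ha : 0 < a)
    (hb : 4 ≤ b) {X : Subgroup (O Q)}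
    (hall : ∀ c d, InL S (X.map (coordUnits Q L)) (S.tau c d)) : sieGroup Q ≤ X := by
  have hindep : ∀ {v w : Fin b → F} (c d : Fin a → F), v ≠ 0 → w ∉ Submodule.span F {v} → S.B₂ v w = 0 →
      SIn X (L (TensorGL.pure v c)) (L (TensorGL.pure w d)) := fun {v w} c d hv hw hvw =>
    hc.sIn_of_mn (by rw [hc.polar_eq, S.Bt_pure_pure, hvw, zero_mul])
      (hall c d _ (S.isAdj_tau c d) v w hv hw hvw)
  have hperp : ∀ {v y : Fin b → F} (c d : Fin a → F), S.B₂ v y = 0 →
      SIn X (L (TensorGL.pure v c)) (L (TensorGL.pure y d)) := by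
    intro v y c d hy
    rcases eq_or_ne v 0 with rfl | hv
    · have h0 : L (TensorGL.pure (0 : Fin b → F) c) = 0 := by
        rw [show TensorGL.pure (0 : Fin b → F) c = 0 from funext fun i => by simp, map_zero]
      rw [h0]; exact sIn_zero_left _
    by_cases hm : y ∈ Submodule.span F {v}
    · have h1 : finrank F (Submodule.span F ({v} : Set (Fin b → F))) + 2 < b := by
        rw [finrank_span_singleton hv]; omega
      obtain ⟨x, hx, -, hxn, -⟩ := exists_avoid₂ S v v _ _ h1 h1
      have hx0 : S.B₂ v x = 0 := hx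
      have hyx : y + x ∉ Submodule.span F {v} := fun h => hxn ((Submodule.add_mem_iff_right _ hm).1 h)
      refine ((hindep c d hv hyx (by rw [map_add, hy, hx0, add_zero])).sub (hindep c d hv hxn hx0)).congr rfl ?_
      rw [← map_sub]
      exact congrArg L (funext fun i => by simp)
    · exact hindep c d hv hm hy
  have hfull : ∀ {v : Fin b → F} (c : Fin a → F), v ≠ 0 → OrthMax.Full X (L (TensorGL.pure v c)) := by
    intro v c hv w hu huw
    obtain ⟨m, rfl⟩ := L.surjective w
    rw [hc.polar_eq, S.Bt_pure] at huw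
    obtain ⟨vs, hvs, -⟩ := exists_partner S (U := ⊥) (w := v) (by rw [Submodule.mem_bot]; exact hv) 1
    have hr : ∀ d, S.B₁ c d = 0 → SIn X (L (TensorGL.pure v c)) (L (TensorGL.pure vs d)) := by
      intro d hd
      obtain ⟨v₃, hv₃v, hv₃s, hv₃0, -⟩ := exists_avoid₂ S v vs ⊥ ⊥ (by rw [finrank_bot]; omega)
        (by rw [finrank_bot]; omega)
      have hv₃n : v₃ ∉ Submodule.span F {v, vs} := fun h => by
        obtain ⟨p, r, rfl⟩ := Submodule.mem_span_pair.1 h
        rw [map_add, map_smul, map_smul, S.alt₂, hvs, smul_zero, zero_add, smul_eq_mul, mul_one] at hv₃v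
        rw [map_add, map_smul, map_smul, S.alt₂, S.skew₂ v vs, hvs, smul_eq_mul, smul_eq_mul, mul_zero, add_zero,
          mul_neg, mul_one, neg_eq_zero] at hv₃s
        exact hv₃0 (by rw [hv₃v, hv₃s, zero_smul, zero_smul, add_zero]; exact Submodule.zero_mem _)
      obtain ⟨v₂, hv₂, hv₂z⟩ := exists_partner S (U := Submodule.span F {v}) (w := v₃)
        (fun h => hv₃n (Submodule.span_mono (by simp) h)) 1
      have hv₂v : S.B₂ v v₂ = 0 := hv₂z v (Submodule.mem_span_singleton_self v)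
      let d' : Fin a → F := Pi.single ⟨0, ha⟩ 1
      obtain ⟨e, he⟩ := not_forall.1 fun h0 => (show d' ≠ 0 by simp [d']) (S.nd₁ d' h0)
      set d'' := (S.B₁ d' e)⁻¹ • e with hd''
      have hd1 : S.B₁ d' d'' = 1 := by rw [hd'', map_smul, smul_eq_mul, inv_mul_cancel₀ he]
      obtain ⟨hu', hw', hg⟩ := hperp (v := v₃) (y := vs) d' d (S.comm₂ hv₃s)
      set x := L (TensorGL.pure v₂ d'') with hx
      have hux : SIn X (L (TensorGL.pure v c)) x := hperp c d'' hv₂v
      have hfix : (sie (L (TensorGL.pure v₃ d')) (L (TensorGL.pure vs d)) hu' hw' : V ≃ₗ[F] V)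
          (L (TensorGL.pure v c)) = L (TensorGL.pure v c) :=
        sie_fix' _ _ (by rw [hc.polar_eq, S.Bt_pure_pure, S.comm₂ hv₃v, zero_mul])
          (by rw [hc.polar_eq, S.Bt_pure_pure, S.skew₁ c d, hd, neg_zero, mul_zero])
      refine ((hux.sub ((hux.conj hg).congr hfix rfl)).add
        (hperp c ((polar Q (L (TensorGL.pure vs d)) x) • d') hv₃v)).congr rfl ?_
      rw [sie_app, hc.pure_eq, zero_mul, sub_zero, map_smul, map_smul,
        show polar Q (L (TensorGL.pure v₃ d')) x = 1 by rw [hx, hc.polar_eq, S.Bt_pure_pure, hv₂, hd1, mul_one],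
        one_smul]
      abel
    set r := ev (S.B₂ v) m with hrdef
    have h0 : ev (S.B₂ v) (m - TensorGL.pure vs r) = 0 := by
      rw [map_sub, ev_pure, hvs, one_smul, hrdef, sub_self]
    have hrest : ∀ s : Finset (Fin a), SIn X (L (TensorGL.pure v c))
        (L (∑ i ∈ s, TensorGL.pure ((m - TensorGL.pure vs r) i) (Pi.single i (1 : F)))) := by
      intro s
      classical
      induction s using Finset.induction_on with
      | empty => rw [Finset.sum_empty, map_zero]; exact sIn_zero hu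
      | @insert i s hi ih => rw [Finset.sum_insert hi, map_add]; exact (hperp c _ (congrFun h0 i)).add ih
    obtain ⟨_, _, hs⟩ := ((hrest Finset.univ).add (hr r huw)).congr rfl (w' := L m)
      (by rw [← sum_pure_rows, ← map_add, sub_add_cancel])
    exact hs
  let v : Fin b → F := Pi.single ⟨0, by omega⟩ 1
  let c : Fin a → F := Pi.single ⟨0, ha⟩ 1
  have hv : v ≠ 0 := by simp [v]
  obtain ⟨d, hd⟩ := not_forall.1 fun h0 => (show c ≠ 0 by simp [c]) (S.nd₁ c h0)
  obtain ⟨w, hw, -⟩ := exists_partner S (U := ⊥) (w := v) (by rw [Submodule.mem_bot]; exact hv) 1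
  have hw0 : w ≠ 0 := fun e => by simp [e] at hw
  refine OrthMax.sieGroup_le_of_pair hQ hn (hfull c hv) (hfull d hw0) (hc.pure_eq v c) (hc.pure_eq w d) ?_
  rw [hc.polar_eq, S.Bt_pure_pure, hw, one_mul]
  exact hd

end Tau

end Cfsg.Agent.H72.SympWreath
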