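import Cfsg.Agent.H72.SympWreath.Cycle
import Cfsg.Agent.H72.SympWreath.Tau

/-!
With a non-scalar member the group contains every Siegel transformation.
-/

set_option autoImplicit false

namespace Cfsg.Agent.H72.SympWreath

open QuadraticMap Module Matrix Cfsg.Agent.Orthogonal Cfsg.Agent.H98 Cfsg.Agent.H98.SubfieldOrth
  Cfsg.Agent.H98.ExtField Cfsg.Agent.H98.TensorGL Cfsg.Agent.H98.TensorSp Cfsg.Agent.H96.TensorPower

namespace Setup

variable {F : Type*} [Field F] {k t : ℕ} {D : Setup F k t} {X : Subgroup (O D.Q)}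

/-- The dichotomy. -/
theorem sieGroup_le_or_over (hR : D.Roots X) (hC : D.Cycles X) : sieGroup D.Q ≤ X ∨ D.Over X := by
  by_cases h : ∀ i, ¬ HasL (D.pair i) (D.Mi X i)
  · exact Or.inr ⟨hR, h⟩
  push Not at h
  obtain ⟨i, hi⟩ := h
  obtain ⟨j, hj⟩ := exists_reach hR hi
  refine Or.inl (sieGroup_le_of_tau (D.coord i) D.hQ ?_ (D.rk_pos i)
    (le_trans (by omega) D.hk) fun c d =>
    tau_mem hR (fun l hl => hj.all hR hC i l hl.symm) c d)
  rw [Module.finrank_fintype_fun_eq_card, Fintype.card_fun, Fintype.card_fin, Fintype.card_fin]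
  calc 3 ≤ k := by have := D.hk; omega
    _ = k ^ 1 := (pow_one k).symm
    _ ≤ k ^ t := Nat.pow_le_pow_right D.k_pos (by have := D.ht; omega)

/-- The group permutes pure tensors or contains all Siegel transformations. -/
theorem sieGroup_le_or_monomial [Finite F] (hR : D.Roots X) (hC : D.Cycles X) :
    sieGroup D.Q ≤ X ∨ ∀ g ∈ X, ∃ (gs : Fin t → GL (Fin k) F) (π : Equiv.Perm (Fin t)),
      ∀ x, (g : Sp F k t ≃ₗ[F] Sp F k t) (pureT x) = pureT fun l => (gs l : Matrix (Fin k) (Fin k) F) *ᵥ x (π l) :=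
  (sieGroup_le_or_over hR hC).imp_right fun hO _ hg => hO.monomial (Subgroup.mem_map_of_mem (toU D.Q) hg)

end Setup

end Cfsg.Agent.H72.SympWreath
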