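import Cfsg.Agent.H72.SympWreath.Slots

/-!
The group in every slot at once.
-/

set_option autoImplicit false

namespace Cfsg.Agent.H72.SympWreath

open QuadraticMap Module Matrix Cfsg.Agent.Orthogonal Cfsg.Agent.H98 Cfsg.Agent.H98.ExtField Cfsg.Agent.H98.TensorGL
  Cfsg.Agent.H98.TensorSp Cfsg.Agent.H96.TensorPower

variable {F : Type*} [Field F] {k t : ℕ}

theorem range_te (c : F) (hc : c ≠ 0) {a b : ℕ} {v : Fin b → F} {φ : Dual F (Fin b → F)} (hφ : φ ≠ 0) :
    LinearMap.range (te (c • (1 : Matrix (Fin a) (Fin a) F)) v φ) = col a v := by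
  refine le_antisymm (LinearMap.range_comp_le_range _ _) ?_
  rintro _ ⟨u, rfl⟩
  obtain ⟨w, hw⟩ := not_forall.1 fun h => hφ (LinearMap.ext h)
  refine ⟨TensorGL.pure w ((c * φ w)⁻¹ • u), ?_⟩
  rw [te_apply, ev_pure, Matrix.smul_mulVec, Matrix.one_mulVec, smul_smul, smul_smul,
    mul_inv_cancel₀ (mul_ne_zero hc hw), one_smul]

/-- The isometries as units of the endomorphisms. -/
noncomputable def toU (Q : QuadraticForm F (Sp F k t)) : O Q →* (Module.End F (Sp F k t))ˣ where
  toFun x := ⟨((x : Sp F k t ≃ₗ[F] Sp F k t) : Sp F k t →ₗ[F] Sp F k t),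
    ((x : Sp F k t ≃ₗ[F] Sp F k t).symm : Sp F k t →ₗ[F] Sp F k t),
    LinearMap.ext fun m => by simp, LinearMap.ext fun m => by simp⟩
  map_one' := Units.ext rfl
  map_mul' x y := Units.ext rfl

theorem toU_apply (Q : QuadraticForm F (Sp F k t)) (x : O Q) (m : Sp F k t) :
    (toU Q x : Module.End F (Sp F k t)) m = (x : Sp F k t ≃ₗ[F] Sp F k t) m := rfl

theorem coordUnits_val (Q : QuadraticForm F (Sp F k t)) (i : Fin t) (x : O Q) :
    (coordUnits Q (Ls F k i) x : Module.End F (T F (rk k t i) k)) = cj F k i (toU Q x : Module.End F (Sp F k t)) :=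
  rfl

/-- The column orthogonal of slot `i` at `v`. -/
noncomputable def Perp (D : Setup F k t) (i : Fin t) (v : Fin k → F) : Submodule F (Sp F k t) :=
  (LinearMap.ker (ev (D.β v))).comap (Ls F k i).symm.toLinearMap

theorem map_range_cj (i : Fin t) (N : Module.End F (Sp F k t)) :
    (LinearMap.range N).map (Ls F k i).symm.toLinearMap = LinearMap.range (cj F k i N) := by
  refine le_antisymm ?_ ?_
  · rintro _ ⟨_, ⟨y, rfl⟩, rfl⟩
    exact ⟨(Ls F k i).symm y, by rw [cj_apply, LinearEquiv.apply_symm_apply]; rfl⟩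
  · rintro _ ⟨m, rfl⟩
    exact ⟨_, ⟨Ls F k i m, rfl⟩, rfl⟩

theorem finrank_range_cj (i : Fin t) (N : Module.End F (Sp F k t)) :
    finrank F (LinearMap.range (cj F k i N)) = finrank F (LinearMap.range N) := by
  rw [← map_range_cj, LinearEquiv.finrank_map_eq]

theorem map_Col (i : Fin t) (v : Fin k → F) :
    (Col i v).map (Ls F k i).symm.toLinearMap = col (rk k t i) v := by
  rw [Col, ← Submodule.map_comp, LinearEquiv.symm_comp, Submodule.map_id]

theorem map_symm_inj (i : Fin t) {A B : Submodule F (Sp F k t)}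
    (h : A.map (Ls F k i).symm.toLinearMap = B.map (Ls F k i).symm.toLinearMap) : A = B :=
  Submodule.map_injective_of_injective (f := (Ls F k i).symm.toLinearMap) (Ls F k i).symm.injective h

theorem map_symm_le (i : Fin t) {A B : Submodule F (Sp F k t)} :
    A.map (Ls F k i).symm.toLinearMap ≤ B.map (Ls F k i).symm.toLinearMap ↔ A ≤ B :=
  Submodule.map_le_map_iff_of_injective (f := (Ls F k i).symm.toLinearMap) (Ls F k i).symm.injective _ _

namespace Setup

variable (D : Setup F k t)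

theorem map_Perp (i : Fin t) (v : Fin k → F) :
    (Perp D i v).map (Ls F k i).symm.toLinearMap = LinearMap.ker (ev (D.β v)) :=
  Submodule.map_comap_eq_of_surjective (f := (Ls F k i).symm.toLinearMap) (Ls F k i).symm.surjective _

theorem mem_Perp {i : Fin t} {v : Fin k → F} {m : Sp F k t} :
    m ∈ Perp D i v ↔ ∀ u ∈ Col i v, polar D.Q u m = 0 := by
  have hc := D.coord i
  constructor
  · rintro h _ ⟨_, ⟨z, rfl⟩, rfl⟩
    rw [LinearEquiv.coe_coe, ← (Ls F k i).apply_symm_apply m, hc.polar_eq, Pair.Bt_pure]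
    rw [show ev ((D.pair i).B₂ v) ((Ls F k i).symm m) = 0 from h, map_zero]
  · intro h
    show ev (D.β v) ((Ls F k i).symm m) = 0
    refine (D.pair i).nd₁' fun z => ?_
    have := h _ ⟨_, ⟨z, rfl⟩, rfl⟩
    rwa [LinearEquiv.coe_coe, ← (Ls F k i).apply_symm_apply m, hc.polar_eq, Pair.Bt_pure] at this

theorem Col_le_Perp {i : Fin t} {v w : Fin k → F} (h : D.β v w = 0) : Col i w ≤ Perp D i v := by
  rw [← map_symm_le i, map_Col, D.map_Perp]
  exact col_le_ker (S := D.pair i) h

theorem range_root {i : Fin t} {v : Fin k → F} (hv : v ≠ 0) {c : F} (hc : c ≠ 0) :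
    LinearMap.range (c • D.root i v) = Col i v := by
  refine map_symm_inj i ?_
  rw [map_range_cj, map_Col, map_smul, D.cj_root, ← te_smul,
    range_te c hc ((D.pair i).B₂_ne_zero hv)]

variable (X : Subgroup (O D.Q))

/-- The group as units. -/
noncomputable abbrev gl : Subgroup (Module.End F (Sp F k t))ˣ := X.map (toU D.Q)

/-- The group in the coordinates of slot `i`. -/
noncomputable abbrev Mi (i : Fin t) : Subgroup (Module.End F (T F (rk k t i) k))ˣ :=
  X.map (coordUnits D.Q (Ls F k i))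

variable {X}

theorem MN_cj (i : Fin t) {N : Module.End F (Sp F k t)} : MN (D.Mi X i) (cj F k i N) ↔ MN (D.gl X) N := by
  constructor
  · rintro ⟨h2, _, ⟨x, hx, rfl⟩, hv⟩
    rw [coordUnits_val, ← map_one (cj F k i), ← map_add] at hv
    exact ⟨(cj F k i).injective (by rw [map_mul, h2, map_zero]), _, ⟨x, hx, rfl⟩, (cj F k i).injective hv⟩
  · rintro ⟨h2, _, ⟨x, hx, rfl⟩, hv⟩
    refine ⟨by rw [← map_mul, h2, map_zero], _, ⟨x, hx, rfl⟩, ?_⟩
    rw [coordUnits_val, hv, map_add, map_one]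

theorem gl_iso {g : (Module.End F (Sp F k t))ˣ} (hg : g ∈ D.gl X) (m m' : Sp F k t) :
    polar D.Q ((g : Module.End F (Sp F k t)) m) ((g : Module.End F (Sp F k t)) m') = polar D.Q m m' := by
  obtain ⟨x, -, rfl⟩ := hg
  rw [toU_apply, toU_apply, O.polar_app]

/-- The group contains every root of every slot. -/
structure Over (D : Setup F k t) (X : Subgroup (O D.Q)) : Prop where
  root : ∀ (i : Fin t) (c : F) (v : Fin k → F), MN (D.gl X) (c • D.root i v)
  noL : ∀ i : Fin t, ¬ HasL (D.pair i) (D.Mi X i)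

theorem genR (h : ∀ (i : Fin t) (c : F) (v : Fin k → F), MN (D.gl X) (c • D.root i v)) (i : Fin t) :
    GenR (D.pair i) (D.Mi X i) := by
  refine ⟨fun c v => ?_, ?_⟩
  · have := (D.MN_cj i).2 (h i c v)
    rwa [map_smul, D.cj_root, ← te_smul] at this
  · rintro _ ⟨x, -, rfl⟩ m m'
    exact (D.coord i).iso x m m'

/-- A root of one slot up to a scalar. -/
def IsCol (D : Setup F k t) (N : Module.End F (Sp F k t)) : Prop :=
  ∃ (l : Fin t) (w : Fin k → F) (c : F), w ≠ 0 ∧ c ≠ 0 ∧ N = c • D.root l w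

/-- A square-zero member whose rank is that of a root. -/
def Rk (D : Setup F k t) (X : Subgroup (O D.Q)) (N : Module.End F (Sp F k t)) : Prop :=
  MN (D.gl X) N ∧ finrank F (LinearMap.range N) = k ^ (t - 1)

variable {D}

theorem Over.col_of_perp (hX : D.Over X) {N : Module.End F (Sp F k t)} (hN : Rk D X N) {i : Fin t}
    {x : Fin k → F} (hx : x ≠ 0) (h : LinearMap.range N ≤ Perp D i x) :
    ∃ (s : Fin k → F) (c : F), s ≠ 0 ∧ c ≠ 0 ∧ D.β x s = 0 ∧ N = c • D.root i s := by
  obtain ⟨s, hs, hxs, c, hc, he⟩ := (D.genR hX.root i).col_of_perp D.hk (D.rk_pos i) (hX.noL i)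
    ((D.MN_cj i).2 hN.1) (by rw [finrank_range_cj, hN.2]) hx fun m => by
      have : (Ls F k i).symm (N (Ls F k i m)) ∈ (Perp D i x).map (Ls F k i).symm.toLinearMap :=
        Submodule.mem_map_of_mem (h (LinearMap.mem_range_self _ _))
      rwa [D.map_Perp] at this
  refine ⟨s, c, hs, hc, hxs, (cj F k i).injective ?_⟩
  rw [he, map_smul, D.cj_root, ← te_smul]

theorem Over.rk_root (hX : D.Over X) (i : Fin t) {v : Fin k → F} (hv : v ≠ 0) : Rk D X (D.root i v) := by
  have h := hX.root i 1 v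
  rw [one_smul] at h
  refine ⟨h, ?_⟩
  have := D.range_root (i := i) hv (one_ne_zero (α := F))
  rw [one_smul] at this
  rw [this, finrank_Col hv]

theorem gl_injective (g : (Module.End F (Sp F k t))ˣ) :
    Function.Injective (g : Module.End F (Sp F k t)) :=
  Function.LeftInverse.injective (g := ((g⁻¹ : (Module.End F (Sp F k t))ˣ) : Module.End F (Sp F k t))) fun m => by
    rw [← Module.End.mul_apply, Units.inv_mul, Module.End.one_apply]

theorem range_conj (g : (Module.End F (Sp F k t))ˣ) (N : Module.End F (Sp F k t)) :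
    LinearMap.range ((g : Module.End F (Sp F k t)) * N * ((g⁻¹ : (Module.End F (Sp F k t))ˣ) :
      Module.End F (Sp F k t))) = (LinearMap.range N).map (g : Module.End F (Sp F k t)) := by
  refine le_antisymm ?_ ?_
  · rintro _ ⟨m, rfl⟩
    exact ⟨_, LinearMap.mem_range_self N _, rfl⟩
  · rintro _ ⟨_, ⟨m, rfl⟩, rfl⟩
    refine ⟨(g : Module.End F (Sp F k t)) m, ?_⟩
    rw [Module.End.mul_apply, Module.End.mul_apply, ← Module.End.mul_apply _ (g : Module.End F (Sp F k t)) m,
      Units.inv_mul, Module.End.one_apply]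

theorem Rk.conj {N : Module.End F (Sp F k t)} (hN : Rk D X N) {g : (Module.End F (Sp F k t))ˣ}
    (hg : g ∈ D.gl X) :
    Rk D X ((g : Module.End F (Sp F k t)) * N * ((g⁻¹ : (Module.End F (Sp F k t))ˣ) : Module.End F (Sp F k t))) := by
  refine ⟨hN.1.conj hg, ?_⟩
  rw [range_conj]
  exact ((Submodule.equivMapOfInjective _ (gl_injective g) _).finrank_eq.symm.trans hN.2)

/-- An element sending one column of a slot to a column sends all of them to columns of the same slot. -/
theorem Over.glob (hX : D.Over X) {g : (Module.End F (Sp F k t))ˣ} (hg : g ∈ D.gl X) {i l : Fin t}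
    {v w : Fin k → F} (hv : v ≠ 0) (hw : w ≠ 0)
    (h : (Col i v).map (g : Module.End F (Sp F k t)) = Col l w) {u : Fin k → F} (hu : u ≠ 0) :
    ∃ s, s ≠ 0 ∧ (Col i u).map (g : Module.End F (Sp F k t)) = Col l s := by
  have key : ∀ v w y, v ≠ 0 → w ≠ 0 → y ≠ 0 → D.β v y = 0 →
      (Col i v).map (g : Module.End F (Sp F k t)) = Col l w →
      ∃ s, s ≠ 0 ∧ (Col i y).map (g : Module.End F (Sp F k t)) = Col l s := by
    intro v w y _ hw hy hvy h
    have hr := range_conj g (D.root i y)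
    have hry : LinearMap.range (D.root i y) = Col i y := by
      simpa using D.range_root (i := i) hy (one_ne_zero (α := F))
    rw [hry] at hr
    obtain ⟨s, c, hs, hc, -, he⟩ := hX.col_of_perp ((hX.rk_root i hy).conj hg) (i := l) hw (by
      rw [hr]
      rintro _ ⟨m, hm, rfl⟩
      rw [D.mem_Perp, ← h]
      rintro _ ⟨u, hu, rfl⟩
      rw [D.gl_iso hg]
      exact D.mem_Perp.1 (D.Col_le_Perp hvy hm) u hu)
    exact ⟨s, hs, by rw [← hr, he, D.range_root hs hc]⟩
  have h1 : finrank F (⊥ : Submodule F (Fin k → F)) + 3 < k := by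
    rw [finrank_bot]; have := D.hk; omega
  obtain ⟨y, hy, hy0, -⟩ := exists_avoid (D.pair i) ![v, u, v] _ _ h1 h1
  have hyne : y ≠ 0 := fun e => hy0 (by rw [e]; exact Submodule.zero_mem _)
  obtain ⟨s, hs, hgy⟩ := key v w y hv hw hyne (hy 0) h
  exact key y s u hyne hs hu ((D.pair i).comm₂ (hy 1)) hgy

end Setup

end Cfsg.Agent.H72.SympWreath
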