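import Cfsg.Agent.H72.SympWreath.OddPieces

/-!
From one root outside a slot to all pure roots on all slots but one, for an even number of slots.
-/

set_option autoImplicit false

namespace Cfsg.Agent.H72.SympWreath

open Matrix Finset
open Cfsg.Agent.H24.Wreath Cfsg.Agent.H24.Wreath.Gram
open Cfsg.Agent.Aschbacher (pureMat pureVec slotMat factorPerm)

variable {F : Type*} [Field F] {k t : ℕ} {𝕘 : Gram F k} {H : Subgroup (Mat F k t)ˣ} {T S : Finset (Fin t)}
  {a b c : Fin t → Fin k → F} [NeZero k] (hH : 𝕘.Over H)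

/-- Even permutations of the slots are there. -/
def EvenPerms (H : Subgroup (Mat F k t)ˣ) : Prop :=
  ∀ π : Equiv.Perm (Fin t), Equiv.Perm.sign π = 1 → ∃ g ∈ H, (g : Mat F k t) = factorPerm π

omit [NeZero k] in
theorem Q_perm_even (hp : EvenPerms H) {X : Fin t → Matrix (Fin k) (Fin k) F} (h : Q (F := F) H (pureMat X : Mat F k t))
    {π : Equiv.Perm (Fin t)} (hπ : Equiv.Perm.sign π = 1) :
    Q (F := F) H (pureMat fun j => X (π.symm j) : Mat F k t) := by
  obtain ⟨g, hg, hv⟩ := hp π hπ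
  have h1 := h.map hg
  rwa [hv, Aschbacher.factorPerm_conj, mul_assoc, ← hv, g.mul_inv, mul_one] at h1

omit [NeZero k] in
theorem full_image (hp : EvenPerms H) (h : 𝕘.Full H T) {T' : Finset (Fin t)} (hc : T.card = T'.card)
    (h2 : 2 ≤ T.card) : 𝕘.Full H T' := by
  classical
  obtain ⟨π₀, hπ₀⟩ := exists_perm_image hc
  obtain ⟨x, hx, y, hy, hxy⟩ := Finset.one_lt_card.1 (show 1 < T'.card by omega)
  obtain ⟨π, hsign, hπ⟩ : ∃ π : Equiv.Perm (Fin t), Equiv.Perm.sign π = 1 ∧ ∀ j, π.symm j ∈ T ↔ j ∈ T' := by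
    rcases Int.units_eq_one_or (Equiv.Perm.sign π₀) with hs | hs
    · exact ⟨π₀, hs, hπ₀⟩
    refine ⟨Equiv.swap x y * π₀, by rw [map_mul, hs, Equiv.Perm.sign_swap hxy]; rfl, fun j => ?_⟩
    show π₀.symm (Equiv.swap x y j) ∈ T ↔ _
    rw [hπ₀]
    rcases eq_or_ne j x with rfl | hjx
    · simp [hx, hy]
    rcases eq_or_ne j y with rfl | hjy
    · simp [hx, hy]
    rw [Equiv.swap_apply_of_ne_of_ne hjx hjy]
  intro a' ha'
  have h1 := Q_perm_even hp (h (fun j => a' (π j)) fun j hj => ha' _ ((hπ _).1 (by rwa [Equiv.symm_apply_apply]))) hsign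
  convert h1 using 3 with j
  simp only [hπ j, Equiv.apply_symm_apply]

include hH

omit [NeZero k] in
/-- The vector of a root piece may be changed. -/
theorem Q_piece_root {X : Fin t → Matrix (Fin k) (Fin k) F} {m : Fin t} {e : Fin k → F} (he : e ≠ 0)
    (hX : X m = 𝕘.root e) (h : Q (F := F) H (pureMat X : Mat F k t)) (e' : Fin k → F) :
    Q (F := F) H (pureMat (Function.update X m (𝕘.root e')) : Mat F k t) := by
  rcases eq_or_ne e' 0 with rfl | he'
  · rw [pureMat_eq_zero_of (l := m) (by simp [Gram.root, tau_zero_left])]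
    exact Q.zero
  obtain ⟨g, hg, hv⟩ := (hH.moves m he he').conj_mul (M := pureMat (Function.update X m 1))
    (off_pureMat (Function.update_self m _ _))
  have h1 := h.map hg
  rw [pureMat_eq_sl_mul X m, hX, hv] at h1
  rw [pureMat_eq_sl_mul _ m, Function.update_self, Function.update_idem]
  exact h1

omit [NeZero k] in
/-- A root piece becomes a symmetrised pair. -/
theorem Q_piece_sym {X : Fin t → Matrix (Fin k) (Fin k) F} {m i : Fin t} (him : i ≠ m) (hi : X i * X i = 0)
    {e : Fin k → F} (he : e ≠ 0) (hX : X m = 𝕘.root e) (h : Q (F := F) H (pureMat X : Mat F k t)) (x y : Fin k → F) :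
    Q (F := F) H (pureMat (Function.update X m (𝕘.tau x y + 𝕘.tau y x)) : Mat F k t) := by
  have hr := Q_piece_root hH he hX h
  have hn : ∀ z, Q (F := F) H (pureMat (Function.update X m (-𝕘.root z)) : Mat F k t) := fun z => by
    rw [← neg_one_smul F (𝕘.root z), pureMat_update_smul, neg_one_smul]
    exact (hr z).neg
  rw [show 𝕘.tau x y + 𝕘.tau y x = 𝕘.root (x + y) + (-𝕘.root x + -𝕘.root y) by
    simp only [Gram.root, tau_add_left, tau_add_right]; abel]
  exact Q_piece_add him hi (hr _) (Q_piece_add him hi (hn x) (hn y))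

/-- Changing one piece of a state to the involution. -/
theorem exists_invol_piece (hk : k = 4) (hs : 𝕘.State H T S a b c) {l : Fin t} (hl : l ∈ S) :
    ∃ J, J * J = 1 ∧ Q (F := F) H (pureMat (Function.update (𝕘.pc T S a b c) l J) : Mat F k t) := by
  classical
  have hlT : l ∉ T := fun h => Finset.disjoint_left.1 hs.disj h hl
  obtain ⟨i, hi⟩ := Finset.card_pos.1 (hs.odd_card hH).pos
  have hil : i ≠ l := fun e => hlT (e ▸ hi)
  obtain ⟨w₁, w₂, hJ⟩ := exists_sum_invol hk (hs.hbc l hl) (hs.hne l hl)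
  refine ⟨_, hJ, ?_⟩
  have h0 : 𝕘.pc T S a b c l = 𝕘.sb (b l) (c l) := by simp [pc, hlT, hl]
  refine Q_piece_add hil (by simp [pc, hi, root_mul_root_self]) ?_ ?_
  · rw [← h0, Function.update_eq_self]
    exact hs.mem
  · have h2 := Q_piece_conj (l := l) hH (Q_piece_conj (l := l) hH hs.mem w₁) w₂
    rwa [Function.update_self, Function.update_idem, h0, conj_sb, conj_sb] at h2

/-- Several rank two pieces, an odd number: one becomes trivial, the others roots. -/
theorem elim_many (hk : k = 4) (hs : 𝕘.State H T S a b c) (hS : Odd S.card) {l : Fin t} (hl : l ∈ S)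
    (hS0 : (S.erase l).Nonempty) : 𝕘.Full H (T ∪ S.erase l) := by
  classical
  have hT := hs.odd_card hH
  obtain ⟨J, hJ, hmem⟩ := exists_invol_piece hH hk hs hl
  have hnT : ∀ j ∈ S, j ∉ T := fun j hj h => Finset.disjoint_left.1 hs.disj h hj
  set S₀ := S.erase l with hS₀
  have hexT : ∀ j, ∃ w, j ∈ T → 𝕘.β w (a j) ≠ 0 := fun j => by
    by_cases hj : j ∈ T
    · obtain ⟨w, hw⟩ := 𝕘.exists_one (hs.ha j hj)
      exact ⟨w, fun _ => by rw [β_skew, hw]; exact neg_ne_zero.2 one_ne_zero⟩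
    · exact ⟨0, fun h => absurd h hj⟩
  have hexS : ∀ j, ∃ w, j ∈ S → 𝕘.β w (b j) = 0 ∧ 𝕘.β w (c j) ≠ 0 := fun j => by
    by_cases hj : j ∈ S
    · obtain ⟨-, w, hw⟩ := sb_parts (hs.hne j hj)
      exact ⟨w, fun _ => hw⟩
    · exact ⟨0, fun h => absurd h hj⟩
  choose u hu using hexT
  choose v hv using hexS
  let w : Fin t → Fin k → F := fun j => if j ∈ T then u j else if j ∈ S₀ then v j else 0
  let p : Fin t → F := fun j =>
    if j ∈ T then -(𝕘.β (u j) (a j) * 𝕘.β (u j) (a j)) * (𝕘.β (u j) (a j) * 𝕘.β (u j) (a j))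
    else if j ∈ S₀ then -(𝕘.β (v j) (c j) * 𝕘.β (v j) (c j)) else 1
  let q : Fin t → F := fun j =>
    if j ∈ T then (𝕘.β (u j) (a j) * 𝕘.β (u j) (a j)) * (𝕘.β (u j) (a j) * 𝕘.β (u j) (a j))
    else if j ∈ S₀ then 𝕘.β (v j) (c j) * 𝕘.β (v j) (c j) else 1
  let y : Fin t → Fin k → F := fun j => if j ∈ T then u j else b j
  have hy : ∀ j ∈ T ∪ S₀, y j ≠ 0 := fun j hj => by
    simp only [y]
    split_ifs with h
    · exact fun h0 => hu j h (by rw [h0, β_zero_left])
    · exact (sb_parts (hs.hne j (mem_of_mem_erase ((Finset.mem_union.1 hj).resolve_left h)))).1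
  refine hH.full_of_one (a := y) ?_ hy
  set Z := Function.update (𝕘.pc T S a b c) l J with hZ
  have hX' := hH.Q_steps hmem w
  have hwl : w l = 0 := by simp [w, S₀, hnT l hl]
  have eS : ∀ j ∈ S₀, Z j = 𝕘.sb (b j) (c j) ∧
      (1 + 𝕘.root (w j)) * Z j * (1 - 𝕘.root (w j)) = 𝕘.sb (b j) (𝕘.st (v j) (c j)) := fun j hj => by
    have hjS := mem_of_mem_erase hj
    have e : Z j = 𝕘.sb (b j) (c j) := by simp [Z, ne_of_mem_erase hj, pc, hnT j hjS, hjS]
    refine ⟨e, ?_⟩
    rw [e]
    simp only [w, if_neg (hnT j hjS), if_pos hj, conj_sb]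
    rw [show 𝕘.st (v j) (b j) = b j by rw [Gram.st, (hv j hjS).1, zero_smul, add_zero]]
  obtain ⟨f, hf⟩ := hS0
  have hfS := mem_of_mem_erase hf
  refine hH.merge hmem hX' T u p q (fun j hj => ?_) (fun j hj => ?_) ⟨f, ?_⟩ ⟨f, ?_⟩ (f := f) (hnT f hfS) ?_ ?_
  · have hjl : j ≠ l := fun e => hnT l hl (e ▸ hj)
    simp only [Z, Function.update_of_ne hjl, pc, w, p, q, y, if_pos hj, if_pos (mem_union_left S₀ hj), conj_tau]
    exact mu_root
  · by_cases hjS : j ∈ S₀
    · rw [(eS j hjS).2, (eS j hjS).1]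
      simp only [p, q, y, if_neg hj, if_pos hjS, if_pos (mem_union_right T hjS)]
      exact ⟨(mu_sb (hs.hbc j (mem_of_mem_erase hjS)) (hv j (mem_of_mem_erase hjS)).1).1,
        (mu_sb (hs.hbc j (mem_of_mem_erase hjS)) (hv j (mem_of_mem_erase hjS)).1).2.1⟩
    · rcases eq_or_ne j l with rfl | hjl
      · simp [Z, hwl, p, q, hj, hjS, hJ, Gram.root, tau_zero_left]
      have hjS' : j ∉ S := fun h => hjS (mem_erase.2 ⟨hjl, h⟩)
      simp [Z, pc, w, p, q, hj, hjS, hjS', hjl, Gram.root, tau_zero_left]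
  · rw [(eS f hf).2, (eS f hf).1, (mu_sb (hs.hbc f hfS) (hv f hfS).1).1, smul_mul_assoc,
      (mu_sb (hs.hbc f hfS) (hv f hfS).1).2.2.1, smul_zero]
  · rw [(eS f hf).2, (eS f hf).1, (mu_sb (hs.hbc f hfS) (hv f hfS).1).2.1, smul_mul_assoc,
      (mu_sb (hs.hbc f hfS) (hv f hfS).1).2.2.2, smul_zero]
  · simp only [if_pos (mem_union_right T hf)]
    exact 𝕘.root_mul_root_self _
  · have e : ∀ j, p j = (if j ∈ T ∪ S₀ then -1 else 1) * q j := fun j => by
      simp only [p, q, Finset.mem_union]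
      split_ifs <;> first | ring1 | (exfalso; tauto)
    have hq : ∏ j, q j ≠ 0 := Finset.prod_ne_zero_iff.2 fun j _ => by
      simp only [q]
      split_ifs with h1 h2
      · exact mul_ne_zero (mul_ne_zero (hu j h1) (hu j h1)) (mul_ne_zero (hu j h1) (hu j h1))
      · exact mul_ne_zero (hv j (mem_of_mem_erase h2)).2 (hv j (mem_of_mem_erase h2)).2
      · exact one_ne_zero
    have hev : Even S₀.card := by
      rw [hS₀, Finset.card_erase_of_mem hl]
      exact Nat.Odd.sub_odd hS odd_one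
    rw [Finset.prod_congr rfl fun j _ => e j, Finset.prod_mul_distrib, Finset.prod_ite_mem, univ_inter, prod_const,
      Finset.card_union_of_disjoint (hs.disj.mono_right (erase_subset l S)), (hT.add_even hev).neg_one_pow,
      neg_one_mul]
    intro h0
    exact hq ((mul_eq_zero.1 (show (2 : F) * ∏ j, q j = 0 by linear_combination -h0)).resolve_left 𝕘.two)

/-- A single rank two piece beside at least three roots is removed. -/
theorem elim_one (hk : k = 4) {l : Fin t} (hs : 𝕘.State H T {l} a b c) (h3 : 2 ≤ T.card) : 𝕘.Full H T := by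
  classical
  obtain ⟨J, hJ, hmem⟩ := exists_invol_piece hH hk hs (mem_singleton_self l)
  have hlT : l ∉ T := fun h => Finset.disjoint_left.1 hs.disj h (mem_singleton_self l)
  obtain ⟨m, hm, m', hm', hmm⟩ := Finset.one_lt_card.1 (show 1 < T.card by omega)
  have hexT : ∀ j, ∃ w, j ∈ T → 𝕘.β (a j) w = 1 := fun j => by
    by_cases hj : j ∈ T
    · obtain ⟨w, hw⟩ := 𝕘.exists_one (hs.ha j hj)
      exact ⟨w, fun _ => hw⟩
    · exact ⟨0, fun h => absurd h hj⟩
  choose u hu using hexT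
  set Z := Function.update (𝕘.pc T {l} a b c) l J with hZ
  have hml : m ≠ l := fun e => hlT (e ▸ hm)
  have hm'l : m' ≠ l := fun e => hlT (e ▸ hm')
  have hZT : ∀ j ∈ T, Z j = 𝕘.root (a j) := fun j hj => by
    simp [Z, show j ≠ l from fun e => hlT (e ▸ hj), pc, hj]
  set R := (T.erase m).erase m' with hR
  let w : Fin t → Fin k → F := fun j => if j ∈ R then u j else 0
  let Sy : Fin t → Matrix (Fin k) (Fin k) F := fun j => 𝕘.tau (a j) (u j) + 𝕘.tau (u j) (a j)
  have h1 : Q (F := F) H (pureMat (Function.update Z m' (Sy m')) : Mat F k t) :=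
    Q_piece_sym hH hmm (by rw [hZT m hm]; exact root_mul_root_self 𝕘 _) (hs.ha m' hm') (hZT m' hm') hmem _ _
  set C : Fin t → Matrix (Fin k) (Fin k) F := fun j => (1 + 𝕘.root (w j)) * Z j * (1 - 𝕘.root (w j)) with hC
  have hwm : w m = 0 := by simp [w, R]
  have hwm' : w m' = 0 := by simp [w, R]
  have hCm : C m = 𝕘.root (a m) := by simp [C, hwm, hZT m hm, Gram.root, tau_zero_left]
  have hCm' : C m' = 𝕘.root (a m') := by simp [C, hwm', hZT m' hm', Gram.root, tau_zero_left]
  have h2 : Q (F := F) H (pureMat (Function.update C m (Sy m)) : Mat F k t) :=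
    Q_piece_sym hH hmm.symm (by rw [hCm']; exact root_mul_root_self 𝕘 _) (hs.ha m hm) hCm
      (hH.Q_steps hmem w) _ _
  let p : Fin t → F := fun j => if j ∈ R then -(𝕘.β (u j) (a j) * 𝕘.β (u j) (a j)) *
    (𝕘.β (u j) (a j) * 𝕘.β (u j) (a j)) else if j = m then -1 else 1
  let q : Fin t → F := fun j => if j ∈ R then (𝕘.β (u j) (a j) * 𝕘.β (u j) (a j)) *
    (𝕘.β (u j) (a j) * 𝕘.β (u j) (a j)) else if j = m' then -1 else 1
  let y : Fin t → Fin k → F := fun j => if j ∈ R then u j else a j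
  have hy : ∀ j ∈ T, y j ≠ 0 := fun j hj => by
    simp only [y]
    split_ifs
    · intro h0
      have := hu j hj
      rw [h0, β_zero_right] at this
      exact zero_ne_one this
    · exact hs.ha j hj
  have eR : ∀ e g : Fin k → F, 𝕘.β e g = 1 →
      (𝕘.tau e g + 𝕘.tau g e) * 𝕘.root e = (-1 : F) • 𝕘.root e ∧
      𝕘.root e * (𝕘.tau e g + 𝕘.tau g e) = (1 : F) • 𝕘.root e ∧
      𝕘.root e * (𝕘.tau e g + 𝕘.tau g e) * 𝕘.root e = 0 := fun e g hg => by
    have hge : 𝕘.β g e = -1 := by rw [β_skew, hg]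
    refine ⟨?_, ?_, ?_⟩ <;>
      simp [Gram.root, mul_add, add_mul, tau_mul_tau, 𝕘.β_self, hg, hge]
  refine hH.full_of_one (a := y) ?_ hy
  have hjR : ∀ j ∈ R, j ∈ T ∧ j ≠ m ∧ j ≠ m' ∧ j ≠ l := fun j hj =>
    ⟨mem_of_mem_erase (mem_of_mem_erase hj), ne_of_mem_erase (mem_of_mem_erase hj), ne_of_mem_erase hj,
      fun e => hlT (e ▸ mem_of_mem_erase (mem_of_mem_erase hj))⟩
  refine hH.merge h1 h2 R u p q (fun j hj => ?_) (fun j hj => ?_) ⟨m', ?_⟩ ⟨m, ?_⟩ (f := m) (by simp [R]) ?_ ?_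
  · obtain ⟨hjT, h1, h2, -⟩ := hjR j hj
    simp only [Function.update_of_ne h1, Function.update_of_ne h2, C, hZT j hjT, w, p, q, y, if_pos hj, if_pos hjT,
      conj_tau]
    exact mu_root
  · rcases eq_or_ne j m with rfl | hjm
    · simp only [Function.update_self, Function.update_of_ne hmm, hZT j hm, p, q, y, if_neg hj, if_pos hm,
        if_pos rfl, if_neg hmm]
      exact ⟨(eR _ _ (hu j hm)).1, (eR _ _ (hu j hm)).2.1⟩
    rcases eq_or_ne j m' with rfl | hjm'
    · simp only [Function.update_self, Function.update_of_ne hjm, hCm', p, q, y, if_neg hj, if_pos hm',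
        if_pos rfl, if_neg hjm]
      exact ⟨(eR _ _ (hu j hm')).2.1, (eR _ _ (hu j hm')).1⟩
    have hjT : j ∉ T := fun h => hj (mem_erase.2 ⟨hjm', mem_erase.2 ⟨hjm, h⟩⟩)
    have hwj : w j = 0 := by simp [w, hj]
    rcases eq_or_ne j l with rfl | hjl
    · simp [C, Z, hjm, hjm', hwj, hjT, hj, p, q, hJ, Gram.root, tau_zero_left]
    · simp [C, Z, pc, hjl, hjm, hjm', hwj, hjT, hj, p, q, Gram.root, tau_zero_left]
  · rw [Function.update_self, Function.update_of_ne hmm.symm, hCm']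
    exact (eR _ _ (hu m' hm')).2.2
  · rw [Function.update_self, Function.update_of_ne hmm, hZT m hm]
    exact (eR _ _ (hu m hm)).2.2
  · simp only [y, if_pos hm]
    exact root_mul_root_self 𝕘 _
  · have e : ∀ j, p j = (if j ∈ T then -1 else 1) * q j := fun j => by
      by_cases hj : j ∈ R
      · simp only [p, q, if_pos hj, if_pos (hjR j hj).1]; ring
      rcases eq_or_ne j m with rfl | hjm
      · simp [p, q, hj, hm, hmm]
      rcases eq_or_ne j m' with rfl | hjm'
      · simp [p, q, hj, hm', hjm]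
      · have hjT : j ∉ T := fun h => hj (mem_erase.2 ⟨hjm', mem_erase.2 ⟨hjm, h⟩⟩)
        simp [p, q, hj, hjT, hjm, hjm']
    have hq : ∏ j, q j ≠ 0 := Finset.prod_ne_zero_iff.2 fun j _ => by
      simp only [q]
      split_ifs with h1 h2
      · have : 𝕘.β (u j) (a j) ≠ 0 := by
          rw [β_skew, hu j (hjR j h1).1]; exact neg_ne_zero.2 one_ne_zero
        exact mul_ne_zero (mul_ne_zero this this) (mul_ne_zero this this)
      · exact neg_ne_zero.2 one_ne_zero
      · exact one_ne_zero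
    rw [Finset.prod_congr rfl fun j _ => e j, Finset.prod_mul_distrib, Finset.prod_ite_mem, univ_inter, prod_const,
      (hs.odd_card hH).neg_one_pow, neg_one_mul]
    intro h0
    exact hq ((mul_eq_zero.1 (show (2 : F) * ∏ j, q j = 0 by linear_combination -h0)).resolve_left 𝕘.two)

omit [NeZero k] in
/-- One root and one rank two piece give one root and two rank two pieces. -/
theorem double (hp : EvenPerms H) {i l : Fin t} (hs : 𝕘.State H {i} {l} a b c) {f : Fin t} (hfi : f ≠ i)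
    (hfl : f ≠ l) : ∃ b' c', 𝕘.State H {i} {l, f} a b' c' := by
  classical
  have hil : i ≠ l := fun e => Finset.disjoint_left.1 hs.disj (mem_singleton_self i) (e ▸ mem_singleton_self l)
  have hbc := hs.hbc l (mem_singleton_self l)
  obtain ⟨hb, w, hwb, hwc⟩ := sb_parts (hs.hne l (mem_singleton_self l))
  set X := 𝕘.pc {i} {l} a b c with hX
  set π := Equiv.swap i l * Equiv.swap l f with hπ
  have hsign : Equiv.Perm.sign π = 1 := by
    rw [hπ, map_mul, Equiv.Perm.sign_swap hil, Equiv.Perm.sign_swap hfl.symm]; rfl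
  have hinv : ∀ j, π.symm j = Equiv.swap l f (Equiv.swap i l j) := fun j => rfl
  set X₁ := fun j => X (π.symm j) with hX₁
  have e1 : X₁ l = 𝕘.root (a i) := by
    simp [X₁, hinv, Equiv.swap_apply_of_ne_of_ne hil hfi.symm, X, pc]
  have h1 := Q_piece_root hH (hs.ha i (mem_singleton_self i)) e1 (Q_perm_even hp hs.mem hsign) w
  set Z := Function.update X₁ l (𝕘.root w) with hZ
  have hXi : X i = 𝕘.root (a i) := by simp [X, pc]
  have hXl : X l = 𝕘.sb (b l) (c l) := by simp [X, pc, hil.symm]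
  have hXo : ∀ j, j ≠ i → j ≠ l → X j = 1 := fun j h h' => by simp [X, pc, h, h']
  have hZl : Z l = 𝕘.root w := Function.update_self _ _ _
  have hZi : Z i = 1 := by
    simp [Z, hil, X₁, hinv, Equiv.swap_apply_left, hXo f hfi hfl]
  have hZf : Z f = 𝕘.sb (b l) (c l) := by
    simp [Z, hfl, X₁, hinv, Equiv.swap_apply_of_ne_of_ne hfi hfl, hXl]
  have hZo : ∀ j, j ≠ i → j ≠ l → j ≠ f → Z j = 1 := fun j h h' h'' => by
    simp [Z, h', X₁, hinv, Equiv.swap_apply_of_ne_of_ne h h', Equiv.swap_apply_of_ne_of_ne h' h'', hXo j h h']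
  have hRAR : 𝕘.root w * 𝕘.sb (b l) (c l) * 𝕘.root w = 0 := by
    rw [Gram.root, tau_mul_mul_tau, sb_mulVec, β_sub_right, β_smul_right, β_smul_right, hwb, mul_zero, zero_sub,
      show 𝕘.β (b l) w = 0 by rw [β_skew, hwb, neg_zero], zero_mul, neg_zero, zero_smul]
  have hD := Q.bracket hs.mem h1
    (by
      rw [Aschbacher.pureMat_mul, Aschbacher.pureMat_mul]
      exact pureMat_eq_zero_of (l := l) (by show Z l * X l * Z l = 0; rw [hZl, hXl, hRAR]))
    (by
      rw [Aschbacher.pureMat_mul, Aschbacher.pureMat_mul]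
      exact pureMat_eq_zero_of (l := i) (by show X i * Z i * X i = 0; rw [hZi, hXi, mul_one, root_mul_root_self]))
  rw [Aschbacher.pureMat_mul, Aschbacher.pureMat_mul] at hD
  set b' : Fin t → Fin k → F := fun _ => b l
  set c' : Fin t → Fin k → F := fun j => if j = l then w else c l
  have hcomm : ∀ j, j ≠ l → Z j * X j = X j * Z j := fun j hj => by
    rcases eq_or_ne j i with rfl | hji
    · rw [hZi, one_mul, mul_one]
    · rw [hXo j hji hj, one_mul, mul_one]
  set W := 𝕘.pc {i} {l, f} a b' c'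
  have hbw : 𝕘.β (b l) w = 0 := by rw [β_skew, hwb, neg_zero]
  have hrel : 𝕘.root w * 𝕘.sb (b l) (c l) - 𝕘.sb (b l) (c l) * 𝕘.root w = 𝕘.β w (c l) • 𝕘.sb (b l) w := by
    have h := conj_sb (𝕘 := 𝕘) w (b l) (c l)
    rw [show 𝕘.st w (b l) = b l by rw [Gram.st, hwb, zero_smul, add_zero]] at h
    have h' : 𝕘.sb (b l) (𝕘.st w (c l)) = 𝕘.sb (b l) (c l) + 𝕘.β w (c l) • 𝕘.sb (b l) w := by
      simp only [sb, Gram.st, tau_add_left, tau_add_right, tau_smul_left, tau_smul_right, smul_sub]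
      abel
    rw [h', add_mul, mul_sub, one_mul, mul_one, add_mul, hRAR, add_zero] at h
    exact add_left_cancel ((by abel : _ = _).trans h)
  have hW : (pureMat (fun j => Z j * X j) - pureMat (fun j => X j * Z j) : Mat F k t) =
      𝕘.β w (c l) • pureMat W := by
    have eZX : (fun j => Z j * X j) = Function.update (fun j => X j * Z j) l (Z l * X l) := funext fun j => by
      rcases eq_or_ne j l with rfl | hj
      · rw [Function.update_self]
      · rw [Function.update_of_ne hj, hcomm j hj]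
    rw [eZX, sub_eq_iff_eq_add]
    conv_rhs => rw [← Function.update_eq_self l fun j => X j * Z j]
    rw [show W = Function.update (fun j => X j * Z j) l (𝕘.sb (b l) w) from funext fun j => ?_,
      ← pureMat_update_smul, ← pureMat_update_add, ← hrel, hZl, hXl, sub_add_cancel]
    rcases eq_or_ne j l with rfl | hjl
    · simp [W, pc, hil.symm, b', c']
    rw [Function.update_of_ne hjl]
    rcases eq_or_ne j i with rfl | hji
    · simp [W, pc, hXi, hZi]
    rcases eq_or_ne j f with rfl | hjf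
    · simp [W, pc, hji, hjl, hXo j hji hjl, hZf, b', c']
    · simp [W, pc, hji, hjl, hjf, hXo j hji hjl, hZo j hji hjl hjf]
  rw [hW] at hD
  refine ⟨b', c', ?_, hs.ha, fun j _ => ?_, fun j _ => ?_, ?_⟩
  · rw [Finset.disjoint_left]
    intro j hj hj'
    rw [mem_singleton] at hj
    subst hj
    simp [hil, hfi.symm] at hj'
  · simp only [b', c']
    split_ifs
    exacts [hbw, hbc]
  · simp only [b', c']
    split_ifs
    · intro h0
      have := congrArg (· *ᵥ c l) h0
      simp only [sb_mulVec, hbc, zero_smul, sub_zero, zero_mulVec] at this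
      exact smul_ne_zero hwc hb this
    · exact hs.hne l (mem_singleton_self l)
  · have := hD.smul (𝕘.β w (c l))⁻¹
    rwa [inv_smul_smul₀ hwc] at this

theorem exists_state (hno : ¬𝕘.NoRoot H) :
    ∃ T S a b c, 𝕘.State H T S a b c ∧ 2 ≤ T.card + S.card := by
  classical
  unfold Gram.NoRoot at hno
  push Not at hno
  obtain ⟨i, a, M, hM, hex, hne⟩ := hno
  have hQ := hH.Q_of_mem hM hex
  have ha : a ≠ 0 := fun h => hne 0 (by rw [h, Gram.root, tau_zero_left, sl_zero, zero_mul, smul_zero])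
  have hM0 : M ≠ 0 := fun h => hne 0 (by rw [h, mul_zero, zero_smul])
  obtain ⟨X, M', ⟨hoff, hQ'⟩, hM'0, hX, hM', hid⟩ := 𝕘.exists_pieces (univ.erase i)
    (fun Z => Off i Z ∧ Q (F := F) H (sl i (𝕘.root a) * Z)) (fun j hj b Z hZ => by
      have hji := ne_of_mem_erase hj
      have hP : Off i (sl j (𝕘.root b) : Mat F k t) := off_sl hji.symm _
      obtain ⟨h1, h2⟩ := hH.fam_ops hji b (𝕘.root_mul_root_self a) hZ.1 hZ.2
      refine ⟨⟨?_, h1⟩, (hP.mul hZ.1).mul hP, h2⟩
      rw [sub_eq_add_neg]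
      exact (hP.mul hZ.1).add (hZ.1.mul hP).neg) ⟨hM, hQ⟩ hM0
  have hXi : X i = 1 := (hX i).resolve_right fun h => notMem_erase i univ h.1
  have hR := off_pureMat (k := k) hXi
  have hXne : ∀ j, X j ≠ 0 := fun j => by
    rcases hX j with h | ⟨-, ⟨d, hd, h⟩ | ⟨b, c, -, h, h0⟩⟩
    · rw [h]; exact one_ne_zero
    · rw [h]; exact 𝕘.tau_ne_zero hd hd
    · exact h0
  obtain ⟨Y, rfl⟩ := eq_sl_of_off i fun j hj => hM' j (mem_erase.2 ⟨hj, mem_univ j⟩)
  have hY : ∀ Z, Z * Y = Y * Z := fun Z => by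
    by_contra hc
    refine mul_ne_zero_of_off (sub_ne_zero.2 hc) hR (Aschbacher.pureMat_ne_zero hXne) ?_
    have h1 := hoff Z
    rw [← mul_assoc, hR, mul_assoc, sl_mul, mul_assoc, sl_mul] at h1
    rw [hR, sl_sub, mul_sub, h1, sub_self]
  obtain ⟨c, hc⟩ : Y ∈ Set.range (Matrix.scalar (Fin k)) :=
    Matrix.mem_range_scalar_of_commute_single fun p q _ => hY _
  have hYc : (sl i Y : Mat F k t) = c • 1 := by
    rw [← hc, Matrix.scalar_apply, ← Matrix.smul_one_eq_diagonal, sl_smul, sl_one]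
  rw [hYc] at hM'0 hQ'
  have hc0 : c ≠ 0 := fun h => hM'0 (by rw [h, zero_smul])
  rw [mul_smul_comm, mul_one, mul_smul_comm] at hQ'
  have hQ2 : Q (F := F) H (sl i (𝕘.root a) * pureMat X) := by
    have := hQ'.smul c⁻¹
    rwa [smul_smul, inv_mul_cancel₀ hc0, one_smul] at this
  let T₀ := univ.filter fun j => j = i ∨ ∃ d, d ≠ 0 ∧ X j = 𝕘.root d
  let S₀ := univ.filter fun j => j ∉ T₀ ∧ X j ≠ 1
  have hexa : ∀ j, ∃ d, j ∈ T₀ → d ≠ 0 ∧ Function.update X i (𝕘.root a) j = 𝕘.root d := fun j => by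
    rcases eq_or_ne j i with rfl | hj
    · exact ⟨a, fun _ => ⟨ha, Function.update_self _ _ _⟩⟩
    by_cases hT : j ∈ T₀
    · obtain ⟨d, hd, h⟩ := ((mem_filter.1 hT).2).resolve_left hj
      exact ⟨d, fun _ => ⟨hd, by rw [Function.update_of_ne hj, h]⟩⟩
    · exact ⟨0, fun h => absurd h hT⟩
  have hexb : ∀ j, ∃ b c, j ∈ S₀ → 𝕘.β b c = 0 ∧ X j = 𝕘.sb b c ∧ X j ≠ 0 := fun j => by
    by_cases hS : j ∈ S₀
    · obtain ⟨hnT, hne1⟩ := (mem_filter.1 hS).2
      rcases hX j with h | ⟨-, ⟨d, hd, h⟩ | ⟨b, c, h⟩⟩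
      · exact absurd h hne1
      · exact absurd (mem_filter.2 ⟨mem_univ j, Or.inr ⟨d, hd, h⟩⟩) hnT
      · exact ⟨b, c, fun _ => h⟩
    · exact ⟨0, 0, fun h => absurd h hS⟩
  choose a' ha' using hexa
  choose b' c' hb' using hexb
  have hiT : i ∈ T₀ := mem_filter.2 ⟨mem_univ i, Or.inl rfl⟩
  have hsi : ∀ j ∈ S₀, j ≠ i := fun j hj h => (mem_filter.1 hj).2.1 (h ▸ hiT)
  have hs : 𝕘.State H T₀ S₀ a' b' c' := by
    refine ⟨Finset.disjoint_left.2 fun j hj hj' => (mem_filter.1 hj').2.1 hj, fun j hj => (ha' j hj).1,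
      fun j hj => (hb' j hj).1, fun j hj => (hb' j hj).2.1 ▸ (hb' j hj).2.2, ?_⟩
    convert hQ2 using 1
    rw [pureMat_eq_sl_mul (𝕘.pc T₀ S₀ a' b' c') i]
    have e : ∀ j, 𝕘.pc T₀ S₀ a' b' c' j = Function.update X i (𝕘.root a) j := fun j => by
      simp only [pc]
      split_ifs with h1 h2
      · exact (ha' j h1).2.symm
      · rw [Function.update_of_ne (hsi j h2)]; exact (hb' j h2).2.1.symm
      · have hj : j ≠ i := fun h => h1 (h ▸ hiT)
        rw [Function.update_of_ne hj]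
        by_contra hne'
        exact h2 (mem_filter.2 ⟨mem_univ j, h1, fun h => hne' h.symm⟩)
    rw [e, Function.update_self, funext e, Function.update_idem, ← hXi, Function.update_eq_self]
  have hbig : 2 ≤ T₀.card + S₀.card := by
    obtain ⟨j, hj⟩ : ∃ j, X j ≠ 1 := by
      by_contra hc'
      push Not at hc'
      have hall : ∀ j, Off j M := fun j => by
        rcases eq_or_ne j i with rfl | hj
        exacts [hM, hid hc' j (mem_erase.2 ⟨hj, mem_univ j⟩)]
      obtain ⟨r, hr⟩ := eq_smul_one_of_off hall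
      exact hne r (by rw [hr, mul_smul_comm, mul_one])
    have hji : j ≠ i := fun h => hj (h ▸ hXi)
    rw [← Finset.card_union_of_disjoint hs.disj]
    refine Finset.one_lt_card.2 ⟨i, mem_union_left _ hiT, j, ?_, hji.symm⟩
    by_cases hT : j ∈ T₀
    exacts [mem_union_left _ hT, mem_union_right _ (mem_filter.2 ⟨mem_univ j, hT, hj⟩)]
  exact ⟨_, _, _, _, _, hs, hbig⟩

/-- A longer pure root. -/
theorem grow (hp : EvenPerms H) (ht : Even t) (h : 𝕘.Full H T) (h2 : 2 ≤ T.card) (hlt : T.card < t - 1) :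
    ∃ T', 𝕘.Full H T' ∧ T.card < T'.card := by
  classical
  obtain ⟨e, he⟩ : ∃ e : Fin k → F, e ≠ 0 := ⟨Pi.single ⟨0, Nat.pos_of_ne_zero (NeZero.ne k)⟩ 1, by simp⟩
  obtain ⟨z, hz⟩ := 𝕘.exists_one he
  have hze : 𝕘.β z e = -1 := by rw [β_skew, hz]
  have hodd : Odd T.card := by
    have hs : 𝕘.State H T ∅ (fun _ => e) (fun _ => e) (fun _ => e) :=
      ⟨disjoint_empty_right T, fun _ _ => he, by simp, by simp, by
        convert h (fun _ => e) fun _ _ => he using 2
        funext j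
        simp [pc]⟩
    exact hs.odd_card hH
  set s := T.card with hs
  let m := if 2 * s ≤ t then 1 else 2 * s + 1 - t
  have hm : 1 ≤ m ∧ m < s ∧ 2 * s - m ≤ t ∧ Odd m := by
    simp only [m]
    split_ifs with hc
    · exact ⟨le_rfl, by omega, by omega, odd_one⟩
    · refine ⟨by omega, by omega, by omega, ?_⟩
      obtain ⟨x, hx⟩ := ht
      exact ⟨s - x, by omega⟩
  obtain ⟨O, hO, hOc⟩ := Finset.exists_subset_card_eq (show m ≤ T.card by omega)
  obtain ⟨U, hU, hUc⟩ := Finset.exists_subset_card_eq (s := Tᶜ) (n := s - m)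
    (by rw [Finset.card_compl, Fintype.card_fin]; omega)
  have hUT : ∀ j ∈ U, j ∉ T := fun j hj => Finset.mem_compl.1 (hU hj)
  have hdOU : Disjoint O U := Finset.disjoint_left.2 fun j hj hj' => hUT j hj' (hO hj)
  have h' := full_image hp h (T' := O ∪ U) (by rw [Finset.card_union_of_disjoint hdOU, hOc, hUc]; omega) h2
  obtain ⟨f, hfT, hfO⟩ : ∃ f, f ∈ T ∧ f ∉ O := Finset.exists_of_ssubset (Finset.ssubset_iff_subset_ne.2
    ⟨hO, fun h0 => by rw [h0] at hOc; omega⟩)
  obtain ⟨g, hg⟩ := Finset.card_pos.1 (show 0 < U.card by omega)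
  have hst : 𝕘.st z e ≠ 0 := st_ne_zero (by rw [hze]; exact neg_ne_zero.2 one_ne_zero)
  let x : Fin t → Fin k → F := fun j => if j ∈ O then 𝕘.st z e else e
  let y : Fin t → Fin k → F := fun j => if j ∈ O then z else e
  let p : Fin t → F := fun j => if j ∈ O then -1 else 1
  have hz0 : z ≠ 0 := fun h0 => by rw [h0, β_zero_right] at hz; exact zero_ne_one hz
  have hyj : ∀ j ∈ T ∪ U, y j ≠ 0 := fun j _ => by
    simp only [y]
    split_ifs
    exacts [hz0, he]
  refine ⟨T ∪ U, hH.full_of_one ?_ hyj, ?_⟩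
  · refine hH.merge (h (fun _ => e) fun _ _ => he)
      (h' x fun j _ => by simp only [x]; split_ifs; exacts [hst, he]) O (fun _ => z) p (fun _ => 1)
      (fun j hj => ?_) (fun j hj => ?_) ⟨g, ?_⟩ ⟨f, ?_⟩ (f := f) hfO ?_ ?_
    · have h1 := mu_root (𝕘 := 𝕘) (w := z) (e := e)
      rw [hze] at h1
      simpa [x, y, p, hj, hO hj] using h1
    · by_cases hjT : j ∈ T
      · have hjU : j ∉ U := fun h => hUT j h hjT
        simp [p, hj, hjT, hjU, y]
      · by_cases hjU : j ∈ U
        · simp [x, p, hj, hjT, hjU, y]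
        · simp [p, hj, hjT, hjU]
    · simp [x, hg, hUT g hg, fun h => Finset.disjoint_left.1 hdOU h hg, 𝕘.root_mul_root_self]
    · simp [hfT, hfO, show f ∉ U from fun h => hUT f h hfT, 𝕘.root_mul_root_self]
    · simp [hfT, 𝕘.root_mul_root_self]
    · simp only [p]
      rw [Finset.prod_ite_mem, univ_inter, prod_const, hOc, hm.2.2.2.neg_one_pow, Finset.prod_const_one]
      intro h0
      exact 𝕘.two (by linear_combination -h0)
  · rw [Finset.card_union_of_disjoint (Finset.disjoint_left.2 fun j hj hj' => hUT j hj' hj), hUc]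
    omega

/-- A root outside one slot gives all pure roots on three slots at least. -/
theorem exists_full (hp : EvenPerms H) (hk : k = 2 ∨ k = 4) (ht4 : 4 ≤ t) (hno : ¬𝕘.NoRoot H) :
    ∃ T, 𝕘.Full H T ∧ 2 ≤ T.card := by
  classical
  obtain ⟨T, S, a, b, c, hs, hbig⟩ := exists_state hH hno
  have hTpos := (hs.odd_card hH).pos
  rcases S.eq_empty_or_nonempty with rfl | hS0
  · refine ⟨T, hH.full_of_one ?_ hs.ha, by simpa using hbig⟩
    convert hs.mem using 2
    funext j
    simp [pc]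
  obtain ⟨l, hl⟩ := id hS0
  rcases Nat.even_or_odd S.card with hev | hodd
  · exact ⟨_, hH.absorb hs hev hS0, by rwa [Finset.card_union_of_disjoint hs.disj]⟩
  have hk4 : k = 4 := hk.resolve_left fun h => hs.hne l hl (sb_eq_zero_of_two h (hs.hbc l hl))
  rcases (S.erase l).eq_empty_or_nonempty with h0 | h0
  swap
  · refine ⟨_, elim_many hH hk4 hs hodd hl h0, ?_⟩
    rw [Finset.card_union_of_disjoint (hs.disj.mono_right (erase_subset l S))]
    have := h0.card_pos
    omega
  obtain rfl : S = {l} := ((Finset.erase_eq_empty_iff S l).1 h0).resolve_left hS0.ne_empty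
  by_cases hT : 2 ≤ T.card
  · exact ⟨T, elim_one hH hk4 hs hT, hT⟩
  obtain ⟨i, rfl⟩ := Finset.card_eq_one.1 (show T.card = 1 by omega)
  obtain ⟨f, -, hf⟩ := Finset.exists_mem_notMem_of_card_lt_card (s := ({i, l} : Finset (Fin t)))
    (t := Finset.univ) (by
      rw [Finset.card_univ, Fintype.card_fin]
      exact lt_of_le_of_lt Finset.card_le_two (by omega))
  rw [Finset.mem_insert, Finset.mem_singleton, not_or] at hf
  obtain ⟨b', c', hs'⟩ := double hH hp hs hf.1 hf.2
  refine ⟨_, hH.absorb hs' ?_ (by simp), ?_⟩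
  · rw [Finset.card_pair (Ne.symm hf.2)]; exact even_two
  · rw [Finset.card_union_of_disjoint hs'.disj, Finset.card_pair (Ne.symm hf.2)]
    omega

/-- All pure roots on all slots but one. -/
theorem climb (hp : EvenPerms H) (hk : k = 2 ∨ k = 4) (ht : Even t) (ht4 : 4 ≤ t) (hno : ¬𝕘.NoRoot H)
    {T₀ : Finset (Fin t)} (hT₀ : T₀.card = t - 1) : 𝕘.Full H T₀ := by
  classical
  obtain ⟨T, h, h2⟩ := exists_full hH hp hk ht4 hno
  obtain ⟨e, he⟩ : ∃ e : Fin k → F, e ≠ 0 := ⟨Pi.single ⟨0, Nat.pos_of_ne_zero (NeZero.ne k)⟩ 1, by simp⟩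
  have key : ∀ n, ∀ T : Finset (Fin t), t - T.card = n → 2 ≤ T.card → 𝕘.Full H T → 𝕘.Full H T₀ := by
    intro n
    induction n using Nat.strong_induction_on with
    | _ n ih =>
      intro T hn h2 h
      rcases lt_or_ge T.card (t - 1) with hlt | hge
      · obtain ⟨T', h', hlt'⟩ := grow hH hp ht h h2 hlt
        have := Finset.card_le_univ T'
        rw [Fintype.card_fin] at this
        exact ih _ (by omega) T' rfl (by omega) h'
      · have hs : 𝕘.State H T ∅ (fun _ => e) (fun _ => e) (fun _ => e) :=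
          ⟨disjoint_empty_right T, fun _ _ => he, by simp, by simp, by
            convert h (fun _ => e) fun _ _ => he using 2
            funext j
            simp [pc]⟩
        obtain ⟨x, hx⟩ := hs.odd_card hH
        obtain ⟨y, hy⟩ := ht
        have := Finset.card_le_univ T
        rw [Fintype.card_fin] at this
        exact full_image hp h (by omega) h2
  exact key _ T rfl h2 h

end Cfsg.Agent.H72.SympWreath
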