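import Cfsg.Agent.H72.SympWreath.OddBridge
import Cfsg.Agent.H72.SympWreath.OddClimb
import Cfsg.Agent.H98.TensorSp.Main
import Cfsg.Agent.H24.Tensor.Closure

/-!
Pure roots on all slots but one give every Siegel transformation.
-/

set_option autoImplicit false

namespace Cfsg.Agent.H72.SympWreath

open QuadraticMap Module Matrix Cfsg.Agent.Orthogonal Cfsg.Agent.H98 Cfsg.Agent.H98.ExtField Cfsg.Agent.H98.TensorGL
  Cfsg.Agent.H98.TensorSp Cfsg.Agent.H96.TensorPower
open Cfsg.Agent.H24.Wreath (Gram)
open Cfsg.Agent.Aschbacher (pureMat)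

section Swap

variable {F : Type*} [Field F] {a b : ℕ} {V : Type*} [AddCommGroup V] [Module F V] {Q : QuadraticForm F V}

/-- The two factors exchanged. -/
def flipT (F : Type*) [Field F] (a b : ℕ) : T F a b ≃ₗ[F] T F b a where
  toFun m r i := m i r
  invFun m i r := m r i
  map_add' _ _ := rfl
  map_smul' _ _ := rfl
  left_inv _ := rfl
  right_inv _ := rfl

theorem flipT_pure (p : Fin b → F) (v : Fin a → F) :
    flipT F a b (TensorGL.pure p v) = TensorGL.pure v p :=
  funext fun r => funext fun i => by simp [flipT, mul_comm]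

/-- The pair with the factors exchanged. -/
def swapPair (S : Pair F b a) : Pair F a b where
  B₁ := S.B₂
  B₂ := S.B₁
  alt₁ := S.alt₂
  nd₁ := S.nd₂
  alt₂ := S.alt₁
  nd₂ := S.nd₁

variable {S : Pair F b a} {L : T F b a ≃ₗ[F] V}

theorem coord_swap (hc : Coord S Q L) : Coord (swapPair S) Q ((flipT F a b).trans L) := by
  refine ⟨fun x y => ?_, fun p v => ?_⟩
  · conv_lhs => rw [TensorSp.sum_pure_rows x, TensorSp.sum_pure_rows y]
    rw [map_sum, map_sum]
    show QuadraticMap.polarBilin Q _ _ = _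
    simp only [map_sum, LinearMap.sum_apply, Pair.Bt]
    rw [Finset.sum_comm]
    refine Finset.sum_congr rfl fun i _ => Finset.sum_congr rfl fun j _ => ?_
    rw [LinearEquiv.trans_apply, LinearEquiv.trans_apply, flipT_pure, flipT_pure, QuadraticMap.polarBilin_apply_apply,
      hc.polar_eq, S.Bt_pure_pure]
    rfl
  · rw [LinearEquiv.trans_apply, flipT_pure]
    exact hc.pure_eq _ _

theorem mn_flip {X : Subgroup (O Q)} {A : Module.End F (T F b a)} {A' : Module.End F (T F a b)}
    (h : MN (X.map (coordUnits Q L)) A) (he : ∀ m, A' m = (flipT F a b).symm (A (flipT F a b m))) :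
    MN (X.map (coordUnits Q ((flipT F a b).trans L))) A' := by
  obtain ⟨h2, _, ⟨x, hx, rfl⟩, hv⟩ := h
  refine ⟨LinearMap.ext fun m => ?_, _, ⟨x, hx, rfl⟩, LinearMap.ext fun m => ?_⟩
  · rw [Module.End.mul_apply, he, he, LinearEquiv.apply_symm_apply, ← Module.End.mul_apply, h2]
    simp
  · have h3 := LinearMap.congr_fun hv (flipT F a b m)
    rw [coordUnits_apply, LinearMap.add_apply, Module.End.one_apply] at h3
    rw [coordUnits_apply, LinearMap.add_apply, Module.End.one_apply, he, LinearEquiv.trans_apply,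
      LinearEquiv.trans_symm, LinearEquiv.trans_apply, h3, map_add, LinearEquiv.symm_apply_apply]

end Swap

namespace Base

variable {F : Type*} [Field F] {k t : ℕ} {D : Base F k t} {X : Subgroup (O D.Q)} (h2 : (2 : F) ≠ 0)

/-- Even permutations of the slots. -/
def Perms (D : Base F k t) (X : Subgroup (O D.Q)) : Prop :=
  ∀ π : Equiv.Perm (Fin t), Equiv.Perm.sign π = 1 →
    ∃ g ∈ X, ∀ x, (g : Sp F k t ≃ₗ[F] Sp F k t) x = permL F k π x

theorem evenPerms (hP : D.Perms X) : EvenPerms (X.map D.matHom) := fun π hπ => by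
  obtain ⟨g, hg, he⟩ := hP π hπ
  refine ⟨_, Subgroup.mem_map_of_mem _ hg, Matrix.toLinAlgEquiv'.injective (LinearMap.ext fun x => ?_)⟩
  rw [toLin_matHom, toU_apply, he, Matrix.toLinAlgEquiv'_apply]
  funext a
  simp only [Cfsg.Agent.Aschbacher.factorPerm, Matrix.mulVec, dotProduct, Matrix.of_apply, ite_mul, one_mul, zero_mul,
    Finset.sum_ite_eq', Finset.mem_univ, if_true]
  rfl

/-- Pure roots of the rest in the coordinates of a slot. -/
theorem mn_pure_root (hR : D.Roots' X) (hP : D.Perms X) (hk : k = 2 ∨ k = 4) (ht : Even t) (ht4 : 4 ≤ t)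
    (hno : ¬(D.gram h2).NoRoot (X.map D.matHom)) (i : Fin t) (x : Fin t → Fin k → F) (s : F) :
    MN (X.map (coordUnits D.Q (Ls F k i))) (lt (s • (D.pair i).tau (restVec i x) (restVec i x))) := by
  classical
  have : NeZero k := ⟨D.k_pos.ne'⟩
  have hfull := climb (gOver h2 hR) (evenPerms hP) hk ht ht4 hno (T₀ := Finset.univ.erase i)
    (by rw [Finset.card_erase_of_mem (Finset.mem_univ i), Finset.card_univ, Fintype.card_fin])
  by_cases hx : ∀ j, j ≠ i → x j ≠ 0
  swap
  · push Not at hx
    obtain ⟨j, hj, hj0⟩ := hx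
    have h0 : restVec i x = 0 := funext fun r =>
      Finset.prod_eq_zero (Finset.mem_univ (⟨j, hj⟩ : {l // l ≠ i})) (by rw [hj0]; rfl)
    rw [h0, show (D.pair i).tau (0 : Fin (rk k t i) → F) 0 = 0 from
      Matrix.ext_iff_mulVec.2 fun z => by simp [Pair.tau_mulVec], smul_zero,
      show (lt (0 : Matrix (Fin (rk k t i)) (Fin (rk k t i)) F) : Module.End F (T F (rk k t i) k)) = 0 from
        LinearMap.ext fun m => funext fun r => by simp [lt]]
    exact MN.zero
  set P : Fin t → Module.End F (Fin k → F) := fun l => if l = i then 1 else D.tauL (x l) (x l)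
  have hpm : (pureMat fun l => if l ∈ Finset.univ.erase i then (D.gram h2).root (x l) else 1) =
      (pureMat fun l => LinearMap.toMatrix' (P l) : Cfsg.Agent.H24.Wreath.Mat F k t) := congrArg pureMat (funext fun l => by
    rcases eq_or_ne l i with rfl | hl
    · simp only [P, if_pos rfl, Finset.notMem_erase, if_false]
      exact (LinearMap.toMatrix'_id).symm
    · simp only [P, if_neg hl, Finset.mem_erase, ne_eq, hl, not_false_eq_true, Finset.mem_univ, and_self, if_true,
        Gram.root, gram_tau])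
  have hQ := hfull x fun j hj => hx j (Finset.ne_of_mem_erase hj)
  rw [hpm] at hQ
  obtain ⟨hsq, hall⟩ := hQ
  have ecj : cj F k i (Matrix.toLinAlgEquiv' (pureMat fun l => LinearMap.toMatrix' (P l) : Cfsg.Agent.H24.Wreath.Mat F k t)) =
      lt (rsF i P) := ext_T i D.k_pos fun v y => by
    rw [cj_apply, Ls_pure, toLin_pureMat, lt_pure, rsF_restVec, LinearEquiv.symm_apply_eq, Ls_pure]
    congr 1
    funext l
    rcases eq_or_ne l i with rfl | hl
    · simp [P]
    · simp [hl]
  have etau : (D.pair i).tau (restVec i x) (restVec i x) = D.c • rsF i P := by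
    rw [D.tau_restVec]
    exact congrArg _ (rsF_congr i fun l hl => by simp [P, hl])
  obtain ⟨u, hu, he⟩ := hall (s * D.c)
  obtain ⟨g, hg, hge⟩ := exists_matHom_iff.1 ⟨u, hu, he⟩
  refine ⟨?_, _, ⟨g, hg, rfl⟩, ?_⟩
  · rw [etau, smul_smul, lt_smul, ← ecj, smul_mul_smul_comm, ← map_mul, ← map_mul, hsq]
    simp
  · rw [coordUnits_val, hge, map_add, map_add, map_one, map_one, map_smul, map_smul, ecj, etau, smul_smul, lt_smul]

theorem span_restVec (i : Fin t) (hk : 0 < k) : Submodule.span F (Set.range (restVec (F := F) (k := k) i)) = ⊤ := by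
  refine eq_top_iff.2 fun u _ => ?_
  have h := LinearMap.congr_fun (ext_rest i hk
    (f := (Submodule.span F (Set.range (restVec (F := F) (k := k) i))).mkQ) (g := 0) fun x => by
      rw [Submodule.mkQ_apply, LinearMap.zero_apply, Submodule.Quotient.mk_eq_zero]
      exact Submodule.subset_span ⟨x, rfl⟩) u
  rwa [Submodule.mkQ_apply, LinearMap.zero_apply, Submodule.Quotient.mk_eq_zero] at h

include h2 in
/-- Every transvection of the rest. -/
theorem mn_root (hR : D.Roots' X) (hP : D.Perms X) (hk : k = 2 ∨ k = 4) (ht : Even t) (ht4 : 4 ≤ t)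
    (hno : ¬(D.gram h2).NoRoot (X.map D.matHom)) (i : Fin t) (p : Fin (rk k t i) → F) (s : F) :
    MN (X.map (coordUnits D.Q (Ls F k i))) (lt (s • (D.pair i).tau p p)) := by
  set S := D.pair i
  set M := X.map (coordUnits D.Q (Ls F k i))
  refine Cfsg.Agent.H24.Tensor.closure_eq_univ h2 S.B₁ S.alt₁ S.nd₁
    {p | ∀ s : F, MN M (lt (s • S.tau p p))} (fun c p hp s => ?_) (fun p hp q hq hpq μ s => ?_)
    (Set.range (restVec i)) (by rintro _ ⟨x, rfl⟩ s; exact mn_pure_root h2 hR hP hk ht ht4 hno i x s)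
    (span_restVec i D.k_pos) ?_ ?_ p s
  · rw [S.tau_smul_left, S.tau_smul_right, smul_smul, smul_smul]
    exact hp _
  · set r := μ / S.B₁ q p
    have hqp : S.B₁ q p ≠ 0 := by rw [S.skew₁]; exact neg_ne_zero.2 hpq
    obtain ⟨hN2, u, hu, huN⟩ := hq r
    have h := (hp s).conj hu
    rw [coe_inv_of_eq hN2 huN, huN] at h
    convert h using 1
    rw [← lt_one, ← lt_add, show lt 1 - lt (r • S.tau q q) = (lt (1 - r • S.tau q q) : Module.End F (T F _ k)) by
      rw [sub_eq_iff_eq_add, ← lt_add, sub_add_cancel], ← lt_mul, ← lt_mul]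
    have hadj : S.IsAdj (1 - r • S.tau q q) (1 + r • S.tau q q) := by
      refine Pair.IsAdj.symm S ?_
      simpa [sub_eq_add_neg] using Pair.IsAdj.add S S.isAdj_one (Pair.IsAdj.smul S (S.isAdj_tau q q) r)
    rw [mul_smul_comm, smul_mul_assoc, S.mul_tau, S.tau_mul hadj]
    have e : (1 + r • S.tau q q) *ᵥ p = p + μ • q := by
      rw [Matrix.add_mulVec, Matrix.one_mulVec, Matrix.smul_mulVec, Pair.tau_mulVec, smul_smul, div_mul_cancel₀ _ hqp]
    rw [e]
  · refine ⟨restVec i fun _ => D.he, ⟨_, rfl⟩, fun e => one_ne_zero (α := F) ?_⟩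
    have := D.form_restVec i (fun _ => D.he) fun _ => D.hf
    rw [e, map_zero, LinearMap.zero_apply, Finset.prod_eq_one fun l _ => D.he_hf, mul_one] at this
    exact absurd this.symm D.c_ne_zero
  · rintro _ ⟨x, rfl⟩ hx _ ⟨y, rfl⟩ hy
    have hne : ∀ (z : Fin t → Fin k → F), restVec i z ≠ 0 → ∀ l, l ≠ i → z l ≠ 0 := fun z hz l hl e =>
      hz (funext fun r => Finset.prod_eq_zero (Finset.mem_univ (⟨l, hl⟩ : {l // l ≠ i})) (by rw [e]; rfl))
    have hz : ∀ l, ∃ z, l ≠ i → D.β (x l) z ≠ 0 ∧ D.β (y l) z ≠ 0 := fun l => by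
      by_cases hl : l = i
      · exact ⟨0, fun h => absurd hl h⟩
      obtain ⟨z, hz⟩ := (D.gram h2).exists_common (hne x hx l hl) (hne y hy l hl)
      exact ⟨z, fun _ => by simpa [gram_β] using hz⟩
    choose z hz using hz
    refine ⟨_, ⟨z, rfl⟩, ?_, ?_⟩ <;>
      rw [show (D.pair i).B₁ = D.form i from rfl, D.form_restVec] <;>
      refine mul_ne_zero D.c_ne_zero (Finset.prod_ne_zero_iff.2 fun l hl => ?_)
    exacts [(hz l (Finset.ne_of_mem_erase hl)).1, (hz l (Finset.ne_of_mem_erase hl)).2]

include h2 in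
/-- For at least four slots a further root gives all Siegel transformations. -/
theorem sieGroup_le_of_four (hR : D.Roots' X) (hP : D.Perms X) (hk : k = 2 ∨ k = 4) (ht : Even t) (ht4 : 4 ≤ t)
    (hno : ¬(D.gram h2).NoRoot (X.map D.matHom)) : sieGroup D.Q ≤ X := by
  classical
  let i : Fin t := ⟨0, by omega⟩
  let j : Fin t := ⟨1, by omega⟩
  let m : Fin t := ⟨2, by omega⟩
  have hij : i ≠ j := by simp [i, j, Fin.ext_iff]
  have hjm : j ≠ m := by simp [j, m, Fin.ext_iff]
  have him : i ≠ m := by simp [i, m, Fin.ext_iff]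
  set L := (flipT F k (rk k t i)).trans (Ls F k i)
  have hc : Coord (swapPair (D.pair i)) D.Q L := coord_swap (D.coord i)
  have hG : Gen (swapPair (D.pair i)) (X.map (coordUnits D.Q L)) := by
    refine ⟨fun s p => mn_flip (mn_root h2 hR hP hk ht ht4 hno i p s) fun x => ?_, fun s v => ?_, ?_⟩
    · rw [LinearEquiv.eq_symm_apply, te_apply, flipT_pure, Matrix.smul_mulVec, Matrix.one_mulVec]
      funext r a
      show p r * (s • ev ((swapPair (D.pair i)).B₂ p) x) a = _
      have h1 : lt (s • (D.pair i).tau p p) (flipT F k (rk k t i) x) r a =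
          ((s • (D.pair i).tau p p) *ᵥ fun r => x a r) r := by
        simp [lt, Matrix.mulVec, dotProduct, flipT, Finset.sum_apply]
      rw [h1, Matrix.smul_mulVec, Pair.tau_mulVec]
      simp [swapPair, mul_comm]
      show p r * (s * (D.pair i).B₁ p (x a)) = s * (p r * (D.pair i).B₁ p (x a))
      ring
    · have h := hR i s v
      have hN : MN (X.map (coordUnits D.Q (Ls F k i)))
          (te (s • (1 : Matrix (Fin (rk k t i)) (Fin (rk k t i)) F)) v ((D.pair i).B₂ v)) := by
        obtain ⟨h2', _, ⟨g, hg, rfl⟩, hv⟩ := h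
        rw [te_smul, ← D.cj_root, ← map_smul]
        exact ⟨by rw [← map_mul, h2', map_zero], _, ⟨g, hg, rfl⟩, by rw [coordUnits_val, hv, map_add, map_one]⟩
      refine mn_flip hN fun x => ?_
      rw [LinearEquiv.eq_symm_apply, te_apply, Matrix.smul_mulVec, Matrix.one_mulVec]
      funext r a
      show (lt (s • (swapPair (D.pair i)).tau v v) x) a r = _
      have h1 : lt (s • (swapPair (D.pair i)).tau v v) x a r =
          ((s • (swapPair (D.pair i)).tau v v) *ᵥ fun a => x a r) a := by
        simp [lt, Matrix.mulVec, dotProduct, Finset.sum_apply]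
      rw [h1, Matrix.smul_mulVec, Pair.tau_mulVec]
      simp [swapPair, flipT, mul_assoc]
    · rintro _ ⟨g, -, rfl⟩ x y
      exact hc.iso g x y
  set π := Equiv.swap i j * Equiv.swap j m with hπ
  obtain ⟨g, hgX, hge⟩ := hP π (by rw [hπ, map_mul, Equiv.Perm.sign_swap hij, Equiv.Perm.sign_swap hjm]; rfl)
  have hπi : π.symm j = i := by
    show Equiv.swap j m (Equiv.swap i j j) = i
    rw [Equiv.swap_apply_right, Equiv.swap_apply_of_ne_of_ne hij him]
  let x₀ : Fin t → Fin k → F := fun _ => D.he
  let v₀ := restVec i x₀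
  have hform : ∀ (u w : Fin k → F), (D.pair i).B₁ (restVec i (Function.update x₀ j u))
      (restVec i (Function.update (fun _ => D.hf) j w)) = D.c * D.β u w := fun u w => by
    rw [show (D.pair i).B₁ = D.form i from rfl, D.form_restVec,
      Finset.prod_eq_single j (fun l _ hl => by simp [Function.update_of_ne hl, x₀, D.he_hf])
        (fun h => absurd (Finset.mem_erase.2 ⟨hij.symm, Finset.mem_univ j⟩) h),
      Function.update_self, Function.update_self]
  have hv₀ : v₀ ≠ 0 := fun e => by
    have := hform D.he D.hf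
    rw [show Function.update x₀ j D.he = x₀ from Function.update_eq_self_iff.2 rfl,
      show restVec i x₀ = 0 from e, map_zero, LinearMap.zero_apply, D.he_hf, mul_one] at this
    exact D.c_ne_zero this.symm
  have hnp : NotPure ((coordUnits D.Q L g : Module.End F (T F k (rk k t i))) ∘ₗ TensorGL.pure v₀) := by
    intro s hs
    have himg : ∀ v, (coordUnits D.Q L g : Module.End F (T F k (rk k t i))) (TensorGL.pure v₀ v) =
        TensorGL.pure (restVec i (Function.update x₀ j v)) D.he := fun v => by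
      rw [coordUnits_apply, LinearEquiv.symm_apply_eq, LinearEquiv.trans_apply, LinearEquiv.trans_apply, flipT_pure,
        flipT_pure, Ls_pure, Ls_pure, hge, permL_pureT]
      congr 1
      funext l
      rcases eq_or_ne l j with rfl | hl
      · simp [hπi, hij.symm]
      · have : π.symm l ≠ i := fun e => hl (π.symm.injective (e.trans hπi.symm))
        rw [Function.update_of_ne this]
        rcases eq_or_ne l i with rfl | hli
        · simp [x₀]
        · simp [Function.update_of_ne hl, Function.update_of_ne hli, x₀]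
    obtain ⟨φ, hφ⟩ := exists_dual_pure (F := F) (v := D.he) (fun e => by
      have := D.he_hf; rw [e, map_zero, LinearMap.zero_apply] at this; exact zero_ne_one this)
    have hmul : ∀ v, ∃ r : F, restVec i (Function.update x₀ j v) = r • s := fun v => by
      obtain ⟨u, hu⟩ := hs ⟨v, rfl⟩
      rw [LinearMap.comp_apply, himg] at hu
      refine ⟨φ u, funext fun r => ?_⟩
      have h := congrArg φ (funext fun a => congrFun (congrFun hu a) r :
        (fun a => (TensorGL.pure (a := k) s u) a r) = fun a => (TensorGL.pure (a := k) _ D.he) a r)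
      simp only [TensorGL.pure_apply, Pi.smul_apply, smul_eq_mul] at h
      rw [show (fun a => u a * s r) = s r • u from funext fun a => mul_comm _ _,
        show (fun a => D.he a * restVec i (Function.update x₀ j v) r) =
          restVec i (Function.update x₀ j v) r • D.he from funext fun a => mul_comm _ _,
        map_smul, map_smul, hφ, smul_eq_mul, smul_eq_mul, mul_one] at h
      rw [← h, Pi.smul_apply, smul_eq_mul, mul_comm]
    obtain ⟨r₁, hr₁⟩ := hmul D.he
    obtain ⟨r₂, hr₂⟩ := hmul D.hf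
    have e1 := hform D.he D.hf
    have e2 := hform D.hf D.hf
    have e3 := hform D.hf D.he
    rw [hr₁, map_smul, LinearMap.smul_apply, D.he_hf, mul_one, smul_eq_mul] at e1
    rw [hr₂, map_smul, LinearMap.smul_apply, D.alt, mul_zero, smul_eq_mul] at e2
    rw [hr₂, map_smul, LinearMap.smul_apply, D.skew D.he D.hf, D.he_hf, smul_eq_mul] at e3
    rcases mul_eq_zero.1 e2 with h | h
    · rw [h, zero_mul] at e3; exact D.c_ne_zero (by linear_combination e3)
    · rw [h, mul_zero] at e1; exact D.c_ne_zero e1.symm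
  have hrk : 8 ≤ rk k t i ∧ k + 2 ≤ rk k t i := by
    have h8 : 2 ^ 3 ≤ k ^ (t - 1) := (Nat.pow_le_pow_left (by omega) 3).trans
      (Nat.pow_le_pow_right D.k_pos (by omega))
    exact ⟨h8, le_trans (by omega) h8⟩
  have hL : HasL (swapPair (D.pair i)) (X.map (coordUnits D.Q L)) :=
    hG.hasL (by omega) hrk.2 ⟨g, hgX, rfl⟩ hv₀ hnp
  refine hc.sieGroup_le D.hQ ?_ D.k_pos (by omega) (Or.inr ⟨-1, neg_ne_zero.2 one_ne_zero, fun e => h2 ?_⟩) hG hL
  · rw [Module.finrank_fintype_fun_eq_card, Fintype.card_fun, Fintype.card_fin, Fintype.card_fin]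
    exact le_trans (le_trans (by norm_num) hrk.1) (Nat.pow_le_pow_right D.k_pos (show t - 1 ≤ t by omega))
  · linear_combination (-1 : F) * e

end Base

end Cfsg.Agent.H72.SympWreath
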