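import Cfsg.Agent.H72.SympWreath.OddBridge
import Cfsg.Agent.H72.SympWreath.OddClimb
import Cfsg.Agent.H72.SympWreath.Tau

/-!
Two slots of dimension four away from characteristic two.
-/

set_option autoImplicit false

namespace Cfsg.Agent.H72.SympWreath

open QuadraticMap Module Matrix Cfsg.Agent.Orthogonal Cfsg.Agent.H98 Cfsg.Agent.H98.ExtField Cfsg.Agent.H98.TensorGL
  Cfsg.Agent.H98.TensorSp Cfsg.Agent.H96.TensorPower
open Cfsg.Agent.H24.Wreath (Gram sl Mat)
open Cfsg.Agent.Aschbacher (pureMat)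

variable {F : Type*} [Field F]

/-- Invariant spaces of self-adjoint maps of a four-space. -/
theorem mem_of_invariant {k a : ℕ} (hk : k = 4) (𝕘 : Gram F k) (S : Pair F a k) (hS : ∀ x y, S.B₂ x y = 𝕘.β x y)
    (W : Submodule F (Matrix (Fin k) (Fin k) F))
    (hinv : ∀ A ∈ W, ∀ w, (1 + 𝕘.root w) * A * (1 - 𝕘.root w) ∈ W) (hone : (1 : Matrix (Fin k) (Fin k) F) ∈ W)
    {x₀ y₀ : Fin k → F} (hxy : x₀ ∉ Submodule.span F {y₀}) (h0 : y₀ ≠ 0) (hmem : 𝕘.sb x₀ y₀ ∈ W) (x y : Fin k → F) :
    𝕘.sb x y ∈ W := by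
  have hneg : ∀ x y, 𝕘.sb y x = -𝕘.sb x y := fun x y => (neg_sub _ _).symm
  have hline : ∀ (r : F) (x y : Fin k → F), 𝕘.sb (r • x) y = r • 𝕘.sb x y := fun r x y => by
    simp only [Gram.sb, Gram.tau_smul_left, Gram.tau_smul_right, smul_sub]
  have hadd : ∀ x x' y : Fin k → F, 𝕘.sb (x + x') y = 𝕘.sb x y + 𝕘.sb x' y := fun x x' y => by
    simp only [Gram.sb, Gram.tau_add_left, Gram.tau_add_right]; abel
  have hself : ∀ x : Fin k → F, 𝕘.sb x x = 0 := fun x => sub_self _
  have step : ∀ x y : Fin k → F, x ∉ Submodule.span F {y} → 𝕘.sb x y ∈ W →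
      ∀ w, 𝕘.β w y = 0 → 𝕘.sb w y ∈ W := by
    intro x y hx hmem
    have key : ∀ w, 𝕘.β w y = 0 → 𝕘.β w x ≠ 0 → 𝕘.sb w y ∈ W := fun w hwy hwx => by
      have h := W.sub_mem (hinv _ hmem w) hmem
      rw [Gram.conj_sb, show 𝕘.st w y = y by rw [Gram.st, hwy, zero_smul, add_zero],
        show 𝕘.st w x = x + 𝕘.β w x • w from rfl, hadd, hline, add_sub_cancel_left] at h
      have := W.smul_mem (𝕘.β w x)⁻¹ h
      rwa [inv_smul_smul₀ hwx] at this
    obtain ⟨w₀, hw₀, hz⟩ := exists_partner S (U := Submodule.span F {y}) (w := x) hx 1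
    have h0y : 𝕘.β w₀ y = 0 := by
      rw [𝕘.β_skew, ← hS, hz y (Submodule.mem_span_singleton_self y), neg_zero]
    have h0x : 𝕘.β w₀ x ≠ 0 := by rw [𝕘.β_skew, ← hS, hw₀]; exact neg_ne_zero.2 one_ne_zero
    intro w hwy
    by_cases hwx : 𝕘.β w x = 0
    · rw [show w = (w + w₀) + (-1 : F) • w₀ by module, hadd, hline]
      exact W.add_mem (key _ (by rw [Gram.β_add_left, hwy, h0y, add_zero])
        (by rw [Gram.β_add_left, hwx, zero_add]; exact h0x)) (W.smul_mem _ (key w₀ h0y h0x))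
    · exact key w hwy hwx
  have hiso : ∀ x y, 𝕘.β x y = 0 → 𝕘.sb x y ∈ W := by
    intro x y hxy'
    rcases eq_or_ne y 0 with rfl | hy
    · rw [show 𝕘.sb x 0 = 0 by simp [Gram.sb, Gram.tau_zero_left, Gram.tau_zero_right]]; exact W.zero_mem
    have h1 : ∀ v : Fin k → F, v ≠ 0 → finrank F (Submodule.span F ({v} : Set (Fin k → F))) + 2 < k := fun v hv => by
      rw [finrank_span_singleton hv]; omega
    obtain ⟨z, hz₁, hz₂, hz₃, hz₄⟩ := exists_avoid₂ S y₀ y _ _ (h1 y₀ h0) (h1 y hy)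
    have hzy₀ : 𝕘.β z y₀ = 0 := by rw [𝕘.β_skew, ← hS, hz₁, neg_zero]
    have e1 : 𝕘.sb y₀ z ∈ W := by rw [hneg]; exact W.neg_mem (step _ _ hxy hmem z hzy₀)
    have hz0 : z ≠ 0 := fun e => hz₃ (e ▸ Submodule.zero_mem _)
    have e2 : 𝕘.sb y z ∈ W := step _ _ (not_mem_span_symm h0 hz₃) e1 y (by rw [← hS, hz₂])
    have e3 : 𝕘.sb z y ∈ W := by rw [hneg]; exact W.neg_mem e2
    exact step _ _ hz₄ e3 x hxy'
  by_cases hr : 𝕘.β x y = 0
  · exact hiso x y hr
  set y₁ := (𝕘.β x y)⁻¹ • y with hy₁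
  have hxy₁ : 𝕘.β x y₁ = 1 := by rw [hy₁, Gram.β_smul_right, inv_mul_cancel₀ hr]
  have hyx₁ : 𝕘.β y₁ x = -1 := by rw [𝕘.β_skew, hxy₁]
  obtain ⟨e, he₁, he₂, he0, -⟩ := exists_avoid₂ S x y₁ ⊥ ⊥ (by rw [finrank_bot]; omega) (by rw [finrank_bot]; omega)
  rw [hS] at he₁ he₂
  have hne : e ∉ Submodule.span F {x, y₁} := fun h => by
    obtain ⟨p, r, rfl⟩ := Submodule.mem_span_pair.1 h
    rw [Gram.β_add_right, Gram.β_smul_right, Gram.β_smul_right, 𝕘.β_self, hxy₁, mul_zero, zero_add, mul_one] at he₁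
    rw [Gram.β_add_right, Gram.β_smul_right, Gram.β_smul_right, 𝕘.β_self, hyx₁, mul_zero, add_zero,
      mul_neg, mul_one, neg_eq_zero] at he₂
    exact he0 (by rw [he₁, he₂, zero_smul, zero_smul, add_zero]; exact Submodule.zero_mem _)
  obtain ⟨f, hf, hfz⟩ := exists_partner S hne 1
  rw [hS] at hf
  have hxf : 𝕘.β x f = 0 := by rw [← hS]; exact hfz x (Submodule.subset_span (by simp))
  have hyf : 𝕘.β y₁ f = 0 := by rw [← hS]; exact hfz y₁ (Submodule.subset_span (by simp))
  have hex : 𝕘.β e x = 0 := by rw [𝕘.β_skew, he₁, neg_zero]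
  have hey : 𝕘.β e y₁ = 0 := by rw [𝕘.β_skew, he₂, neg_zero]
  have hfx : 𝕘.β f x = 0 := by rw [𝕘.β_skew, hxf, neg_zero]
  have hfy : 𝕘.β f y₁ = 0 := by rw [𝕘.β_skew, hyf, neg_zero]
  have hfe : 𝕘.β f e = -1 := by rw [𝕘.β_skew, hf]
  have hsum : 𝕘.sb x y₁ + 𝕘.sb e f = -1 := by
    refine Matrix.ext_iff_mulVec.2 fun z => ?_
    rw [neg_mulVec, one_mulVec, ← add_eq_zero_iff_eq_neg]
    have hspan : ∀ u, 𝕘.β x u = 0 → 𝕘.β y₁ u = 0 → 𝕘.β e u = 0 → 𝕘.β f u = 0 → u = 0 := by
      intro u h1 h2 h3 h4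
      refine 𝕘.nd fun v => ?_
      have hli : LinearIndependent F ![x, y₁, e, f] := by
        rw [Fintype.linearIndependent_iff]
        intro g hg
        rw [Fin.sum_univ_four] at hg
        simp only [Matrix.cons_val] at hg
        have key : ∀ z, g 0 * 𝕘.β x z + g 1 * 𝕘.β y₁ z + g 2 * 𝕘.β e z + g 3 * 𝕘.β f z = 0 := fun z => by
          have := congrArg (fun y => 𝕘.β y z) hg
          simpa [Gram.β_add_left, Gram.β_smul_left, Gram.β_zero_left] using this
        have e0 := key y₁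
        have e1 := key x
        have e2 := key f
        have e3 := key e
        simp [hxy₁, hyx₁, hxf, hyf, hex, hey, hfx, hfy, hfe, hf, he₁, he₂, 𝕘.β_self] at e0 e1 e2 e3
        intro i
        fin_cases i <;> assumption
      subst hk
      have hv : v ∈ Submodule.span F (Set.range ![x, y₁, e, f]) := by
        rw [hli.span_eq_top_of_card_eq_finrank (by simp)]; trivial
      refine Submodule.span_induction (p := fun v _ => 𝕘.β v u = 0) ?_ ?_ ?_ ?_ hv
      · rintro _ ⟨i, rfl⟩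
        fin_cases i <;> assumption
      · exact 𝕘.β_zero_left u
      · intro p q _ _ hp hq
        rw [Gram.β_add_left, hp, hq, add_zero]
      · intro r p _ hp
        rw [Gram.β_smul_left, hp, mul_zero]
    refine hspan _ ?_ ?_ ?_ ?_ <;>
      simp [Gram.sb_mulVec, add_mulVec, Gram.β_sub_right, Gram.β_add_right, Gram.β_smul_right, hxy₁, hyx₁, hxf,
        hyf, hex, hey, hfx, hfy, hfe, hf, he₁, he₂, 𝕘.β_self]
  have hp : 𝕘.sb x y₁ ∈ W := by
    have h1 := hiso (x + e) (y₁ + (-1 : F) • f) (by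
      simp only [Gram.β_add_left, Gram.β_add_right, Gram.β_smul_right, hxy₁, hxf, hey, hf]; ring)
    have h2 := hiso (x + (-1 : F) • e) (y₁ + f) (by
      simp only [Gram.β_add_left, Gram.β_add_right, Gram.β_smul_left, hxy₁, hxf, hey, hf]; ring)
    have h4 := W.sub_mem (W.smul_mem (4⁻¹ : F) (W.add_mem h1 h2)) (W.smul_mem (2⁻¹ : F) hone)
    convert h4 using 1
    have h22 := 𝕘.two
    have h44 : (4 : F) ≠ 0 := by
      rw [show (4 : F) = 2 * 2 by norm_num]; exact mul_ne_zero h22 h22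
    have e1 : 𝕘.sb (x + e) (y₁ + (-1 : F) • f) + 𝕘.sb (x + (-1 : F) • e) (y₁ + f) =
        (2 : F) • (𝕘.sb x y₁ - 𝕘.sb e f) := by
      simp only [Gram.sb, Gram.tau_add_left, Gram.tau_add_right, Gram.tau_smul_left, Gram.tau_smul_right]
      module
    rw [e1, show (1 : Matrix (Fin k) (Fin k) F) = -(𝕘.sb x y₁ + 𝕘.sb e f) by rw [hsum, neg_neg]]
    match_scalars <;> field_simp <;> ring
  rw [show y = 𝕘.β x y • y₁ by rw [hy₁, smul_inv_smul₀ hr]]
  have e : 𝕘.sb x (𝕘.β x y • y₁) = 𝕘.β x y • 𝕘.sb x y₁ := by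
    simp only [Gram.sb, Gram.tau_smul_left, Gram.tau_smul_right, smul_sub]
  rw [e]
  exact W.smul_mem _ hp

namespace Base

variable {k t : ℕ} {D : Base F k t} {X : Subgroup (O D.Q)} {h2 : (2 : F) ≠ 0}

/-- The maps joining every root of one slot to the other slot. -/
def Wsp (_hR : D.Roots' X) (h2 : (2 : F) ≠ 0) {i l : Fin t} (hil : i ≠ l) : Submodule F (Matrix (Fin k) (Fin k) F) where
  carrier := {A | ∀ a, Cfsg.Agent.H24.Wreath.Q (F := F) (X.map D.matHom)
    (pureMat (Function.update (Function.update (fun _ => 1) i ((D.gram h2).root a)) l A) : Mat F k t)}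
  add_mem' hA hB a := Q_piece_add hil (by simp [Gram.root_mul_root_self]) (hA a) (hB a)
  zero_mem' a := by
    rw [pureMat_eq_zero_of (l := l) (Function.update_self _ _ _)]
    exact Cfsg.Agent.H24.Wreath.Q.zero
  smul_mem' r A hA a := by
    rw [pureMat_update_smul]
    exact (hA a).smul r

theorem sl_mul_sl {i l : Fin t} (hil : i ≠ l) (A B : Matrix (Fin k) (Fin k) F) :
    (pureMat (Function.update (Function.update (fun _ => 1) i A) l B) : Mat F k t) = sl i A * sl l B := by
  rw [sl, sl, Aschbacher.slotMat, Aschbacher.slotMat, Aschbacher.pureMat_mul]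
  congr 1
  funext j
  rcases eq_or_ne j l with rfl | hjl
  · simp [hil.symm]
  rcases eq_or_ne j i with rfl | hji
  · simp [hjl]
  · simp [hjl, hji]

/-- Every pair of slots, both ways round. -/
theorem wsp_all (hR : D.Roots' X) (hk : k = 4) {i l : Fin t} (hil : i ≠ l) {x₀ y₀ : Fin k → F} (h0 : y₀ ≠ 0)
    (hxy : x₀ ∉ Submodule.span F {y₀}) {a : Fin k → F} (ha : a ≠ 0)
    (h : Cfsg.Agent.H24.Wreath.Q (F := F) (X.map D.matHom)
      (pureMat (Function.update (Function.update (fun _ => 1) i ((D.gram h2).root a)) l ((D.gram h2).sb x₀ y₀)) :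
        Mat F k t)) (x y : Fin k → F) : (D.gram h2).sb x y ∈ Wsp hR h2 hil := by
  have : NeZero k := ⟨D.k_pos.ne'⟩
  refine mem_of_invariant hk (D.gram h2) (D.pair i) (fun u v => (D.gram_β h2 u v).symm) _ (fun A hA w => ?_)
    ?_ hxy h0 ?_ x y
  · intro a
    have := Q_piece_conj (gOver h2 hR) (l := l) (hA a) w
    rwa [Function.update_self, Function.update_idem] at this
  · intro a
    rw [sl_mul_sl hil, Cfsg.Agent.H24.Wreath.sl_one, mul_one]
    exact (gOver h2 hR).hroot i a
  · intro a'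
    have := Q_piece_root (gOver h2 hR) (m := i) ha (by simp [hil]) h a'
    rwa [Function.update_comm hil.symm, Function.update_idem] at this

include h2 in
/-- For two slots of dimension four a further root gives all Siegel transformations. -/
theorem sieGroup_le_of_two (hR : D.Roots' X) (hk : k = 4) (ht : t = 2)
    (hno : ¬(D.gram h2).NoRoot (X.map D.matHom)) : sieGroup D.Q ≤ X := by
  classical
  have : NeZero k := ⟨D.k_pos.ne'⟩
  have hH := gOver h2 hR
  obtain ⟨T, S, a, b, c, hs, hbig⟩ := exists_state hH hno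
  have hle : T.card + S.card ≤ 2 := by
    rw [← Finset.card_union_of_disjoint hs.disj, ← ht]
    exact (Finset.card_le_univ _).trans (Fintype.card_fin t).le
  obtain ⟨x, hx⟩ := hs.odd_card hH
  obtain ⟨i, rfl⟩ := Finset.card_eq_one.1 (show T.card = 1 by omega)
  obtain ⟨l, rfl⟩ := Finset.card_eq_one.1 (show S.card = 1 by rw [Finset.card_singleton] at hbig hle; omega)
  have hil : i ≠ l := fun e => Finset.disjoint_left.1 hs.disj (Finset.mem_singleton_self i)
    (e ▸ Finset.mem_singleton_self l)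
  have hall : ∀ j, j = i ∨ j = l := fun j => by
    by_contra h
    push Not at h
    have h3 : ({i, l, j} : Finset (Fin t)).card = 3 := Finset.card_eq_three.2 ⟨i, l, j, hil, h.1.symm, h.2.symm, rfl⟩
    have := Finset.card_le_univ ({i, l, j} : Finset (Fin t))
    rw [Fintype.card_fin] at this
    omega
  have hai := hs.ha i (Finset.mem_singleton_self i)
  have hbc := hs.hbc l (Finset.mem_singleton_self l)
  have hne := hs.hne l (Finset.mem_singleton_self l)
  obtain ⟨hb, v, hvb, hvc⟩ := Gram.sb_parts hne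
  have hstate : Cfsg.Agent.H24.Wreath.Q (F := F) (X.map D.matHom)
      (pureMat (Function.update (Function.update (fun _ => 1) i ((D.gram h2).root (a i))) l ((D.gram h2).sb (b l) (c l))) : Mat F k t) := by
    convert hs.mem using 2
    funext j
    rcases hall j with rfl | rfl
    · simp [Gram.pc, hil]
    · simp [Gram.pc, hil.symm]
  have hbspan : b l ∉ Submodule.span F {c l} := fun h => by
    obtain ⟨r, hr⟩ := Submodule.mem_span_singleton.1 h
    exact hne (by rw [← hr]; simp [Gram.sb, Gram.tau_smul_left, Gram.tau_smul_right])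
  have hc0 : c l ≠ 0 := fun h => hne (by simp [h, Gram.sb, Gram.tau_zero_left, Gram.tau_zero_right])
  have hfor := wsp_all (h2 := h2) hR hk hil hc0 hbspan hai hstate
  -- the other way round
  obtain ⟨z, hz⟩ := (D.gram h2).exists_one hai
  have hzi : (D.gram h2).β z (a i) = -1 := by rw [(D.gram h2).β_skew, hz]
  set μ := (D.gram h2).β v (c l) * (D.gram h2).β v (c l)
  have hback : ∀ x y, (D.gram h2).sb x y ∈ Wsp hR h2 hil.symm := by
    have hμ : μ ≠ 0 := mul_ne_zero hvc hvc
    obtain ⟨m1, m2, m3, m4⟩ := Gram.mu_sb (𝕘 := D.gram h2) hbc hvb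
    have h1 := hfor (b l) ((D.gram h2).st v (c l)) z
    have hD := Cfsg.Agent.H24.Wreath.Q.bracket hstate h1
      (by
        rw [Aschbacher.pureMat_mul, Aschbacher.pureMat_mul]
        refine pureMat_eq_zero_of (l := l) ?_
        simp [m1, m3])
      (by
        rw [Aschbacher.pureMat_mul, Aschbacher.pureMat_mul]
        refine pureMat_eq_zero_of (l := l) ?_
        simp [m2, m4])
    rw [sl_mul_sl hil, sl_mul_sl hil] at hD
    have hcomm : ∀ A B A' B' : Matrix (Fin k) (Fin k) F,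
        (sl i A * sl l B * (sl i A' * sl l B') : Mat F k t) = sl i (A * A') * sl l (B * B') := fun A B A' B' => by
      rw [← Cfsg.Agent.H24.Wreath.sl_mul, ← Cfsg.Agent.H24.Wreath.sl_mul, mul_assoc, ← mul_assoc (sl l B),
        Cfsg.Agent.H24.Wreath.sl_comm hil.symm B A']
      simp only [mul_assoc]
    rw [hcomm, hcomm, m1, m2] at hD
    have e1 : (D.gram h2).root z * (D.gram h2).root (a i) = -(D.gram h2).tau z (a i) := by
      rw [Gram.tau_mul_tau, hzi, neg_one_smul]
    have e2 : (D.gram h2).root (a i) * (D.gram h2).root z = (D.gram h2).tau (a i) z := by rw [Gram.tau_mul_tau, hz, one_smul]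
    rw [e1, e2, Cfsg.Agent.H24.Wreath.sl_neg, Cfsg.Agent.H24.Wreath.sl_smul, Cfsg.Agent.H24.Wreath.sl_smul] at hD
    have hD' : Cfsg.Agent.H24.Wreath.Q (F := F) (X.map D.matHom) (μ • (sl i ((D.gram h2).sb z (a i)) * sl l ((D.gram h2).root (b l))) : Mat F k t) := by
      convert hD using 1
      simp only [Gram.sb, Cfsg.Agent.H24.Wreath.sl_sub, sub_mul, smul_sub, neg_mul, neg_smul, μ, mul_neg, smul_neg,
        mul_smul_comm, neg_neg]
    have hD'' := hD'.smul μ⁻¹
    rw [inv_smul_smul₀ hμ, Cfsg.Agent.H24.Wreath.sl_comm hil, ← sl_mul_sl hil.symm] at hD''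
    refine wsp_all (h2 := h2) hR hk hil.symm hai (fun h => ?_) hb hD''
    obtain ⟨r, hr⟩ := Submodule.mem_span_singleton.1 h
    rw [← hr, Gram.β_smul_right, (D.gram h2).β_self, mul_zero] at hz
    exact zero_ne_one hz
  -- every Siegel map of two slots
  have hroot : ∀ (x c d : Fin k → F), Cfsg.Agent.H24.Wreath.Q (F := F) (X.map D.matHom)
      (sl i ((D.gram h2).root x) * sl l ((D.gram h2).sb c d) : Mat F k t) := fun x c d => by
    rw [← sl_mul_sl hil]; exact hfor c d x
  have hroot' : ∀ (v w x : Fin k → F), Cfsg.Agent.H24.Wreath.Q (F := F) (X.map D.matHom)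
      (sl i ((D.gram h2).sb v w) * sl l ((D.gram h2).root x) : Mat F k t) := fun v w x => by
    rw [Cfsg.Agent.H24.Wreath.sl_comm hil, ← sl_mul_sl hil.symm]; exact hback v w x
  have hsie : ∀ v w c d : Fin k → F, (D.gram h2).β v w = 0 → Cfsg.Agent.H24.Wreath.Q (F := F) (X.map D.matHom)
      (sl i ((D.gram h2).tau v w) * sl l ((D.gram h2).tau c d) - sl i ((D.gram h2).tau w v) * sl l ((D.gram h2).tau d c) : Mat F k t) := by
    intro v w c d hvw
    have hwv : (D.gram h2).β w v = 0 := by rw [(D.gram h2).β_skew, hvw, neg_zero]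
    have hprod : ∀ A B A' B' : Matrix (Fin k) (Fin k) F,
        A * A' = 0 → (sl i A * sl l B * (sl i A' * sl l B') : Mat F k t) = 0 := fun A B A' B' h => by
      rw [mul_assoc, ← mul_assoc (sl l B), Cfsg.Agent.H24.Wreath.sl_comm hil.symm B A', mul_assoc, ← mul_assoc,
        Cfsg.Agent.H24.Wreath.sl_mul, h, Cfsg.Agent.H24.Wreath.sl_zero, zero_mul]
    have hA : Cfsg.Agent.H24.Wreath.Q (F := F) (X.map D.matHom) (sl i ((D.gram h2).tau v w + (D.gram h2).tau w v) * sl l ((D.gram h2).sb c d) : Mat F k t) := by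
      have h3 : ((D.gram h2).tau v w + (D.gram h2).tau w v) = (D.gram h2).root (v + w) + (-(D.gram h2).root v + -(D.gram h2).root w) := by
        simp only [Gram.root, Gram.tau_add_left, Gram.tau_add_right]; abel
      rw [h3, Cfsg.Agent.H24.Wreath.sl_add, Cfsg.Agent.H24.Wreath.sl_add, Cfsg.Agent.H24.Wreath.sl_neg,
        Cfsg.Agent.H24.Wreath.sl_neg, add_mul, add_mul, neg_mul, neg_mul]
      refine (hroot _ c d).add ((hroot v c d).neg.add (hroot w c d).neg ?_ ?_) ?_ ?_
      · rw [neg_mul_neg]; exact hprod _ _ _ _ (by simp [Gram.tau_mul_tau, hvw])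
      · rw [neg_mul_neg]; exact hprod _ _ _ _ (by simp [Gram.tau_mul_tau, hwv])
      · rw [mul_add, mul_neg, mul_neg, hprod _ _ _ _ (by simp [Gram.tau_mul_tau, Gram.β_add_left, hwv, (D.gram h2).β_self]),
          hprod _ _ _ _ (by simp [Gram.tau_mul_tau, Gram.β_add_left, hvw, (D.gram h2).β_self]), neg_zero, add_zero]
      · rw [add_mul, neg_mul, neg_mul, hprod _ _ _ _ (by simp [Gram.tau_mul_tau, Gram.β_add_right, hvw, (D.gram h2).β_self]),
          hprod _ _ _ _ (by simp [Gram.tau_mul_tau, Gram.β_add_right, hwv, (D.gram h2).β_self]), neg_zero, add_zero]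
    have hsb : (D.gram h2).sb v w * (D.gram h2).sb v w = 0 := (D.gram h2).sb_mul_self hvw
    have hB : Cfsg.Agent.H24.Wreath.Q (F := F) (X.map D.matHom) (sl i ((D.gram h2).sb v w) * sl l ((D.gram h2).tau c d + (D.gram h2).tau d c) : Mat F k t) := by
      have h3 : ((D.gram h2).tau c d + (D.gram h2).tau d c) = (D.gram h2).root (c + d) + (-(D.gram h2).root c + -(D.gram h2).root d) := by
        simp only [Gram.root, Gram.tau_add_left, Gram.tau_add_right]; abel
      rw [h3, Cfsg.Agent.H24.Wreath.sl_add, Cfsg.Agent.H24.Wreath.sl_add, Cfsg.Agent.H24.Wreath.sl_neg,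
        Cfsg.Agent.H24.Wreath.sl_neg, mul_add, mul_add, mul_neg, mul_neg]
      refine (hroot' v w _).add ((hroot' v w c).neg.add (hroot' v w d).neg ?_ ?_) ?_ ?_ <;>
        simp [mul_add, add_mul, hprod _ _ _ _ hsb]
    have hsum := (hA.add hB (hprod _ _ _ _ (by simp [Gram.sb, Gram.tau_mul_tau, mul_sub, add_mul, hvw, hwv, (D.gram h2).β_self]))
      (hprod _ _ _ _ (by simp [Gram.sb, Gram.tau_mul_tau, sub_mul, mul_add, hvw, hwv, (D.gram h2).β_self]))).smul (2⁻¹ : F)
    convert hsum using 1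
    simp only [Gram.sb, Cfsg.Agent.H24.Wreath.sl_add, Cfsg.Agent.H24.Wreath.sl_sub, mul_sub, sub_mul, mul_add,
      add_mul]
    have h22 : (2 : F) ≠ 0 := h2
    match_scalars <;> field_simp <;> ring
  -- all rank one members of the algebra of slot `i`
  have hrest : ∀ p q : Fin t → Fin k → F, InL (D.pair i) (X.map (coordUnits D.Q (Ls F k i)))
      ((D.pair i).tau (restVec i p) (restVec i q)) := by
    intro p q K' hK' v w _ _ hvw
    obtain rfl := Pair.IsAdj.unique (D.pair i) ((D.pair i).isAdj_tau (restVec i p) (restVec i q)) hK'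
    have hvw' : (D.gram h2).β v w = 0 := (D.gram_β h2 v w).trans hvw
    obtain ⟨hsq, hall'⟩ := (hsie v w (p l) (q l) hvw').smul D.c
    obtain ⟨u, hu, he⟩ := hall' 1
    obtain ⟨g, hg, hge⟩ := exists_matHom_iff.1 ⟨u, hu, he⟩
    rw [one_smul, map_add, map_one] at hge
    set Z : Mat F k t := D.c • (sl i ((D.gram h2).tau v w) * sl l ((D.gram h2).tau (p l) (q l)) -
      sl i ((D.gram h2).tau w v) * sl l ((D.gram h2).tau (q l) (p l)))
    have ecj : cj F k i (Matrix.toLinAlgEquiv' Z) = (D.pair i).sk ((D.pair i).tau (restVec i p) (restVec i q))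
        (-(D.pair i).tau (restVec i q) (restVec i p)) v w := by
      have e : ∀ r s : Fin t → Fin k → F, (D.pair i).tau (restVec i r) (restVec i s) =
          D.c • rs i l (D.tauL (r l) (s l)) := fun r s => by
        rw [D.tau_restVec, rs_eq_rsF]
        refine congrArg _ (rsF_congr i fun j hj => ?_)
        rw [(hall j).resolve_left hj, Function.update_self]
      have e3 : ∀ (v w : Fin k → F) (K : Matrix (Fin (rk k t i)) (Fin (rk k t i)) F),
          cj F k i (slot i (D.tauL v w)) * lt K = te K v ((D.pair i).B₂ w) := fun v w K => by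
        rw [show cj F k i (slot i (D.tauL v w)) =
          te (1 : Matrix (Fin (rk k t i)) (Fin (rk k t i)) F) v ((D.pair i).B₂ w) from
          ext_T i D.k_pos fun u x => by
            rw [cj_slot_self i D.k_pos, te_apply, ev_pure, Matrix.one_mulVec]
            exact funext fun r => by simp [pair, tauL, smul_smul, mul_comm], te_mul_lt, Matrix.one_mul]
      simp only [Z, gram_tau, map_smul, map_sub, map_mul, toLin_sl, cj_slot_ne hil.symm D.k_pos, e3, Pair.sk, e]
      rw [te_smul, show ∀ K : Matrix (Fin (rk k t i)) (Fin (rk k t i)) F,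
        (te (-(D.c • K)) w ((D.pair i).B₂ v) : Module.End F (T F (rk k t i) k)) = -(D.c • te K w ((D.pair i).B₂ v))
        from fun K => LinearMap.ext fun m => by simp [te_apply, Matrix.neg_mulVec, Matrix.smul_mulVec],
        smul_sub, sub_eq_add_neg]
    refine ⟨by rw [← ecj, ← map_mul, ← map_mul, hsq, map_zero, map_zero], _, ⟨g, hg, rfl⟩, ?_⟩
    rw [coordUnits_val, hge, map_add, map_one, ecj]
  refine sieGroup_le_of_tau (D.coord i) D.hQ ?_ (D.rk_pos i) (le_of_eq hk.symm) fun c d => ?_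
  · rw [Module.finrank_fintype_fun_eq_card, Fintype.card_fun, Fintype.card_fin, Fintype.card_fin, hk, ht]
    norm_num
  -- every vector of the one other slot is pure
  have hpure : ∀ u : Fin (rk k t i) → F, ∃ p, restVec i p = u := fun u => by
    have huniq : ∀ j : {j : Fin t // j ≠ i}, j = ⟨l, hil.symm⟩ := fun j => Subtype.ext ((hall j).resolve_left j.2)
    refine ⟨fun _ q => u (restEquiv k i fun _ => q), funext fun r => ?_⟩
    rw [restVec, Finset.prod_eq_single (⟨l, hil.symm⟩ : {j : Fin t // j ≠ i}) (fun j _ hj => absurd (huniq j) hj)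
      (fun h => absurd (Finset.mem_univ _) h)]
    show u (restEquiv k i _) = u r
    congr 1
    refine (Equiv.eq_symm_apply _).1 (funext fun j => ?_)
    rw [huniq j]
  obtain ⟨p, rfl⟩ := hpure c
  obtain ⟨q, rfl⟩ := hpure d
  exact hrest p q

end Base

end Cfsg.Agent.H72.SympWreath
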