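import Cfsg.Agent.H72.SympWreath.Finish
import Cfsg.Agent.H72.SympWreath.OddGen
import Cfsg.Agent.H72.SympWreath.OddTwo

/-!
A group containing the decomposition stabiliser of the derived group, and more, contains every Siegel
transformation.
-/

set_option autoImplicit false

namespace Cfsg.Agent.H72.SympWreath

open QuadraticMap Module Matrix Cfsg.Agent.Orthogonal Cfsg.Agent.H98 Cfsg.Agent.H98.ExtField Cfsg.Agent.H98.TensorGL
  Cfsg.Agent.H98.TensorSp Cfsg.Agent.H96.TensorPower

namespace Base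

variable {F : Type*} [Field F] {k t : ℕ} (D : Base F k t)

/-- The wreath maps. -/
def Wreath (g : O D.Q) : Prop :=
  ∃ (gs : Fin t → GL (Fin k) F) (π : Equiv.Perm (Fin t)),
    ∀ x, (g : Sp F k t ≃ₗ[F] Sp F k t) (pureT x) = pureT fun l => (gs l : Matrix (Fin k) (Fin k) F) *ᵥ x (π l)

theorem Q_permL (π : Equiv.Perm (Fin t)) (x : Sp F k t) : D.Q (permL F k π x) = D.Q x := by
  classical
  let R : QuadraticForm F (Sp F k t) := D.Q.comp (permL F k π).toLinearMap - D.Q
  have hR : ∀ y, R y = D.Q (permL F k π y) - D.Q y := fun y => by simp [R]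
  have hpol : ∀ y z, polar D.Q (permL F k π y) (permL F k π z) = polar D.Q y z := by
    have h : (D.Q.polarBilin.compl₁₂ (permL F k π).toLinearMap (permL F k π).toLinearMap) = D.Q.polarBilin :=
      ext_pure fun u => ext_pure fun v => by
        show polar D.Q (permL F k π (pureT u)) (permL F k π (pureT v)) = polar D.Q (pureT u) (pureT v)
        rw [permL_pureT, permL_pureT, D.polar_pure, D.polar_pure, Equiv.prod_comp π.symm fun l => D.β (u l) (v l)]
    exact fun y z => LinearMap.congr_fun (LinearMap.congr_fun h y) z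
  have hadd : ∀ y z, R (y + z) = R y + R z := fun y z => by
    rw [hR, hR, hR, map_add, map_add_polar D.Q, map_add_polar D.Q, hpol]
    ring
  have h0 : ∀ s : Finset (Fin t → Fin k), R (∑ a ∈ s, x a • Pi.single a (1 : F)) = 0 := by
    intro s
    induction s using Finset.induction_on with
    | empty => simp
    | @insert a s ha ih =>
      rw [Finset.sum_insert ha, hadd, ih, add_zero, QuadraticMap.map_smul, hR, ← pureT_single a, permL_pureT,
        D.pure_sing, D.pure_sing, sub_zero, smul_zero]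
  have h1 := h0 Finset.univ
  rwa [← pi_eq_sum_univ' x, hR, sub_eq_zero] at h1

/-- A slot permutation as an isometry. -/
noncomputable def permO : Equiv.Perm (Fin t) →* O D.Q where
  toFun π := ⟨permL F k π, D.Q_permL π⟩
  map_one' := O.ext_app fun _ => rfl
  map_mul' _ _ := O.ext_app fun _ => rfl

theorem permO_apply (π : Equiv.Perm (Fin t)) (x : Sp F k t) :
    (D.permO π : Sp F k t ≃ₗ[F] Sp F k t) x = permL F k π x := rfl

theorem wreath_permO (π : Equiv.Perm (Fin t)) : D.Wreath (D.permO π) :=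
  ⟨fun _ => 1, π.symm, fun x => by rw [permO_apply, permL_pureT]; simp⟩

theorem permO_mem_commutator {π : Equiv.Perm (Fin t)} (hπ : Equiv.Perm.sign π = 1) :
    D.permO π ∈ commutator (O D.Q) := by
  classical
  let φ := (Abelianization.of (G := O D.Q)).comp D.permO
  let a : Fin t := ⟨0, by have := D.ht; omega⟩
  let b : Fin t := ⟨1, D.ht⟩
  have hab : a ≠ b := by simp [a, b, Fin.ext_iff]
  set s := φ (Equiv.swap a b)
  have hs2 : s * s = 1 := by rw [← map_mul, Equiv.swap_mul_self, map_one]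
  have hswap : ∀ x y, x ≠ y → φ (Equiv.swap x y) = s := fun x y hxy =>
    isConj_iff_eq.1 (φ.map_isConj (Equiv.Perm.isConj_swap hxy hab))
  have key : ∀ σ : Equiv.Perm (Fin t), φ σ = if Equiv.Perm.sign σ = 1 then 1 else s := by
    intro σ
    induction σ using Equiv.Perm.swap_induction_on with
    | one => simp
    | swap_mul f x y hxy ih =>
      rw [map_mul, hswap x y hxy, ih, map_mul, Equiv.Perm.sign_swap hxy]
      rcases Int.units_eq_one_or (Equiv.Perm.sign f) with h | h <;> simp [h, hs2]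
  have h := key π
  rw [if_pos hπ] at h
  have h' : D.permO π ∈ (Abelianization.of (G := O D.Q)).ker := MonoidHom.mem_ker.2 h
  rwa [Abelianization.ker_of] at h'

theorem finrank_sp : finrank F (Sp F k t) = k ^ t := by
  rw [Module.finrank_fintype_fun_eq_card, Fintype.card_fun, Fintype.card_fin, Fintype.card_fin]

variable [Finite F] {X : Subgroup (O D.Q)}

/-- The roots lie in the group. -/
theorem roots_of_stab (hkt : 13 ≤ k ^ t) (hX : ∀ g ∈ commutator (O D.Q), D.Wreath g → g ∈ X) : D.Roots' X := by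
  intro i c v
  obtain ⟨-, u, ⟨x, hx, rfl⟩, hv⟩ := (D.coord i).mn_right c v
  have hcomm : x ∈ commutator (O D.Q) := by
    rwa [← sieGroup_eq_commutator D.hQ (by rw [finrank_sp]; omega)]
  have he : (toU D.Q x : Module.End F (Sp F k t)) = 1 + c • D.root i v := by
    refine (cj F k i).injective ?_
    rw [map_add, map_one, map_smul, D.cj_root, ← te_smul, ← coordUnits_val]
    exact hv
  have hsq : c • LinearMap.toMatrix' (D.tauL v v) * (c • LinearMap.toMatrix' (D.tauL v v)) = 0 :=
    Matrix.ext_iff_mulVec.2 fun z => by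
      rw [← Matrix.mulVec_mulVec, Matrix.smul_mulVec, Matrix.smul_mulVec, LinearMap.toMatrix'_mulVec,
        LinearMap.toMatrix'_mulVec, Matrix.zero_mulVec]
      simp [tauL, D.alt]
  let Y : GL (Fin k) F := ⟨1 + c • LinearMap.toMatrix' (D.tauL v v), 1 - c • LinearMap.toMatrix' (D.tauL v v),
    by rw [mul_sub, mul_one, add_mul, one_mul, hsq, add_zero, add_sub_cancel_right],
    by rw [sub_mul, one_mul, mul_add, mul_one, hsq, add_zero, add_sub_cancel_right]⟩
  refine ⟨?_, _, Subgroup.mem_map_of_mem _ (hX x hcomm ⟨Function.update (fun _ => 1) i Y, 1, fun y => ?_⟩), he⟩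
  · refine (cj F k i).injective ?_
    rw [map_mul, map_zero, map_smul, D.cj_root, ← te_smul, te_mul_te, (D.pair i).alt₂, zero_smul]
  rw [← toU_apply, he, LinearMap.add_apply, Module.End.one_apply, LinearMap.smul_apply, D.root_eq, slot_pureT,
    ← pureT_smul]
  conv_lhs => arg 1; rw [← Function.update_eq_self i y]
  rw [← pureT_add]
  congr 1
  funext l
  rcases eq_or_ne l i with rfl | hl
  · simp [Y, Matrix.add_mulVec, Matrix.smul_mulVec]
  · simp [hl]

omit [Finite F] in
theorem perms_of_stab (hX : ∀ g ∈ commutator (O D.Q), D.Wreath g → g ∈ X) : D.Perms X := fun π hπ =>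
  ⟨D.permO π, hX _ (D.permO_mem_commutator hπ) (D.wreath_permO π), fun x => D.permO_apply π x⟩

/-- The hypotheses on the slots. -/
def Allowed (_D : Base F k t) : Prop :=
  6 ≤ k ∨ ((k = 2 ∨ k = 4) ∧ (2 : F) ≠ 0 ∧ Even t ∧ (Nat.card F = 3 → 4 ≤ k))

/-- The main step. -/
theorem sieGroup_le (hkt : 13 ≤ k ^ t) (hA : D.Allowed) (hX : ∀ g ∈ commutator (O D.Q), D.Wreath g → g ∈ X)
    (hg : ∃ g ∈ X, ¬ D.Wreath g) : sieGroup D.Q ≤ X := by
  obtain ⟨g, hgX, hgW⟩ := hg
  have hR := D.roots_of_stab hkt hX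
  have hP := D.perms_of_stab hX
  rcases hA with hk | ⟨hk, h2, ht, h3⟩
  · let D' : Setup F k t := { D with hk := hk }
    have hC : D'.Cycles X := fun a b m hab hbm _ =>
      hP _ (by rw [map_mul, Equiv.Perm.sign_swap hab, Equiv.Perm.sign_swap hbm]; rfl)
    rcases Setup.sieGroup_le_or_monomial (D := D') (X := X) hR hC with h | h
    · exact h
    · exact absurd (h g hgX) hgW
  by_cases hno : (D.gram h2).NoRoot (X.map D.matHom)
  · exact absurd (monomial_of_noRoot h2 hR h3 hno g hgX) hgW
  rcases Nat.lt_or_ge t 4 with ht4 | ht4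
  · have ht2 : t = 2 := by obtain ⟨r, rfl⟩ := ht; have := D.ht; omega
    have hk4 : k = 4 := hk.resolve_left fun h => by subst h; subst ht2; norm_num at hkt
    exact sieGroup_le_of_two (h2 := h2) hR hk4 ht2 hno
  · exact sieGroup_le_of_four h2 hR hP hk ht ht4 hno

omit [Finite F] in
/-- A sum of two pure tensors that differ in two slots is not pure. -/
theorem add_not_pure {x w : Fin t → Fin k → F} {r : F} (hr : r ≠ 0) {i j : Fin t} (hij : i ≠ j)
    {a b p q : Fin k → F} (ha : D.β (x i) a = 1) (ha' : D.β (w i) a = 0) (hb : D.β (x i) b = 0)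
    (hb' : D.β (w i) b = 1) (hp : D.β (x j) p = 1) (hp' : D.β (w j) p = 0) (hq : D.β (x j) q = 0)
    (hq' : D.β (w j) q = 1) {c : Fin t → Fin k → F}
    (hc : ∀ l, l ≠ i → l ≠ j → D.β (x l) (c l) ≠ 0 ∧ D.β (w l) (c l) ≠ 0) (y : Fin t → Fin k → F) :
    pureT x + r • pureT w ≠ pureT y := by
  classical
  intro h
  set s := (Finset.univ.erase i).erase j
  let T : (Fin k → F) → (Fin k → F) → Fin t → Fin k → F := fun u v => Function.update (Function.update c i u) j v
  have hpr : ∀ (z : Fin t → Fin k → F) u v,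
      polar D.Q (pureT z) (pureT (T u v)) = D.c * (D.β (z i) u * D.β (z j) v * ∏ l ∈ s, D.β (z l) (c l)) :=
    fun z u v => by
      rw [D.polar_pure, ← Finset.mul_prod_erase Finset.univ _ (Finset.mem_univ i),
        ← Finset.mul_prod_erase (Finset.univ.erase i) _ (Finset.mem_erase.2 ⟨hij.symm, Finset.mem_univ j⟩)]
      simp only [T, Function.update_of_ne hij, Function.update_self]
      rw [Finset.prod_congr rfl fun l hl => by
        rw [Function.update_of_ne (Finset.ne_of_mem_erase hl),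
          Function.update_of_ne (Finset.ne_of_mem_erase (Finset.mem_of_mem_erase hl))]]
      ring
  have hsum : ∀ u v, polar D.Q (pureT y) (pureT (T u v)) =
      D.c * (D.β (x i) u * D.β (x j) v * ∏ l ∈ s, D.β (x l) (c l)) +
        r * (D.c * (D.β (w i) u * D.β (w j) v * ∏ l ∈ s, D.β (w l) (c l))) := fun u v => by
    rw [← h, polar_add_left, polar_smul_left', hpr, hpr]
  have e1 := hsum a p
  have e2 := hsum b q
  have e3 := hsum a q
  have e4 := hsum b p
  rw [hpr, ha, ha', hp, hp'] at e1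
  rw [hpr, hb, hb', hq, hq'] at e2
  rw [hpr, ha, ha', hq, hq'] at e3
  rw [hpr, hb, hb', hp, hp'] at e4
  simp only [zero_mul, mul_zero, one_mul, add_zero, zero_add] at e1 e2 e3 e4
  set C := ∏ l ∈ s, D.β (y l) (c l)
  set C₁ := ∏ l ∈ s, D.β (x l) (c l)
  set C₂ := ∏ l ∈ s, D.β (w l) (c l)
  have hcond : ∀ l ∈ s, l ≠ i ∧ l ≠ j := fun l hl =>
    ⟨Finset.ne_of_mem_erase (Finset.mem_of_mem_erase hl), Finset.ne_of_mem_erase hl⟩
  have hC₁ : C₁ ≠ 0 := Finset.prod_ne_zero_iff.2 fun l hl => (hc l (hcond l hl).1 (hcond l hl).2).1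
  have hC₂ : C₂ ≠ 0 := Finset.prod_ne_zero_iff.2 fun l hl => (hc l (hcond l hl).1 (hcond l hl).2).2
  have key : (D.c * C₁) * (r * (D.c * C₂)) = 0 := by
    rw [← e1, ← e2]
    linear_combination D.c * D.β (y i) b * D.β (y j) p * C * e3
  exact mul_ne_zero (mul_ne_zero D.c_ne_zero hC₁) (mul_ne_zero hr (mul_ne_zero D.c_ne_zero hC₂)) key

omit [Finite F] in
theorem not_wreath_of_sie {x w z : Fin t → Fin k → F} (hxw : polar D.Q (pureT x) (pureT w) = 0)
    (hwz : polar D.Q (pureT w) (pureT z) = 0)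
    (h : ∀ y, pureT z + (-polar D.Q (pureT x) (pureT z)) • pureT w ≠ pureT y) :
    ¬ D.Wreath (sie (pureT x) (pureT w) (D.pure_sing x) hxw) := by
  rintro ⟨gs, π, hπ⟩
  refine h _ (Eq.trans ?_ (hπ z))
  rw [sie_app, D.pure_sing, zero_mul, sub_zero, hwz, zero_smul, add_zero, neg_smul, sub_eq_add_neg]

/-- The stabiliser is proper. -/
theorem exists_not_wreath (hkt : 13 ≤ k ^ t) (hA : D.Allowed) : ∃ g ∈ commutator (O D.Q), ¬ D.Wreath g := by
  classical
  have hn : 5 ≤ finrank F (Sp F k t) := by rw [finrank_sp]; omega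
  obtain ⟨e, f, hef⟩ := D.exists_hyp
  have hfe : D.β f e = -1 := by rw [D.skew, hef]
  have hee := D.alt e
  have hff := D.alt f
  let i₀ : Fin t := ⟨0, by have := D.ht; omega⟩
  let i₁ : Fin t := ⟨1, D.ht⟩
  have h01 : i₀ ≠ i₁ := by simp [i₀, i₁, Fin.ext_iff]
  suffices h : ∃ (w : Fin t → Fin k → F), w i₀ = e ∧ D.β (w i₁) f * ∏ l ∈ Finset.univ.erase i₁, D.β (w l) f = 0 ∧
      ∀ r : F, r ≠ 0 → ∀ y, pureT (fun _ => f) + r • pureT w ≠ pureT y by
    obtain ⟨w, hw0, hwz, hnp⟩ := h
    have hxw : polar D.Q (pureT fun _ => e) (pureT w) = 0 := by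
      rw [D.polar_pure, Finset.prod_eq_zero (Finset.mem_univ i₀) (by rw [hw0, hee]), mul_zero]
    refine ⟨sie _ _ (D.pure_sing _) hxw, ?_, D.not_wreath_of_sie hxw ?_ (hnp _ ?_)⟩
    · rw [← sieGroup_eq_commutator D.hQ hn]
      exact sie_mem _ _
    · rw [D.polar_pure, ← Finset.mul_prod_erase Finset.univ _ (Finset.mem_univ i₁), hwz, mul_zero]
    · rw [D.polar_pure, Finset.prod_eq_one fun l _ => hef, mul_one]
      exact neg_ne_zero.2 D.c_ne_zero
  have ha : D.β f (-e) = 1 := by rw [map_neg, hfe, neg_neg]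
  have ha' : D.β e (-e) = 0 := by rw [map_neg, hee, neg_zero]
  rcases Nat.lt_or_ge t 3 with ht | ht
  · obtain rfl : t = 2 := by have := D.ht; omega
    have hk4 : 4 ≤ k := by
      by_contra hk
      have : k ^ 2 ≤ 3 ^ 2 := Nat.pow_le_pow_left (by omega) 2
      omega
    have hf0 : f ≠ 0 := fun h => by rw [h, map_zero] at hef; exact zero_ne_one hef
    have h1 : finrank F (Submodule.span F ({f} : Set (Fin k → F))) + 2 < k := by
      rw [finrank_span_singleton hf0]; omega
    obtain ⟨g, hg, -, hgf, -⟩ := exists_avoid₂ (D.pair i₀) f f _ _ h1 h1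
    obtain ⟨q, hq, hqz⟩ := exists_partner (D.pair i₀) (U := Submodule.span F {f}) (w := g) hgf 1
    obtain ⟨p, hp, hpz⟩ := exists_partner (D.pair i₀) (U := Submodule.span F {g}) (w := f)
      (not_mem_span_symm hf0 hgf) 1
    refine ⟨Function.update (fun _ => e) i₁ g, Function.update_of_ne h01 _ _, ?_, fun r hr y => ?_⟩
    · rw [Function.update_self, show D.β g f = 0 from (D.pair i₀).comm₂ hg, zero_mul]
    · refine D.add_not_pure hr h01 (a := -e) (b := f) (p := p) (q := q) ha ?_ hff ?_ hp ?_ ?_ ?_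
        (c := fun _ => e) (fun l hl hl' => ?_) y
      · rw [Function.update_of_ne h01]; exact ha'
      · rw [Function.update_of_ne h01]; exact hef
      · rw [Function.update_self]; exact hpz g (Submodule.mem_span_singleton_self g)
      · exact hqz f (Submodule.mem_span_singleton_self f)
      · rw [Function.update_self]; exact hq
      · exfalso
        fin_cases l <;> simp_all [i₀, i₁]
  · let i₂ : Fin t := ⟨2, by omega⟩
    have h02 : i₀ ≠ i₂ := by simp [i₀, i₂, Fin.ext_iff]
    have h12 : i₂ ≠ i₁ := by simp [i₁, i₂, Fin.ext_iff]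
    refine ⟨Function.update (fun _ => e) i₁ f, Function.update_of_ne h01 _ _, ?_, fun r hr y => ?_⟩
    · rw [Function.update_self, hff, zero_mul]
    · refine D.add_not_pure hr h02 (a := -e) (b := f) (p := -e) (q := f) ha ?_ hff ?_ ha ?_ hff ?_
        (c := fun l => if l = i₁ then e else e + f) (fun l hl hl' => ?_) y
      · rw [Function.update_of_ne h01]; exact ha'
      · rw [Function.update_of_ne h01]; exact hef
      · rw [Function.update_of_ne h12]; exact ha'
      · rw [Function.update_of_ne h12]; exact hef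
      · rcases eq_or_ne l i₁ with rfl | hl1
        · simp [hfe]
        · simp [hl1, hfe, hef, hff, hee]

end Base

end Cfsg.Agent.H72.SympWreath
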