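import Cfsg.Agent.H72.SympWreath.Central

/-!
Operators on the slots other than a given one.
-/

set_option autoImplicit false

namespace Cfsg.Agent.H72.SympWreath

open QuadraticMap Module Matrix Cfsg.Agent.Orthogonal Cfsg.Agent.H98 Cfsg.Agent.H98.ExtField Cfsg.Agent.H98.TensorGL
  Cfsg.Agent.H98.TensorSp Cfsg.Agent.H96.TensorPower

variable {F : Type*} [Field F] {k t : ℕ}

theorem restVec_update_add (i : Fin t) {j : Fin t} (hj : j ≠ i) (x : Fin t → Fin k → F) (u v : Fin k → F) :
    restVec i (Function.update x j (u + v)) =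
      restVec i (Function.update x j u) + restVec i (Function.update x j v) := by
  funext r
  simp only [restVec, Pi.add_apply]
  rw [← Finset.mul_prod_erase Finset.univ _ (Finset.mem_univ (⟨j, hj⟩ : {l // l ≠ i})),
    ← Finset.mul_prod_erase Finset.univ _ (Finset.mem_univ (⟨j, hj⟩ : {l // l ≠ i})),
    ← Finset.mul_prod_erase Finset.univ _ (Finset.mem_univ (⟨j, hj⟩ : {l // l ≠ i}))]
  simp only [Function.update_self, Pi.add_apply, add_mul]
  have e : ∀ w, ∀ l ∈ Finset.univ.erase (⟨j, hj⟩ : {l // l ≠ i}),
      Function.update x j w l ((restEquiv k i).symm r l) = x l ((restEquiv k i).symm r l) := fun w l hl => by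
    rw [Function.update_of_ne fun h => Finset.ne_of_mem_erase hl (Subtype.ext h)]
  rw [Finset.prod_congr rfl (e u), Finset.prod_congr rfl (e v), Finset.prod_congr rfl (e (u + v))]

theorem restVec_update_smul (i : Fin t) {j : Fin t} (hj : j ≠ i) (x : Fin t → Fin k → F) (c : F) (u : Fin k → F) :
    restVec i (Function.update x j (c • u)) = c • restVec i (Function.update x j u) := by
  funext r
  simp only [restVec, Pi.smul_apply, smul_eq_mul]
  rw [← Finset.mul_prod_erase Finset.univ _ (Finset.mem_univ (⟨j, hj⟩ : {l // l ≠ i})),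
    ← Finset.mul_prod_erase Finset.univ _ (Finset.mem_univ (⟨j, hj⟩ : {l // l ≠ i}))]
  simp only [Function.update_self, Pi.smul_apply, smul_eq_mul, mul_assoc]
  congr 2
  exact Finset.prod_congr rfl fun l hl => by
    rw [Function.update_of_ne fun h => Finset.ne_of_mem_erase hl (Subtype.ext h),
      Function.update_of_ne fun h => Finset.ne_of_mem_erase hl (Subtype.ext h)]

theorem restVec_smul (i : Fin t) (r : Fin t → F) (x : Fin t → Fin k → F) :
    restVec i (fun l => r l • x l) = (∏ l ∈ Finset.univ.erase i, r l) • restVec i x := by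
  funext s
  simp only [restVec, Pi.smul_apply, smul_eq_mul, Finset.prod_mul_distrib]
  congr 1
  rw [← Finset.prod_coe_sort (Finset.univ.erase i)]
  refine Fintype.prod_equiv (Equiv.subtypeEquivRight fun j => by simp) _ _ fun j => ?_
  rfl

/-- A family of operators on the slots other than `i`. -/
noncomputable def rsF (i : Fin t) (P : Fin t → Module.End F (Fin k → F)) :
    Matrix (Fin (rk k t i)) (Fin (rk k t i)) F :=
  Matrix.of fun r r' => ∏ l : {l // l ≠ i},
    LinearMap.toMatrix' (P l) ((restEquiv k i).symm r l) ((restEquiv k i).symm r' l)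

theorem rsF_restVec (i : Fin t) (P : Fin t → Module.End F (Fin k → F)) (x : Fin t → Fin k → F) :
    rsF i P *ᵥ restVec i x = restVec i fun l => P l (x l) := by
  funext r
  simp only [Matrix.mulVec, dotProduct, rsF, Matrix.of_apply, restVec]
  rw [← Equiv.sum_comp (restEquiv k i)]
  simp only [Equiv.symm_apply_apply, ← Finset.prod_mul_distrib]
  rw [← Fintype.prod_sum fun (l : {l // l ≠ i}) (p : Fin k) =>
    LinearMap.toMatrix' (P l) ((restEquiv k i).symm r l) p * x l p]
  exact Finset.prod_congr rfl fun l _ => by rw [← LinearMap.toMatrix'_mulVec]; rfl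

theorem ext_mat (i : Fin t) (hk : 0 < k) {K L : Matrix (Fin (rk k t i)) (Fin (rk k t i)) F}
    (h : ∀ x, K *ᵥ restVec i x = L *ᵥ restVec i x) : K = L :=
  Matrix.ext_iff_mulVec.2 fun u => LinearMap.congr_fun (ext_rest i hk (f := K.mulVecLin) (g := L.mulVecLin) h) u

theorem rsF_congr (i : Fin t) {P P' : Fin t → Module.End F (Fin k → F)} (h : ∀ l ≠ i, P l = P' l) :
    rsF i P = rsF i P' :=
  Matrix.ext fun r r' => by
    simp only [rsF, Matrix.of_apply]
    exact Finset.prod_congr rfl fun l _ => by rw [h l l.2]

theorem rsF_one (i : Fin t) (hk : 0 < k) : rsF (F := F) (k := k) i (fun _ => 1) = 1 :=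
  ext_mat i hk fun x => by rw [rsF_restVec, Matrix.one_mulVec]; rfl

theorem rsF_mul (i : Fin t) (hk : 0 < k) (P P' : Fin t → Module.End F (Fin k → F)) :
    rsF i P * rsF i P' = rsF i fun l => P l * P' l :=
  ext_mat i hk fun x => by rw [← Matrix.mulVec_mulVec, rsF_restVec, rsF_restVec, rsF_restVec]; rfl

theorem rsF_update_add (i : Fin t) (hk : 0 < k) {j : Fin t} (hj : j ≠ i) (P : Fin t → Module.End F (Fin k → F))
    (f g : Module.End F (Fin k → F)) :
    rsF i (Function.update P j (f + g)) = rsF i (Function.update P j f) + rsF i (Function.update P j g) :=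
  ext_mat i hk fun x => by
    have e : ∀ f : Module.End F (Fin k → F), (fun l => Function.update P j f l (x l)) =
        Function.update (fun l => P l (x l)) j (f (x j)) := fun f => funext fun l => by
      rcases eq_or_ne l j with rfl | hl
      · simp
      · simp [hl]
    rw [Matrix.add_mulVec, rsF_restVec, rsF_restVec, rsF_restVec, e, e, e, LinearMap.add_apply,
      restVec_update_add i hj]

theorem rsF_update_smul (i : Fin t) (hk : 0 < k) {j : Fin t} (hj : j ≠ i) (P : Fin t → Module.End F (Fin k → F))
    (c : F) (f : Module.End F (Fin k → F)) :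
    rsF i (Function.update P j (c • f)) = c • rsF i (Function.update P j f) :=
  ext_mat i hk fun x => by
    have e : ∀ f : Module.End F (Fin k → F), (fun l => Function.update P j f l (x l)) =
        Function.update (fun l => P l (x l)) j (f (x j)) := fun f => funext fun l => by
      rcases eq_or_ne l j with rfl | hl
      · simp
      · simp [hl]
    rw [Matrix.smul_mulVec, rsF_restVec, rsF_restVec, e, e, LinearMap.smul_apply, restVec_update_smul i hj]

theorem rs_eq_rsF (i j : Fin t) (f : Module.End F (Fin k → F)) :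
    rs i j f = rsF i (Function.update (fun _ => 1) j f) :=
  Matrix.ext fun r r' => by
    simp only [rs, rsF, Matrix.of_apply]
    refine Finset.prod_congr rfl fun l _ => ?_
    rcases eq_or_ne (l : Fin t) j with h | h
    · rw [if_pos h, h, Function.update_self]
    · rw [if_neg h, Function.update_of_ne h]
      simp [Matrix.one_apply, Pi.single_apply]

/-- One other slot acting. -/
noncomputable def rsHom (i : Fin t) (hk : 0 < k) {j : Fin t} (hj : j ≠ i) :
    Module.End F (Fin k → F) →ₐ[F] Matrix (Fin (rk k t i)) (Fin (rk k t i)) F :=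
  AlgHom.ofLinearMap
    { toFun := fun f => rsF i (Function.update (fun _ => 1) j f)
      map_add' := rsF_update_add i hk hj _
      map_smul' := rsF_update_smul i hk hj _ }
    (by
      show rsF i (Function.update (fun _ => 1) j (1 : Module.End F (Fin k → F))) = 1
      rw [Function.update_eq_self_iff.2 rfl, rsF_one i hk])
    (fun f g => by
      show rsF i _ = rsF i _ * rsF i _
      rw [rsF_mul i hk]
      refine rsF_congr i fun l _ => ?_
      rcases eq_or_ne l j with rfl | hl
      · simp
      · simp [hl])

theorem rsHom_apply (i : Fin t) (hk : 0 < k) {j : Fin t} (hj : j ≠ i) (f : Module.End F (Fin k → F)) :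
    rsHom i hk hj f = rsF i (Function.update (fun _ => 1) j f) := rfl

theorem rsF_commute (i : Fin t) (hk : 0 < k) {j : Fin t} (hj : j ≠ i) {P : Fin t → Module.End F (Fin k → F)}
    (hP : P j = 1) (g : Module.End F (Fin k → F)) : Commute (rsF i P) (rsHom i hk hj g) := by
  show _ * _ = _ * _
  rw [rsHom_apply, rsF_mul i hk, rsF_mul i hk]
  refine rsF_congr i fun l _ => ?_
  rcases eq_or_ne l j with rfl | hl
  · simp [hP]
  · simp [hl]

theorem rsF_mul_rsHom (i : Fin t) (hk : 0 < k) {j : Fin t} (hj : j ≠ i) {P : Fin t → Module.End F (Fin k → F)}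
    (hP : P j = 1) (g : Module.End F (Fin k → F)) :
    rsF i P * rsHom i hk hj g = rsF i (Function.update P j g) := by
  rw [rsHom_apply, rsF_mul i hk]
  refine rsF_congr i fun l _ => ?_
  rcases eq_or_ne l j with rfl | hl
  · simp [hP]
  · simp [hl]

namespace Base

variable (D : Base F k t)

theorem form_restVec (i : Fin t) (x y : Fin t → Fin k → F) :
    D.form i (restVec i x) (restVec i y) = D.c * ∏ l ∈ Finset.univ.erase i, D.β (x l) (y l) := by
  rw [form_apply, Ls_pure, Ls_pure, D.polar_pure, ← Finset.mul_prod_erase Finset.univ _ (Finset.mem_univ i),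
    Function.update_self, Function.update_self, D.he_hf, one_mul]
  congr 1
  exact Finset.prod_congr rfl fun l hl => by
    rw [Function.update_of_ne (Finset.ne_of_mem_erase hl), Function.update_of_ne (Finset.ne_of_mem_erase hl)]

theorem isAdj_rsHom {i j : Fin t} (hj : j ≠ i) {f f' : Module.End F (Fin k → F)}
    (h : ∀ x y, D.β (f x) y = D.β x (f' y)) :
    (D.pair i).IsAdj (rsHom i D.k_pos hj f) (rsHom i D.k_pos hj f') := by
  intro u w
  have e : (D.form i).compl₁₂ (rsHom i D.k_pos hj f).mulVecLin LinearMap.id =
      (D.form i).compl₁₂ LinearMap.id (rsHom i D.k_pos hj f').mulVecLin := by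
    refine ext_rest i D.k_pos fun x => ext_rest i D.k_pos fun y => ?_
    simp only [LinearMap.compl₁₂_apply, Matrix.mulVecLin_apply, LinearMap.id_apply, rsHom_apply, rsF_restVec,
      D.form_restVec]
    congr 1
    refine Finset.prod_congr rfl fun l _ => ?_
    rcases eq_or_ne l j with rfl | hl
    · simp [h]
    · simp [hl]
  exact LinearMap.congr_fun (LinearMap.congr_fun e u) w

theorem isAdj_tl {i j : Fin t} (hj : j ≠ i) (x y : Fin k → F) :
    (D.pair i).IsAdj (rsHom i D.k_pos hj (D.tauL x y)) (rsHom i D.k_pos hj (-D.tauL y x)) :=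
  D.isAdj_rsHom hj fun a b => by
    simp only [tauL, LinearMap.smulRight_apply, LinearMap.neg_apply, map_smul, map_neg, LinearMap.smul_apply,
      smul_eq_mul, D.skew a y]
    ring

/-- The rank one map of the other slots at pure vectors. -/
theorem tau_restVec (i : Fin t) (x y : Fin t → Fin k → F) :
    (D.pair i).tau (restVec i x) (restVec i y) = D.c • rsF i fun l => D.tauL (x l) (y l) :=
  ext_mat i D.k_pos fun z => by
    rw [Pair.tau_mulVec, Matrix.smul_mulVec, rsF_restVec,
      show (fun l => D.tauL (x l) (y l) (z l)) = fun l => D.β (y l) (z l) • x l from rfl, restVec_smul,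
      show (D.pair i).B₁ = D.form i from rfl, D.form_restVec, smul_smul]

/-- A matrix commuting with every other slot is a scalar. -/
theorem rest_central (i : Fin t) {K : Matrix (Fin (rk k t i)) (Fin (rk k t i)) F}
    (h : ∀ j, ∀ hj : j ≠ i, ∀ f, Commute K (rsHom i D.k_pos hj f)) : ∃ c : F, K = c • 1 := by
  obtain ⟨c, hc⟩ := central D.k_pos (h := (cj F k i).symm (lt K)) fun j f => by
    show _ * _ = _ * _
    refine (cj F k i).injective ?_
    rw [map_mul, map_mul, AlgEquiv.apply_symm_apply]
    rcases eq_or_ne j i with rfl | hj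
    · refine ext_T j D.k_pos fun v x => ?_
      rw [Module.End.mul_apply, Module.End.mul_apply, cj_slot_self j D.k_pos, lt_pure, lt_pure,
        cj_slot_self j D.k_pos]
    · rw [cj_slot_ne hj D.k_pos, ← lt_mul, ← lt_mul, rs_eq_rsF]
      exact congrArg lt (h j hj f).eq
  refine ⟨c, Matrix.ext_iff_mulVec.2 fun u => ?_⟩
  have h1 := congrArg (cj F k i) hc
  rw [AlgEquiv.apply_symm_apply, map_smul, map_one] at h1
  have h2 := LinearMap.congr_fun h1 (TensorGL.pure D.he u)
  rw [lt_pure, LinearMap.smul_apply, Module.End.one_apply, ← map_smul] at h2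
  have hne : D.he ≠ 0 := fun e => by
    have := D.he_hf
    rw [e, map_zero, LinearMap.zero_apply] at this
    exact zero_ne_one this
  rw [Matrix.smul_mulVec, Matrix.one_mulVec]
  exact pure_injective hne h2

end Base

end Cfsg.Agent.H72.SympWreath
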