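import Cfsg.Agent.H72.SympWreath.Monomial
import Cfsg.Agent.H72.SympWreath.Rest
import Cfsg.Agent.H24.Wreath.FlatThree
import Cfsg.Agent.H24.Wreath.Main

/-!
The overgroup read as a matrix group of the tensor power, away from characteristic two.
-/

set_option autoImplicit false

namespace Cfsg.Agent.H72.SympWreath

open QuadraticMap Module Matrix Cfsg.Agent.Orthogonal Cfsg.Agent.H98 Cfsg.Agent.H98.ExtField Cfsg.Agent.H98.TensorGL
  Cfsg.Agent.H98.TensorSp Cfsg.Agent.H96.TensorPower
open Cfsg.Agent.H24.Wreath (Gram sl Mat)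
open Cfsg.Agent.Aschbacher (pureMat pureVec slotMat factorPerm)

variable {F : Type*} [Field F] {k t : ℕ}

namespace Base

variable (D : Base F k t)

/-- The Gram matrix of the slot form. -/
noncomputable def gram (h2 : (2 : F) ≠ 0) : Gram F k where
  G := Matrix.of fun i j => D.β (Pi.single i 1) (Pi.single j 1)
  skew := Matrix.ext fun i j => D.skew _ _
  two := h2
  unit := Matrix.mulVec_injective_iff_isUnit.1 <| (injective_iff_map_eq_zero (Matrix.mulVecLin _)).2 fun u hu => D.nd u fun y => by
    rw [D.skew y u, neg_eq_zero]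
    have h1 : ∀ i, D.β (Pi.single i 1) u = 0 := fun i => by
      rw [pi_eq_sum_univ' u, map_sum]
      refine Eq.trans ?_ (congrFun hu i)
      simp only [Matrix.mulVecLin_apply, Matrix.mulVec, dotProduct, map_smul, smul_eq_mul, Matrix.of_apply]
      exact Finset.sum_congr rfl fun j _ => mul_comm _ _
    rw [pi_eq_sum_univ' y, map_sum, LinearMap.sum_apply]
    simp [h1]

variable (h2 : (2 : F) ≠ 0)

theorem gram_β (x y : Fin k → F) : (D.gram h2).β x y = D.β x y := by
  conv_rhs => rw [pi_eq_sum_univ' x, pi_eq_sum_univ' y]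
  simp only [Gram.β, gram, dotProduct, Matrix.mulVec, Matrix.of_apply, map_sum, map_smul, LinearMap.sum_apply,
    LinearMap.smul_apply, smul_eq_mul, Finset.mul_sum]
  rw [Finset.sum_comm]
  exact Finset.sum_congr rfl fun i _ => Finset.sum_congr rfl fun j _ => by ring

theorem gram_tau (x y : Fin k → F) : (D.gram h2).tau x y = LinearMap.toMatrix' (D.tauL x y) :=
  Matrix.ext_iff_mulVec.2 fun z => by
    rw [Gram.tau_mulVec, LinearMap.toMatrix'_mulVec, D.gram_β]
    rfl

theorem toLin_sl (i : Fin t) (f : (Fin k → F) →ₗ[F] (Fin k → F)) :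
    Matrix.toLinAlgEquiv' (sl i (LinearMap.toMatrix' f) : Mat F k t) = slot i f :=
  ext_pure fun x => by
    rw [slot_pureT, Matrix.toLinAlgEquiv'_apply]
    exact (Cfsg.Agent.H24.Wreath.sl_mulVec i _ x).trans (by rw [LinearMap.toMatrix'_mulVec]; rfl)

theorem toLin_root (i : Fin t) (v : Fin k → F) :
    Matrix.toLinAlgEquiv' (sl i ((D.gram h2).root v) : Mat F k t) = D.root i v := by
  rw [Gram.root, D.gram_tau, toLin_sl, D.root_eq]

theorem toLin_pureMat (P : Fin t → Module.End F (Fin k → F)) (x : Fin t → Fin k → F) :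
    Matrix.toLinAlgEquiv' (pureMat fun l => LinearMap.toMatrix' (P l) : Mat F k t) (pureT x) =
      pureT fun l => P l (x l) := by
  rw [Matrix.toLinAlgEquiv'_apply]
  exact (Aschbacher.pureMat_mulVec _ x).trans (congrArg pureT (funext fun l => LinearMap.toMatrix'_mulVec _ _))

/-- The polar form through the big Gram matrix. -/
theorem polar_big (x y : Sp F k t) : polar D.Q x y = D.c * (x ⬝ᵥ (D.gram h2).big t *ᵥ y) := by
  have h : D.Q.polarBilin = D.c • Matrix.toLinearMap₂' F ((D.gram h2).big t) := ext_pure fun u => ext_pure fun v => by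
    rw [LinearMap.smul_apply, LinearMap.smul_apply, Matrix.toLinearMap₂'_apply', smul_eq_mul]
    show polar D.Q (pureT u) (pureT v) = _
    rw [D.polar_pure, show pureT u = pureVec u from rfl, show pureT v = pureVec v from rfl, Gram.big_pure]
    simp only [D.gram_β]
  have := LinearMap.congr_fun (LinearMap.congr_fun h x) y
  rwa [LinearMap.smul_apply, LinearMap.smul_apply, Matrix.toLinearMap₂'_apply', smul_eq_mul] at this

theorem c_ne_zero : D.c ≠ 0 := fun hc => by
  have h : pureT (fun _ : Fin t => D.he) = 0 := D.hQ _ fun y => by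
    rw [show polar D.Q (pureT fun _ => D.he) y = D.Q.polarBilin (pureT fun _ => D.he) y from rfl]
    refine LinearMap.congr_fun (ext_pure (f := D.Q.polarBilin (pureT fun _ => D.he)) (g := 0) fun x => ?_) y
    show polar D.Q _ _ = 0
    rw [D.polar_pure, hc, zero_mul]
  refine pureT_ne_zero (fun l => ?_) h
  intro e
  have := D.he_hf
  rw [e, map_zero, LinearMap.zero_apply] at this
  exact zero_ne_one this

/-- The group as units of matrices. -/
noncomputable def matHom : O D.Q →* (Mat F k t)ˣ :=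
  (Units.map (Matrix.toLinAlgEquiv' (R := F) (n := Fin t → Fin k)).symm.toAlgHom.toRingHom.toMonoidHom).comp (toU D.Q)

theorem toLin_matHom (g : O D.Q) : Matrix.toLinAlgEquiv' (D.matHom g : Mat F k t) = (toU D.Q g : Module.End F (Sp F k t)) :=
  (Matrix.toLinAlgEquiv' (R := F) (n := Fin t → Fin k)).apply_symm_apply _

theorem matHom_mulVec (g : O D.Q) (x : Sp F k t) :
    (D.matHom g : Mat F k t) *ᵥ x = (g : Sp F k t ≃ₗ[F] Sp F k t) x := by
  rw [← Matrix.toLinAlgEquiv'_apply, toLin_matHom, toU_apply]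

variable {D} {X : Subgroup (O D.Q)}

theorem exists_matHom_iff {Z : Mat F k t} :
    (∃ h ∈ X.map D.matHom, (h : Mat F k t) = Z) ↔
      ∃ g ∈ X, (toU D.Q g : Module.End F (Sp F k t)) = Matrix.toLinAlgEquiv' Z := by
  constructor
  · rintro ⟨_, ⟨g, hg, rfl⟩, he⟩
    exact ⟨g, hg, by rw [← he, toLin_matHom]⟩
  · rintro ⟨g, hg, he⟩
    exact ⟨_, Subgroup.mem_map_of_mem _ hg, Matrix.toLinAlgEquiv'.injective (by rw [toLin_matHom, he])⟩

/-- The roots of the slots are in the group. -/
def Roots' (D : Base F k t) (X : Subgroup (O D.Q)) : Prop :=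
  ∀ (i : Fin t) (c : F) (v : Fin k → F), MN (X.map (toU D.Q)) (c • D.root i v)

theorem gOver (hR : D.Roots' X) : (D.gram h2).Over (X.map D.matHom) := by
  refine ⟨?_, fun i a => ⟨by rw [Cfsg.Agent.H24.Wreath.sl_mul, Gram.root_mul_root_self, Cfsg.Agent.H24.Wreath.sl_zero],
    fun x => ?_⟩⟩
  · rintro _ ⟨g, -, rfl⟩
    refine Matrix.ext fun a b => ?_
    have h := O.polar_app g (Pi.single a 1) (Pi.single b 1)
    rw [D.polar_big h2, D.polar_big h2, ← D.matHom_mulVec, ← D.matHom_mulVec] at h
    have h' := mul_left_cancel₀ D.c_ne_zero h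
    rw [← vecMul_transpose, ← dotProduct_mulVec, mulVec_mulVec, mulVec_mulVec, single_dotProduct, one_mul,
      single_dotProduct, one_mul, mulVec_single_one, mulVec_single_one] at h'
    exact h'
  · obtain ⟨-, _, ⟨g, hg, rfl⟩, hu⟩ := hR i x a
    exact exists_matHom_iff.2 ⟨g, hg, by rw [hu, map_add, map_one, map_smul, toLin_root]⟩

/-- Without a further root the group is monomial. -/
theorem monomial_of_noRoot [Finite F] (hR : D.Roots' X) (h3 : Nat.card F = 3 → 4 ≤ k)
    (hno : (D.gram h2).NoRoot (X.map D.matHom)) :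
    ∀ g ∈ X, ∃ (gs : Fin t → GL (Fin k) F) (π : Equiv.Perm (Fin t)),
      ∀ x, (g : Sp F k t ≃ₗ[F] Sp F k t) (pureT x) = pureT fun l => (gs l : Matrix (Fin k) (Fin k) F) *ᵥ x (π l) := by
  have : NeZero k := ⟨D.k_pos.ne'⟩
  have hH := gOver h2 hR
  have hflat : (D.gram h2).Flat (X.map D.matHom) := by
    by_cases hq : Nat.card F = 3
    · exact hH.flat_three (h3 hq) hq hno
    · exact hH.flat_of_test (hH.test_of_pair hq hno)
  intro g hg
  obtain ⟨A, σ, r, hr, hv⟩ := hflat.monomial hH (Subgroup.mem_map_of_mem D.matHom hg)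
  classical
  let i₀ : Fin t := ⟨0, by have := D.ht; omega⟩
  let A' : Fin t → GL (Fin k) F := fun j =>
    if j = i₀ then A j * Units.map (algebraMap F (Matrix (Fin k) (Fin k) F)).toMonoidHom (Units.mk0 r hr) else A j
  refine ⟨A', σ.symm, fun x => ?_⟩
  rw [← D.matHom_mulVec, hv, ← smul_mul_assoc, ← Matrix.mulVec_mulVec,
    show factorPerm σ *ᵥ pureT x = pureT fun l => x (σ.symm l) from ?_]
  · have e : (fun j => (A' j : Matrix (Fin k) (Fin k) F)) =
        fun j => (if j = i₀ then r else 1) • (A j : Matrix (Fin k) (Fin k) F) := funext fun j => by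
      simp only [A']
      split_ifs
      · simp [Algebra.algebraMap_eq_smul_one]
      · rw [one_smul]
    have e2 : (r • pureMat fun j => (A j : Matrix (Fin k) (Fin k) F) : Mat F k t) =
        pureMat fun j => (A' j : Matrix (Fin k) (Fin k) F) := by
      rw [e, Cfsg.Agent.H24.Wreath.pureMat_smul, Finset.prod_ite_eq' Finset.univ i₀ (fun _ => r),
        if_pos (Finset.mem_univ _)]
    rw [e2]
    exact Aschbacher.pureMat_mulVec _ _
  · funext a
    simp only [factorPerm, Matrix.mulVec, dotProduct, Matrix.of_apply, ite_mul, one_mul, zero_mul,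
      Finset.sum_ite_eq', Finset.mem_univ, if_true, pureT, Function.comp_apply]
    rw [← Equiv.prod_comp σ (fun l => x (σ.symm l) (a l))]
    exact Finset.prod_congr rfl fun l _ => by rw [Equiv.symm_apply_apply]

end Base

end Cfsg.Agent.H72.SympWreath
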