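import Cfsg.Agent.H24.Wreath.Climb

/-!
Linear moves on one piece of a state, and elimination of a rank two piece.
-/

set_option autoImplicit false

namespace Cfsg.Agent.H72.SympWreath

open Matrix Finset
open Cfsg.Agent.H24.Wreath
open Cfsg.Agent.Aschbacher (pureMat pureVec slotMat factorPerm)

variable {F : Type*} [Field F] {k t : ℕ}

theorem pureMat_update_add (X : Fin t → Matrix (Fin k) (Fin k) F) (l : Fin t) (A B : Matrix (Fin k) (Fin k) F) :
    (pureMat (Function.update X l (A + B)) : Mat F k t) =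
      pureMat (Function.update X l A) + pureMat (Function.update X l B) := by
  rw [pureMat_eq_sl_mul _ l, pureMat_eq_sl_mul (Function.update X l A) l,
    pureMat_eq_sl_mul (Function.update X l B) l]
  simp [sl_add, add_mul]

theorem pureMat_update_smul (X : Fin t → Matrix (Fin k) (Fin k) F) (l : Fin t) (c : F) (A : Matrix (Fin k) (Fin k) F) :
    (pureMat (Function.update X l (c • A)) : Mat F k t) = c • pureMat (Function.update X l A) := by
  rw [pureMat_eq_sl_mul _ l, pureMat_eq_sl_mul (Function.update X l A) l]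
  simp [sl_smul]

theorem pureMat_eq_zero_of {X : Fin t → Matrix (Fin k) (Fin k) F} {l : Fin t} (h : X l = 0) :
    (pureMat X : Mat F k t) = 0 := by
  ext a c
  exact Finset.prod_eq_zero (mem_univ l) (by rw [h]; rfl)

variable {𝕘 : Gram F k} {H : Subgroup (Mat F k t)ˣ}

/-- One piece may be added to another while a different piece squares to zero. -/
theorem Q_piece_add {X : Fin t → Matrix (Fin k) (Fin k) F} {i l : Fin t} (hil : i ≠ l) (hi : X i * X i = 0)
    {A B : Matrix (Fin k) (Fin k) F} (hA : Q (F := F) H (pureMat (Function.update X l A) : Mat F k t))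
    (hB : Q (F := F) H (pureMat (Function.update X l B) : Mat F k t)) :
    Q (F := F) H (pureMat (Function.update X l (A + B)) : Mat F k t) := by
  rw [pureMat_update_add]
  have h0 : ∀ A B, (pureMat (Function.update X l A) * pureMat (Function.update X l B) : Mat F k t) = 0 := fun A B => by
    rw [Aschbacher.pureMat_mul]
    exact pureMat_eq_zero_of (l := i) (by simp [Function.update_of_ne hil, hi])
  exact hA.add hB (h0 _ _) (h0 _ _)

/-- Conjugating one piece by a transvection of its slot. -/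
theorem Q_piece_conj (hH : 𝕘.Over H) {X : Fin t → Matrix (Fin k) (Fin k) F} {l : Fin t}
    (h : Q (F := F) H (pureMat X : Mat F k t)) (w : Fin k → F) :
    Q (F := F) H (pureMat (Function.update X l ((1 + 𝕘.root w) * X l * (1 - 𝕘.root w))) : Mat F k t) := by
  have h1 := Gram.Over.Q_steps hH h (Function.update (fun _ => 0) l w)
  convert h1 using 2
  funext j
  rcases eq_or_ne j l with rfl | hj
  · simp
  · simp [hj, Gram.root, Gram.tau_zero_left]

/-- In a plane a rank two piece vanishes. -/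
theorem sb_eq_zero_of_two (hk : k = 2) {b c : Fin k → F} (h : 𝕘.β b c = 0) : 𝕘.sb b c = 0 := by
  by_contra hne
  obtain ⟨hb, w, hwb, hwc⟩ := Gram.sb_parts hne
  subst hk
  have hli : LinearIndependent F ![b, w] := by
    rw [LinearIndependent.pair_iff]
    intro p q hpq
    have h1 := congrArg (fun z => 𝕘.β z c) hpq
    simp only [Gram.β_add_left, Gram.β_smul_left, h, mul_zero, zero_add, Gram.β_zero_left] at h1
    have hq := (mul_eq_zero.1 h1).resolve_right hwc
    rw [hq, zero_smul, add_zero] at hpq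
    exact ⟨(smul_eq_zero.1 hpq).resolve_right hb, hq⟩
  have hspan := hli.span_eq_top_of_card_eq_finrank (by simp)
  obtain ⟨z, hz⟩ := 𝕘.exists_one hb
  have : z ∈ Submodule.span F (Set.range ![b, w]) := by rw [hspan]; trivial
  rw [Matrix.range_cons_cons_empty, Submodule.mem_span_pair] at this
  obtain ⟨p, q, rfl⟩ := this
  rw [Gram.β_add_right, Gram.β_smul_right, Gram.β_smul_right, 𝕘.β_self, 𝕘.β_skew w b, hwb] at hz
  simp at hz

/-- A rank two piece and a conjugate in general position sum to an involution. -/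
theorem exists_sum_invol (hk : k = 4) {b c : Fin k → F} (hbc : 𝕘.β b c = 0) (hne : 𝕘.sb b c ≠ 0) :
    ∃ w₁ w₂ : Fin k → F,
      (𝕘.sb b c + 𝕘.sb (Gram.st 𝕘 w₂ (Gram.st 𝕘 w₁ b)) (Gram.st 𝕘 w₂ (Gram.st 𝕘 w₁ c))) *
        (𝕘.sb b c + 𝕘.sb (Gram.st 𝕘 w₂ (Gram.st 𝕘 w₁ b)) (Gram.st 𝕘 w₂ (Gram.st 𝕘 w₁ c))) = 1 := by
  obtain ⟨hb, v, hvb, hvc⟩ := Gram.sb_parts hne
  obtain ⟨u, hu⟩ := 𝕘.exists_one hb
  set w₂ := (𝕘.β v c)⁻¹ • v with hw₂
  have h2b : 𝕘.β w₂ b = 0 := by rw [hw₂, Gram.β_smul_left, hvb, mul_zero]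
  have h2c : 𝕘.β w₂ c = 1 := by rw [hw₂, Gram.β_smul_left, inv_mul_cancel₀ hvc]
  set u' := -u with hu'
  have hub : 𝕘.β u' b = 1 := by
    rw [hu', 𝕘.β_skew b (-u), show -u = (-1 : F) • u from (neg_one_smul F u).symm, Gram.β_smul_right, hu]; ring
  set u'' := u' + (-𝕘.β u' c) • w₂ with hu''
  have hu''b : 𝕘.β u'' b = 1 := by rw [hu'', Gram.β_add_left, Gram.β_smul_left, hub, h2b, mul_zero, add_zero]
  have hu''c : 𝕘.β u'' c = 0 := by rw [hu'', Gram.β_add_left, Gram.β_smul_left, h2c]; ring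
  set w₁ := u'' + (-𝕘.β w₂ u'') • c with hw₁
  have hcb : 𝕘.β c b = 0 := by rw [𝕘.β_skew, hbc, neg_zero]
  have hbb := 𝕘.β_self b
  have h1b : 𝕘.β w₁ b = 1 := by rw [hw₁, Gram.β_add_left, Gram.β_smul_left, hu''b, hcb, mul_zero, add_zero]
  have h1c : 𝕘.β w₁ c = 0 := by rw [hw₁, Gram.β_add_left, Gram.β_smul_left, hu''c, 𝕘.β_self, mul_zero, add_zero]
  have h21 : 𝕘.β w₂ w₁ = 0 := by rw [hw₁, Gram.β_add_right, Gram.β_smul_right, h2c]; ring
  have h12 : 𝕘.β w₁ w₂ = 0 := by rw [𝕘.β_skew, h21, neg_zero]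
  have hb1 : 𝕘.β b w₁ = -1 := by rw [𝕘.β_skew, h1b]
  have hc1 : 𝕘.β c w₁ = 0 := by rw [𝕘.β_skew, h1c, neg_zero]
  have hb2 : 𝕘.β b w₂ = 0 := by rw [𝕘.β_skew, h2b, neg_zero]
  have hc2 : 𝕘.β c w₂ = -1 := by rw [𝕘.β_skew, h2c]
  refine ⟨w₁, w₂, ?_⟩
  have eb : Gram.st 𝕘 w₂ (Gram.st 𝕘 w₁ b) = b + w₁ := by
    simp only [Gram.st, h1b, one_smul, Gram.β_add_right, h2b, h21, add_zero, zero_smul]
  have ec : Gram.st 𝕘 w₂ (Gram.st 𝕘 w₁ c) = c + w₂ := by
    simp only [Gram.st, h1c, zero_smul, add_zero, h2c, one_smul]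
  rw [eb, ec]
  refine Matrix.ext_iff_mulVec.2 fun x => ?_
  rw [one_mulVec, ← sub_eq_zero]
  have hspan : ∀ y, 𝕘.β b y = 0 → 𝕘.β c y = 0 → 𝕘.β w₁ y = 0 → 𝕘.β w₂ y = 0 → y = 0 := by
    intro y h1 h2 h3 h4
    subst hk
    refine 𝕘.nd fun z => ?_
    have hli : LinearIndependent F ![b, c, w₁, w₂] := by
      rw [Fintype.linearIndependent_iff]
      intro g hg
      rw [Fin.sum_univ_four] at hg
      simp only [Matrix.cons_val] at hg
      have key : ∀ z, g 0 * 𝕘.β b z + g 1 * 𝕘.β c z + g 2 * 𝕘.β w₁ z + g 3 * 𝕘.β w₂ z = 0 := fun z => by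
        have := congrArg (fun y => 𝕘.β y z) hg
        simpa [Gram.β_add_left, Gram.β_smul_left, Gram.β_zero_left] using this
      have e0 := key w₁
      have e1 := key w₂
      have e2 := key b
      have e3 := key c
      simp [hb1, hc1, hb2, hc2, h1b, h2b, h1c, h2c, hbc, hcb, h12, h21, 𝕘.β_self] at e0 e1 e2 e3
      intro i
      fin_cases i <;> assumption
    have hz : z ∈ Submodule.span F (Set.range ![b, c, w₁, w₂]) := by
      rw [hli.span_eq_top_of_card_eq_finrank (by simp)]; trivial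
    refine Submodule.span_induction (p := fun z _ => 𝕘.β z y = 0) ?_ ?_ ?_ ?_ hz
    · rintro _ ⟨i, rfl⟩
      fin_cases i <;> assumption
    · exact 𝕘.β_zero_left y
    · intro p q _ _ hp hq
      rw [Gram.β_add_left, hp, hq, add_zero]
    · intro r p _ hp
      rw [Gram.β_smul_left, hp, mul_zero]
  have hneg : ∀ x y : Fin k → F, 𝕘.β x (-y) = -𝕘.β x y := fun x y => by
    rw [← neg_one_smul F y, Gram.β_smul_right, neg_one_mul]
  refine hspan _ ?_ ?_ ?_ ?_ <;>
    simp [hneg, ← mulVec_mulVec, Gram.sb_mulVec, add_mulVec, Gram.β_sub_right, Gram.β_add_right, Gram.β_add_left,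
      Gram.β_smul_right, hbc, hcb, hb1, hc1, hb2, hc2, h1b, h2b, h1c, h2c, h12, h21, 𝕘.β_self]

end Cfsg.Agent.H72.SympWreath
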