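import Cfsg.Agent.H72.SympWreath.Column

/-!
How far the image of a root conjugate can be from a column, and the final contradiction on a hyperbolic pair.
-/

set_option autoImplicit false

namespace Cfsg.Agent.H72.SympWreath

open Module Matrix Cfsg.Agent.H98 Cfsg.Agent.H98.ExtField Cfsg.Agent.H98.TensorGL Cfsg.Agent.H98.TensorSp

variable {F : Type*} [Field F] {a b : ℕ} {S : Pair F a b} {M : Subgroup (Module.End F (T F a b))ˣ}
  {P : Submodule F (T F a b)} {x y w : Fin b → F} {Z : Submodule F (Fin a → F)}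

/-- The part of `P` orthogonal to the column at `x`. -/
def part (S : Pair F a b) (P : Submodule F (T F a b)) (x : Fin b → F) : Submodule F (T F a b) :=
  P ⊓ LinearMap.ker (ev (S.B₂ x))

theorem col_le_ker (h : S.B₂ x w = 0) : col a w ≤ LinearMap.ker (ev (S.B₂ x)) := by
  rintro _ ⟨u, rfl⟩
  rw [LinearMap.mem_ker, ev_pure, h, zero_smul]

theorem inf_le_col_sup {W : Submodule F (T F a b)} (hW : W ≤ col a x ⊔ P) :
    W ⊓ LinearMap.ker (ev (S.B₂ x)) ≤ col a x ⊔ part S P x := by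
  refine (inf_le_inf_right _ hW).trans ?_
  rw [sup_inf_assoc_of_le P (col_le_ker (S.alt₂ x))]
  rfl

theorem disjoint_col (hw : w ∉ Submodule.span F {x}) : col a x ⊓ col a w = ⊥ := by
  rw [eq_bot_iff]
  rintro m ⟨⟨u, hu⟩, ⟨v, hv⟩⟩
  obtain ⟨φ, hφ, hφ0⟩ := exists_dual_one hw
  have := congrArg (ev φ) (hu.trans hv.symm)
  rw [ev_pure, ev_pure, hφ, hφ0 _ (Submodule.mem_span_singleton_self x), zero_smul, one_smul] at this
  rw [Submodule.mem_bot, ← hv, ← this, map_zero]

theorem col_eq_of_mem {c : F} (hc : c ≠ 0) : col a (c • x) = col a x := by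
  refine le_antisymm ?_ ?_
  · rintro _ ⟨u, rfl⟩
    exact ⟨c • u, funext fun i => by simp [smul_smul, mul_comm c]⟩
  · rintro _ ⟨u, rfl⟩
    exact ⟨c⁻¹ • u, funext fun i => by
      simp only [TensorGL.pure_apply, Pi.smul_apply, smul_eq_mul, smul_smul]
      congr 1
      field_simp⟩

/-- A column of the same slot containing the orthogonal part is the column at `x`. -/
theorem good_of_col (hw0 : w ≠ 0) (hxw : S.B₂ x w = 0) (hle : col a w ≤ col a x ⊔ P)
    (hP0 : part S P x ≤ col a w) (hlt : finrank F (part S P x) < a) : col a w = col a x := by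
  by_cases hw : w ∈ Submodule.span F {x}
  · obtain ⟨c, rfl⟩ := Submodule.mem_span_singleton.1 hw
    exact col_eq_of_mem fun e => hw0 (by rw [e, zero_smul])
  exfalso
  have h0 : col a w ≤ part S P x ⊔ col a x := by
    rw [sup_comm]
    exact (le_inf le_rfl (col_le_ker hxw)).trans (inf_le_col_sup hle)
  have h1 : col a w ≤ part S P x := by
    have h2 := le_inf h0 (le_refl (col a w))
    rwa [sup_inf_assoc_of_le _ hP0, disjoint_col hw, sup_bot_eq] at h2
  have := Submodule.finrank_mono h1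
  rw [finrank_col hw0] at this
  omega

/-- Coordinates of the other type. -/
noncomputable def othEquiv (b : ℕ) {a : ℕ} (Z : Submodule F (Fin a → F)) : oth b Z ≃ₗ[F] (Fin b → Z) where
  toFun m j := ⟨fun i => (m : T F a b) i j, mem_oth.1 m.2 (LinearMap.proj j)⟩
  invFun g := ⟨fun i j => (g j : Fin a → F) i, mem_oth.2 fun φ => by
    have e : ev φ (fun i j => (g j : Fin a → F) i : T F a b) = ∑ j, φ (Pi.single j 1) • (g j : Fin a → F) := by
      funext i
      rw [ev_apply, pi_eq_sum_univ' (fun j => (g j : Fin a → F) i), map_sum, Finset.sum_apply]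
      exact Finset.sum_congr rfl fun j _ => by rw [map_smul, Pi.smul_apply, smul_eq_mul, smul_eq_mul, mul_comm]
    rw [e]
    exact Submodule.sum_mem _ fun j _ => Z.smul_mem _ (g j).2⟩
  left_inv m := rfl
  right_inv g := rfl
  map_add' m m' := rfl
  map_smul' c m := rfl

theorem finrank_oth (Z : Submodule F (Fin a → F)) : finrank F (oth b Z) = b * finrank F Z := by
  rw [(othEquiv b Z).finrank_eq, finrank_pi_fintype, Finset.sum_const, Finset.card_univ, Fintype.card_fin,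
    smul_eq_mul]

theorem col_inf_oth (hx : x ≠ 0) : finrank F ↥(col a x ⊓ oth b Z) ≤ finrank F Z := by
  obtain ⟨φ, hφ⟩ := exists_dual_pure hx
  refine (Submodule.finrank_mono ?_).trans (Submodule.finrank_map_le (TensorGL.pure x) Z)
  rintro _ ⟨⟨u, rfl⟩, h⟩
  have := mem_oth.1 h φ
  rw [ev_pure, hφ, one_smul] at this
  exact ⟨u, this, rfl⟩

theorem le_finrank_inf_ker (S : Pair F a b) (x : Fin b → F) (Z : Submodule F (Fin a → F)) :
    b * finrank F Z ≤ finrank F ↥(oth b Z ⊓ LinearMap.ker (ev (S.B₂ x))) + finrank F Z := by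
  set f := ev (S.B₂ x) ∘ₗ (oth b Z).subtype
  have h1 := LinearMap.finrank_range_add_finrank_ker f
  have h2 : finrank F (LinearMap.range f) ≤ finrank F Z := Submodule.finrank_mono (by
    rintro _ ⟨m, rfl⟩
    exact mem_oth.1 m.2 _)
  have h3 : finrank F (LinearMap.ker f) ≤ finrank F ↥(oth b Z ⊓ LinearMap.ker (ev (S.B₂ x))) := by
    rw [← Submodule.finrank_map_subtype_eq]
    refine Submodule.finrank_mono ?_
    rintro _ ⟨m, hm, rfl⟩
    exact ⟨m.2, hm⟩
  rw [finrank_oth] at h1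
  omega

/-- The orthogonal part in the other type is large. -/
theorem bad_bound (hx : x ≠ 0) (hle : oth b Z ≤ col a x ⊔ P) :
    (b - 2) * finrank F Z ≤ finrank F (part S P x) := by
  have h1 := le_finrank_inf_ker S x Z
  set W := oth b Z ⊓ LinearMap.ker (ev (S.B₂ x))
  have h2 := Submodule.finrank_sup_add_finrank_inf_eq W (col a x)
  have h3 : finrank F ↥(W ⊔ col a x) ≤ a + finrank F (part S P x) := by
    refine (Submodule.finrank_mono (sup_le (inf_le_col_sup hle) le_sup_left)).trans ?_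
    refine (Submodule.finrank_add_le_finrank_add_finrank _ _).trans ?_
    rw [finrank_col hx]
  have h4 : finrank F ↥(W ⊓ col a x) ≤ finrank F Z :=
    (Submodule.finrank_mono (le_inf inf_le_right (inf_le_left.trans inf_le_left))).trans (col_inf_oth hx)
  rw [finrank_col hx] at h2
  rw [Nat.sub_mul]
  omega

/-- The other type at a second vector does not fit beside a good first one. -/
theorem not_bad_beside (hb : 6 ≤ b) (hZ : Z ≠ ⊥) (hP0 : part S P y ≤ col a x)
    (hle : oth b Z ≤ col a y ⊔ P) : False := by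
  obtain ⟨z, hz, hz0⟩ := Submodule.exists_mem_ne_zero_of_ne_bot hZ
  have hlt := lt_of_le_of_lt (Nat.add_le_add_right (finrank_span_pair_le x y) 3) (show 2 + 3 < b by omega)
  obtain ⟨v, hv, hvn, -⟩ := exists_avoid S ![y, y, y] _ _ hlt hlt
  obtain ⟨p, ⟨u, rfl⟩, q, hq, hpq⟩ := Submodule.mem_sup.1 (inf_le_col_sup (x := y) hle
    ⟨pure_mem_oth v hz, col_le_ker (hv 0) ⟨z, rfl⟩⟩)
  obtain ⟨u', rfl⟩ := hP0 hq
  obtain ⟨φ, hφ, hφ0⟩ := exists_dual_one hvn
  have := congrArg (ev φ) hpq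
  rw [map_add, ev_pure, ev_pure, ev_pure, hφ, hφ0 _ (Submodule.subset_span (by simp)),
    hφ0 _ (Submodule.subset_span (by simp)), zero_smul, zero_smul, one_smul, add_zero] at this
  exact hz0 this.symm

/-- The contraction restricted to `P`. -/
noncomputable def partEquiv (hP : finrank F P = a) {w : Fin b → F} (hw : part S P w = ⊥) :
    P ≃ₗ[F] (Fin a → F) :=
  have hinj : Function.Injective (ev (S.B₂ w) ∘ₗ P.subtype) := (injective_iff_map_eq_zero _).2 fun p hp => by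
    have : (p : T F a b) ∈ part S P w := ⟨p.2, hp⟩
    rw [hw, Submodule.mem_bot] at this
    exact Subtype.ext this
  LinearEquiv.ofBijective _ ⟨hinj, (LinearMap.injective_iff_surjective_of_finrank_eq_finrank
    (by rw [hP, finrank_fin_fun])).1 hinj⟩

theorem partEquiv_apply (hP : finrank F P = a) {w : Fin b → F} (hw : part S P w = ⊥) (p : P) :
    partEquiv hP hw p = ev (S.B₂ w) (p : T F a b) := rfl

theorem exists_balance (hP : finrank F P = a) (hbij : ∀ w, w ≠ 0 → part S P w = ⊥) (v : Fin b → F)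
    (m : Fin a → F) (hw : w ≠ 0) :
    ∃ m', ∀ p ∈ P, S.Bt (TensorGL.pure v m + TensorGL.pure w m') p = 0 := by
  let f := partEquiv hP (hbij w hw)
  obtain ⟨m', hm'⟩ := S.rep₁ (-(S.B₁ m ∘ₗ ev (S.B₂ v) ∘ₗ P.subtype ∘ₗ f.symm.toLinearMap))
  refine ⟨m', fun p hp => ?_⟩
  have h1 : S.B₁ m' (f ⟨p, hp⟩) = -S.B₁ m (ev (S.B₂ v) p) := by
    rw [hm', LinearMap.neg_apply]
    simp
  rw [S.Bt_add_left, S.Bt_pure, S.Bt_pure, ← partEquiv_apply hP (hbij w hw) ⟨p, hp⟩, h1]
  exact add_neg_cancel _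

theorem exists_pairing_ne (hP : finrank F P = a) (hbij : ∀ w, w ≠ 0 → part S P w = ⊥) (hw : w ≠ 0)
    {m : Fin a → F} (hm : m ≠ 0) : ∃ p ∈ P, S.Bt (TensorGL.pure w m) p ≠ 0 := by
  obtain ⟨n, hn⟩ := not_forall.1 fun h => hm (S.nd₁ m h)
  obtain ⟨p, hp⟩ := (partEquiv hP (hbij w hw)).surjective n
  exact ⟨p, p.2, by rw [S.Bt_pure, ← partEquiv_apply hP (hbij w hw), hp]; exact hn⟩

/-- Every vector cannot be good. -/
theorem pair_contra (hb : 6 ≤ b) (ha : 0 < a) (hP : finrank F P = a) (hbij : ∀ w, w ≠ 0 → part S P w = ⊥)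
    (hk : ∀ x, x ≠ 0 → ∃ k : (Module.End F (T F a b))ˣ, k ∈ M ∧
      P.map (k : Module.End F (T F a b)) = col a x ∧
      ∀ m, ev (S.B₂ x) m = 0 → (∀ p ∈ P, S.Bt m p = 0) → (k : Module.End F (T F a b)) m = m)
    (hglob : ∀ g ∈ M, ∀ x y, x ≠ 0 → (col a x).map (g : Module.End F (T F a b)) = col a y →
      ∀ v, v ≠ 0 → ∃ w, ∀ u, (g : Module.End F (T F a b)) (TensorGL.pure v u) ∈ col a w)
    (hM : GenR S M) : False := by
  obtain ⟨x, -, -, hx, -⟩ := exists_pairs S hb
  obtain ⟨y, hxy, -⟩ := exists_partner S (U := ⊥) (w := x) (by rwa [Submodule.mem_bot]) 1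
  have hy : y ≠ 0 := fun e => by simp [e] at hxy
  obtain ⟨kx, hkx, hkxP, hkxfix⟩ := hk x hx
  obtain ⟨ky, hky, hkyP, hkyfix⟩ := hk y hy
  set e := ky * kx⁻¹ with he
  have hem : e ∈ M := M.mul_mem hky (M.inv_mem hkx)
  have hexy : (col a x).map (e : Module.End F (T F a b)) = col a y := by
    rw [← hkxP, ← Submodule.map_comp, ← Module.End.mul_eq_comp, ← Units.val_mul, he, inv_mul_cancel_right, hkyP]
  have hfix : ∀ m, ev (S.B₂ x) m = 0 → (∀ p ∈ P, S.Bt m p = 0) →
      (e : Module.End F (T F a b)) m = (ky : Module.End F (T F a b)) m := fun m h1 h2 => by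
    rw [he, Units.val_mul, Module.End.mul_apply]
    congr 1
    conv_lhs => rw [← hkxfix m h1 h2]
    rw [← Module.End.mul_apply, Units.inv_mul, Module.End.one_apply]
  obtain ⟨A, B, hAB⟩ := exists_of_pure ha (by omega) (g := e) fun v hv hnp => by
    obtain ⟨w, hw⟩ := hglob e hem x y hx hexy v hv
    refine hnp w ?_
    rintro _ ⟨u, rfl⟩
    exact hw u
  set A' := (A : Matrix (Fin a) (Fin a) F)
  set B' := (B : Matrix (Fin b) (Fin b) F)
  have hpure : ∀ v u, (e : Module.End F (T F a b)) (TensorGL.pure v u) = TensorGL.pure (B' *ᵥ v) (A' *ᵥ u) :=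
    fun v u => by
      rw [hAB]
      refine funext fun i => ?_
      simp only [TensorGL.pure_apply, Matrix.mulVec_smul, smul_smul, ← Finset.sum_smul]
      rfl
  have hAinj : ∀ u, A' *ᵥ u = 0 → u = 0 := fun u hu => by
    have := congrArg (fun z => ((A⁻¹ : GL (Fin a) F) : Matrix (Fin a) (Fin a) F) *ᵥ z) hu
    simpa [A', Matrix.mulVec_mulVec] using this
  let m₀ : Fin a → F := fun _ => 1
  have hm₀ : m₀ ≠ 0 := fun e => one_ne_zero (congrFun e ⟨0, ha⟩)
  -- a plane orthogonal to the pair is preserved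
  have hplane : ∀ v v', S.B₂ x v = 0 → S.B₂ y v = 0 → S.B₂ x v' = 0 → S.B₂ y v' = 0 → ∀ m m',
      (∀ p ∈ P, S.Bt (TensorGL.pure v m + TensorGL.pure v' m') p = 0) →
      TensorGL.pure (B' *ᵥ v) (A' *ᵥ m) + TensorGL.pure (B' *ᵥ v') (A' *ᵥ m') =
        TensorGL.pure v m + TensorGL.pure v' m' := fun v v' h1 h2 h3 h4 m m' hp => by
    rw [← hpure, ← hpure, ← map_add,
      hfix _ (by rw [map_add, ev_pure, ev_pure, h1, h3, zero_smul, zero_smul, add_zero]) hp,
      hkyfix _ (by rw [map_add, ev_pure, ev_pure, h2, h4, zero_smul, zero_smul, add_zero]) hp]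
  have hspan : ∀ v v', S.B₂ x v = 0 → S.B₂ y v = 0 → S.B₂ x v' = 0 → S.B₂ y v' = 0 → v ≠ 0 →
      v' ∉ Submodule.span F {v} → B' *ᵥ v ∈ Submodule.span F {v, v'} := by
    intro v v' h1 h2 h3 h4 hv hv'
    by_contra hc
    obtain ⟨φ, hφ, hφ0⟩ := exists_dual_one hc
    have hv'0 : v' ≠ 0 := fun h => hv' (h ▸ Submodule.zero_mem _)
    obtain ⟨m', hm'⟩ := exists_balance hP hbij v m₀ hv'0
    have h := congrArg (ev φ) (hplane v v' h1 h2 h3 h4 m₀ m' hm')
    have hv0 : φ v = 0 := hφ0 _ (Submodule.subset_span (by simp))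
    have hv0' : φ v' = 0 := hφ0 _ (Submodule.subset_span (by simp))
    rw [map_add, map_add, ev_pure, ev_pure, ev_pure, ev_pure, hφ, hv0, hv0', zero_smul, zero_smul, one_smul,
      add_zero, ← Matrix.mulVec_smul, ← Matrix.mulVec_add] at h
    have h0 := hAinj _ h
    set c := φ (B' *ᵥ v')
    rcases eq_or_ne c 0 with hz | hz
    · rw [hz, zero_smul, add_zero] at h0
      exact hm₀ h0
    have hm : m' = -c⁻¹ • m₀ := by
      rw [eq_neg_of_add_eq_zero_left h0, neg_smul, smul_neg, neg_neg, inv_smul_smul₀ hz]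
    have hne : v + -c⁻¹ • v' ≠ 0 := fun h => hv' (Submodule.mem_span_singleton.2 ⟨c, by
      rw [eq_neg_of_add_eq_zero_left h, neg_smul, neg_neg, smul_inv_smul₀ hz]⟩)
    obtain ⟨p, hp, hpne⟩ := exists_pairing_ne hP hbij hne hm₀
    refine hpne ?_
    rw [← hm' p hp]
    congr 1
    exact funext fun i => by simp [hm, smul_smul, mul_comm]
  have heig : ∀ v, S.B₂ x v = 0 → S.B₂ y v = 0 → v ≠ 0 → ∃ μ : F, B' *ᵥ v = μ • v := by
    intro v h1 h2 hv
    have hlt : finrank F (Submodule.span F ({v} : Set (Fin b → F))) + 3 < b := by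
      rw [finrank_span_singleton hv]; omega
    obtain ⟨v₂, hv₂, hv₂n, -⟩ := exists_avoid S ![x, y, x] _ _ hlt hlt
    obtain ⟨v₃, hv₃, hv₃n, -⟩ := exists_avoid S ![x, y, x] _ _
      (lt_of_le_of_lt (Nat.add_le_add_right (finrank_span_pair_le v v₂) 3) (by omega))
      (lt_of_le_of_lt (Nat.add_le_add_right (finrank_span_pair_le v v₂) 3) (by omega))
    obtain ⟨p, q, hpq⟩ := Submodule.mem_span_pair.1 (hspan v v₂ h1 h2 (hv₂ 0) (hv₂ 1) hv hv₂n)
    obtain ⟨p', q', hpq'⟩ := Submodule.mem_span_pair.1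
      (hspan v v₃ h1 h2 (hv₃ 0) (hv₃ 1) hv fun h => hv₃n (Submodule.span_mono (by simp) h))
    rcases eq_or_ne q' 0 with hq | hq
    · exact ⟨p', by rw [← hpq', hq, zero_smul, add_zero]⟩
    · refine absurd (Submodule.mem_span_pair.2 ⟨q'⁻¹ * (p - p'), q'⁻¹ * q, ?_⟩) hv₃n
      rw [mul_smul, mul_smul, ← smul_add, sub_smul, sub_add_eq_add_sub, hpq, ← hpq', add_sub_cancel_left,
        inv_smul_smul₀ hq]
  have hlt : finrank F (Submodule.span F ({x} : Set (Fin b → F))) + 3 < b := by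
    rw [finrank_span_singleton hx]; omega
  obtain ⟨w, hw, hwn, -⟩ := exists_avoid S ![x, y, x] _ _ hlt hlt
  have hxw : S.B₂ x w = 0 := hw 0
  have hyw : S.B₂ y w = 0 := hw 1
  have hw0 : w ≠ 0 := fun h => hwn (h ▸ Submodule.zero_mem _)
  have hlt' : finrank F (Submodule.span F ({w} : Set (Fin b → F))) + 3 < b := by
    rw [finrank_span_singleton hw0]; omega
  obtain ⟨w₂, hw₂, hw₂n, -⟩ := exists_avoid S ![x, y, x] _ _ hlt' hlt'
  have hw₂0 : w₂ ≠ 0 := fun h => hw₂n (h ▸ Submodule.zero_mem _)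
  obtain ⟨μ, hμ⟩ := heig w hxw hyw hw0
  obtain ⟨μ₂, hμ₂⟩ := heig w₂ (hw₂ 0) (hw₂ 1) hw₂0
  have hA : ∀ m, μ • (A' *ᵥ m) = m := fun m => by
    obtain ⟨m', hm'⟩ := exists_balance hP hbij w m hw₂0
    obtain ⟨ψ, hψ, hψ0⟩ := exists_dual_one (not_mem_span_symm hw0 hw₂n)
    have h := congrArg (ev ψ) (hplane w w₂ hxw hyw (hw₂ 0) (hw₂ 1) m m' hm')
    rwa [map_add, map_add, hμ, hμ₂, ev_pure, ev_pure, ev_pure, ev_pure, map_smul, map_smul, hψ,
      hψ0 _ (Submodule.mem_span_singleton_self w₂), smul_zero, zero_smul, zero_smul, smul_eq_mul, mul_one,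
      one_smul, add_zero, add_zero] at h
  have hμ0 : μ ≠ 0 := fun h => hm₀ (by rw [← hA m₀, h, zero_smul])
  have hA' : ∀ m, A' *ᵥ m = μ⁻¹ • m := fun m => by
    conv_rhs => rw [← hA m]
    rw [inv_smul_smul₀ hμ0]
  obtain ⟨r, hr⟩ := hexy.le (Submodule.mem_map_of_mem (LinearMap.mem_range_self (TensorGL.pure x) m₀))
  rw [hpure, hA', map_smul] at hr
  have hBy : ∀ v, S.B₂ v y = 0 → S.B₂ v (B' *ᵥ x) = 0 := fun v hv => by
    have h := congrFun (congrArg (ev (S.B₂ v)) hr) ⟨0, ha⟩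
    rw [map_smul, ev_pure, ev_pure, hv, zero_smul] at h
    simp only [Pi.zero_apply, Pi.smul_apply, smul_eq_mul, m₀, mul_one] at h
    exact (mul_eq_zero.1 h.symm).resolve_left (inv_ne_zero hμ0)
  obtain ⟨n, hn⟩ := not_forall.1 fun h => hm₀ (S.nd₁ m₀ h)
  obtain ⟨m', hm'⟩ := exists_balance hP hbij x m₀ hw0
  obtain ⟨n', hn'⟩ := exists_balance hP hbij y n hw0
  have hxv : ev (S.B₂ x) (TensorGL.pure x m₀ + TensorGL.pure w m') = 0 := by
    rw [map_add, ev_pure, ev_pure, S.alt₂, hxw, zero_smul, zero_smul, add_zero]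
  have hyz : ev (S.B₂ y) (TensorGL.pure y n + TensorGL.pure w n') = 0 := by
    rw [map_add, ev_pure, ev_pure, S.alt₂, hyw, zero_smul, zero_smul, add_zero]
  have key := hM.iso ky hky (TensorGL.pure x m₀ + TensorGL.pure w m') (TensorGL.pure y n + TensorGL.pure w n')
  rw [← hfix _ hxv hm', hkyfix _ hyz hn', map_add, hpure, hpure, hA', hA', hμ] at key
  simp only [S.Bt_add_left, S.Bt_add_right, S.Bt_pure_pure] at key
  simp only [map_smul, LinearMap.smul_apply, smul_eq_mul,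
    S.comm₂ (hBy y (S.alt₂ y)), S.comm₂ (hBy w (S.comm₂ hyw)), hxy, hxw, S.comm₂ hyw, S.alt₂,
    mul_zero, zero_mul, add_zero, one_mul] at key
  exact hn key.symm

end Cfsg.Agent.H72.SympWreath
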