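import Cfsg.Agent.H72.SympWreath.Column

/-!
Subspaces invariant under the transvections of one tensor factor.
-/

set_option autoImplicit false

namespace Cfsg.Agent.H72.SympWreath

open Module Matrix Cfsg.Agent.H98 Cfsg.Agent.H98.ExtField Cfsg.Agent.H98.TensorGL Cfsg.Agent.H98.TensorSp

variable {F : Type*} [Field F] {a k : ℕ} (S : Pair F a k)
  {A : Type*} [Ring A] [Algebra F A] (ι : Module.End F (Fin k → F) →ₐ[F] A)

/-- The map `z ↦ β(y, z) x`. -/
noncomputable def tl (x y : Fin k → F) : Module.End F (Fin k → F) := (S.B₂ y).smulRight x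

theorem tl_apply (x y z : Fin k → F) : tl S x y z = S.B₂ y z • x := rfl

theorem tl_mul (x y x' y' : Fin k → F) : tl S x y * tl S x' y' = S.B₂ y x' • tl S x y' :=
  LinearMap.ext fun z => by
    simp only [Module.End.mul_apply, tl_apply, map_smul, LinearMap.smul_apply, smul_smul, mul_comm]

theorem tl_add_left (x x' y : Fin k → F) : tl S (x + x') y = tl S x y + tl S x' y :=
  LinearMap.ext fun z => by simp [tl_apply]

theorem tl_add_right (x y y' : Fin k → F) : tl S x (y + y') = tl S x y + tl S x y' :=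
  LinearMap.ext fun z => by simp [tl_apply, add_smul]

theorem tl_smul_left (c : F) (x y : Fin k → F) : tl S (c • x) y = c • tl S x y :=
  LinearMap.ext fun z => by simp [tl_apply, smul_smul, mul_comm]

theorem tl_smul_right (c : F) (x y : Fin k → F) : tl S x (c • y) = c • tl S x y :=
  LinearMap.ext fun z => by simp [tl_apply, smul_smul]

theorem tl_zero_left (y : Fin k → F) : tl S 0 y = 0 := LinearMap.ext fun z => by simp [tl_apply]

theorem tl_sum_right {α : Type*} (s : Finset α) (x : Fin k → F) (y : α → Fin k → F) :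
    tl S x (∑ r ∈ s, y r) = ∑ r ∈ s, tl S x (y r) :=
  LinearMap.ext fun z => by simp [tl_apply, LinearMap.sum_apply, Finset.sum_smul]

theorem tl_sum_left {α : Type*} (s : Finset α) (x : α → Fin k → F) (y : Fin k → F) :
    tl S (∑ r ∈ s, x r) y = ∑ r ∈ s, tl S (x r) y :=
  LinearMap.ext fun z => by simp [tl_apply, LinearMap.sum_apply, Finset.smul_sum]

/-- The dual basis of the standard one. -/
noncomputable def du (r : Fin k) : Fin k → F := (S.rep₂ (LinearMap.proj r)).choose

theorem du_spec (r : Fin k) (z : Fin k → F) : S.B₂ (du S r) z = z r :=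
  LinearMap.congr_fun (S.rep₂ (LinearMap.proj r)).choose_spec z

theorem sum_du (b : Fin k → F) : ∑ r, S.B₂ b (Pi.single r 1) • du S r = b := by
  refine (sub_eq_zero.1 (S.nd₂ _ fun z => ?_))
  conv_lhs => rw [map_sub, LinearMap.sub_apply, map_sum, LinearMap.sum_apply]
  rw [sub_eq_zero]
  conv_rhs => rw [pi_eq_sum_univ' z, map_sum]
  exact Finset.sum_congr rfl fun r _ => by
    rw [map_smul, LinearMap.smul_apply, du_spec, map_smul, smul_eq_mul, smul_eq_mul, mul_comm]

theorem sum_single_du : ∑ r, tl S (Pi.single r (1 : F)) (du S r) = 1 := LinearMap.ext fun z => by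
  rw [LinearMap.sum_apply, Module.End.one_apply]
  conv_rhs => rw [pi_eq_sum_univ' z]
  exact Finset.sum_congr rfl fun r _ => by rw [tl_apply, du_spec]

/-- Every endomorphism is a combination of the `tl`. -/
theorem span_tl {W : Submodule F (Module.End F (Fin k → F))} (h : ∀ x y, tl S x y ∈ W)
    (f : Module.End F (Fin k → F)) : f ∈ W := by
  rw [← mul_one f, ← sum_single_du S, Finset.mul_sum]
  refine W.sum_mem fun r _ => ?_
  rw [show f * tl S (Pi.single r 1) (du S r) = tl S (f (Pi.single r 1)) (du S r) from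
    LinearMap.ext fun z => by simp [tl_apply]]
  exact h _ _

/-- The contraction of `K` at `c`, `z`. -/
noncomputable def ct (c z : Fin k → F) (K : A) : A :=
  ∑ r, ι (tl S (Pi.single r 1) c) * K * ι (tl S z (du S r))

theorem ct_key (x y c z : Fin k → F) (K : A) :
    ι (tl S x c) * K * ι (tl S z y) = ι (tl S x y) * ct S ι c z K := by
  have h : ∀ r, ι (tl S x y) * (ι (tl S (Pi.single r 1) c) * K * ι (tl S z (du S r))) =
      ι (tl S x c) * K * ι (tl S z (S.B₂ y (Pi.single r 1) • du S r)) := fun r => by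
    rw [tl_smul_right, map_smul, mul_smul_comm, ← mul_assoc, ← mul_assoc, ← map_mul, tl_mul, map_smul,
      smul_mul_assoc, smul_mul_assoc]
  rw [ct, Finset.mul_sum, Finset.sum_congr rfl fun r _ => h r, ← Finset.mul_sum, ← map_sum, ← tl_sum_right,
    sum_du]

theorem ct_comm (f : Module.End F (Fin k → F)) (c z : Fin k → F) (K : A) : Commute (ι f) (ct S ι c z K) := by
  let W : Submodule F (Module.End F (Fin k → F)) :=
    { carrier := {f | Commute (ι f) (ct S ι c z K)}
      add_mem' := fun {f g} hf hg => by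
        show Commute (ι (f + g)) _
        rw [map_add]
        exact hf.add_left hg
      zero_mem' := by
        show Commute (ι 0) _
        rw [map_zero]
        exact Commute.zero_left _
      smul_mem' := fun r f hf => by
        show Commute (ι (r • f)) _
        rw [map_smul]
        exact hf.smul_left r }
  refine span_tl S (W := W) (fun x y => ?_) f
  show ι (tl S x y) * ct S ι c z K = ct S ι c z K * ι (tl S x y)
  rw [← ct_key, ct, Finset.sum_mul]
  have h : ∀ r, ι (tl S (Pi.single r 1) c) * K * ι (tl S z (du S r)) * ι (tl S x y) =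
      ι (tl S (x r • Pi.single r 1) c) * K * ι (tl S z y) := fun r => by
    rw [mul_assoc (ι (tl S (Pi.single r 1) c) * K), ← map_mul, tl_mul, du_spec, map_smul, mul_smul_comm,
      tl_smul_left, map_smul, smul_mul_assoc, smul_mul_assoc]
  rw [Finset.sum_congr rfl fun r _ => h r, ← Finset.sum_mul, ← Finset.sum_mul, ← map_sum, ← tl_sum_left,
    ← pi_eq_sum_univ']

theorem ct_commute_of {B : A} (hB : ∀ f, Commute B (ι f)) (c z : Fin k → F) {K : A} (hK : Commute B K) :
    Commute B (ct S ι c z K) :=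
  Commute.sum_right _ _ _ fun _ _ => ((hB _).mul_right hK).mul_right (hB _)

theorem ct_add_right (c z z' : Fin k → F) (K : A) : ct S ι c (z + z') K = ct S ι c z K + ct S ι c z' K := by
  simp [ct, tl_add_left, mul_add, Finset.sum_add_distrib]

theorem ct_smul_right (r : F) (c z : Fin k → F) (K : A) : ct S ι c (r • z) K = r • ct S ι c z K := by
  simp [ct, tl_smul_left, Finset.smul_sum]

theorem ct_add_left (c c' z : Fin k → F) (K : A) : ct S ι (c + c') z K = ct S ι c z K + ct S ι c' z K := by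
  simp [ct, tl_add_right, add_mul, Finset.sum_add_distrib]

theorem ct_smul_left (r : F) (c z : Fin k → F) (K : A) : ct S ι (r • c) z K = r • ct S ι c z K := by
  simp [ct, tl_smul_right, Finset.smul_sum]

/-- Some contraction at an independent orthogonal pair survives, unless `K` commutes with the factor. -/
theorem exists_ct_ne (hk : 6 ≤ k) {K : A} (hK : ¬ ∀ f, Commute K (ι f)) :
    ∃ c z, c ≠ 0 ∧ z ∉ Submodule.span F {c} ∧ S.B₂ c z = 0 ∧ ct S ι c z K ≠ 0 := by
  by_contra hc
  push Not at hc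
  refine hK ?_
  have h0 : ∀ c z, S.B₂ c z = 0 → ct S ι c z K = 0 := by
    intro c z hcz
    rcases eq_or_ne c 0 with rfl | hc0
    · rw [← zero_smul F (0 : Fin k → F), ct_smul_left, zero_smul]
    by_cases hz : z ∈ Submodule.span F {c}
    · have h1 : finrank F (Submodule.span F ({c} : Set (Fin k → F))) + 3 < k := by
        rw [finrank_span_singleton hc0]; omega
      obtain ⟨y, hy, hyn, -⟩ := exists_avoid S ![c, c, c] _ _ h1 h1
      have hzy : z + y ∉ Submodule.span F {c} := fun h => hyn ((Submodule.add_mem_iff_right _ hz).1 h)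
      have h2 := hc c (z + y) hc0 hzy (by rw [map_add, hcz, show S.B₂ c y = 0 from hy 0, add_zero])
      rw [ct_add_right, hc c y hc0 hyn (hy 0), add_zero] at h2
      exact h2
    · exact hc c z hc0 hz hcz
  let e : Fin k → F := Pi.single ⟨0, by omega⟩ 1
  obtain ⟨p, hp, -⟩ := exists_partner S (U := ⊥) (w := e) (by simp [e]) 1
  set T := ct S ι e p K
  have hline : ∀ c q, S.B₂ c q = 1 → ∀ z, ct S ι c z K = S.B₂ c z • ct S ι c q K := fun c q hq z => by
    have h2 := h0 c (z + -(S.B₂ c z) • q) (by rw [map_add, map_smul, hq, smul_eq_mul, mul_one, add_neg_cancel])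
    rwa [ct_add_right, ct_smul_right, neg_smul, add_neg_eq_zero] at h2
  have hT : ∀ c z, ct S ι c z K = S.B₂ c z • T := by
    intro c z
    by_cases hcz : S.B₂ c z = 0
    · rw [hcz, zero_smul, h0 c z hcz]
    obtain ⟨f, hf⟩ : ∃ f, S.B₂ e f ≠ 0 ∧ S.B₂ c f ≠ 0 := by
      by_cases hcp : S.B₂ c p = 0
      · by_cases hez : S.B₂ e z = 0
        · exact ⟨p + z, by rw [map_add, hp, hez, add_zero]; exact one_ne_zero,
            by rw [map_add, hcp, zero_add]; exact hcz⟩
        · exact ⟨z, hez, hcz⟩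
      · exact ⟨p, by rw [hp]; exact one_ne_zero, hcp⟩
    have h1 : ct S ι e f K = S.B₂ e f • T := hline e p hp f
    have h2 := h0 (S.B₂ c f • e + -(S.B₂ e f) • c) f (by
      rw [map_add, map_smul, map_smul, LinearMap.add_apply, LinearMap.smul_apply, LinearMap.smul_apply,
        smul_eq_mul, smul_eq_mul]
      ring)
    rw [ct_add_left, ct_smul_left, ct_smul_left, h1, neg_smul, add_neg_eq_zero, smul_comm] at h2
    have h3 : ct S ι c f K = S.B₂ c f • T := (smul_right_injective A hf.1 h2).symm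
    have h4 := hline c ((S.B₂ c z)⁻¹ • z) (by rw [map_smul, smul_eq_mul, inv_mul_cancel₀ hcz]) f
    rw [h3, ct_smul_right] at h4
    have h5 := smul_right_injective A hf.2 h4
    rw [h5, smul_inv_smul₀ hcz]
  have hKT : K = T := by
    calc K = ι 1 * K * ι 1 := by rw [map_one, one_mul, mul_one]
      _ = ∑ r, ∑ s, ι (tl S (Pi.single r 1) (du S s)) * (S.B₂ (du S r) (Pi.single s 1) • T) := by
        conv_lhs => rw [← sum_single_du S, map_sum, Finset.sum_mul, Finset.sum_mul]
        refine Finset.sum_congr rfl fun r _ => ?_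
        rw [Finset.mul_sum]
        refine Finset.sum_congr rfl fun s _ => ?_
        rw [ct_key, hT]
      _ = T := by
        simp only [du_spec, Pi.single_apply, ite_smul, one_smul, zero_smul, mul_ite, mul_zero]
        simp [← Finset.sum_mul, ← map_sum, sum_single_du S]
  intro f
  rw [hKT]
  exact (ct_comm S ι f e p K).symm

/-! ### Invariant subspaces -/

/-- Invariance under the transvections. -/
def Inv (R : Submodule F A) : Prop :=
  ∀ K ∈ R, ∀ (s : F) (v : Fin k → F), (1 + ι (s • tl S v v)) * K * (1 - ι (s • tl S v v)) ∈ R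

variable {S ι} {R : Submodule F A}

theorem Inv.diff (hR : Inv S ι R) {K : A} (hK : K ∈ R) (e : Fin k → F) :
    ι (tl S e e) * K - K * ι (tl S e e) - ι (tl S e e) * K * ι (tl S e e) ∈ R := by
  have := R.sub_mem (hR K hK 1 e) hK
  convert this using 1
  simp only [one_smul, add_mul, mul_sub, one_mul, mul_one]
  abel

/-- The two-term element moves linearly in its first vector. -/
theorem Inv.linear (hR : Inv S ι R) {c z y : Fin k → F} {X₁ X₂ : A} (hX₁ : ∀ f, Commute (ι f) X₁)
    (hX₂ : ∀ f, Commute (ι f) X₂) (h : ι (tl S c z) * X₁ + ι (tl S z c) * X₂ ∈ R) (hc : c ∉ Submodule.span F {z})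
    (_hcz : S.B₂ c z = 0) (hy : S.B₂ y z = 0) : ι (tl S y z) * X₁ + ι (tl S z y) * X₂ ∈ R := by
  let W : Submodule F (Fin k → F) :=
    { carrier := {v | ι (tl S v z) * X₁ + ι (tl S z v) * X₂ ∈ R}
      add_mem' := fun {v w} hv hw => by
        show ι (tl S (v + w) z) * X₁ + ι (tl S z (v + w)) * X₂ ∈ R
        rw [tl_add_left, tl_add_right, map_add, map_add, add_mul, add_mul, add_add_add_comm]
        exact R.add_mem hv hw
      zero_mem' := by
        show ι (tl S 0 z) * X₁ + ι (tl S z 0) * X₂ ∈ R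
        rw [tl_zero_left, show tl S z 0 = 0 from LinearMap.ext fun w => by simp [tl_apply]]
        simp
      smul_mem' := fun r v hv => by
        show ι (tl S (r • v) z) * X₁ + ι (tl S z (r • v)) * X₂ ∈ R
        rw [tl_smul_left, tl_smul_right, map_smul, map_smul, smul_mul_assoc, smul_mul_assoc, ← smul_add]
        exact R.smul_mem r hv }
  have hW : ∀ e, S.B₂ e z = 0 → S.B₂ e c = 1 → e ∈ W := by
    intro e he hec
    show ι (tl S e z) * X₁ + ι (tl S z e) * X₂ ∈ R
    convert hR.diff h e using 1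
    have h1 : S.B₂ z e = 0 := S.comm₂ he
    have h2 : S.B₂ c e = -1 := by rw [S.skew₂, hec]
    simp only [mul_add, add_mul, ← mul_assoc, ← map_mul, tl_mul, hec, he, one_smul, zero_smul, map_zero, zero_mul]
    rw [mul_assoc (ι (tl S c z)), ← (hX₁ _).eq, ← mul_assoc, mul_assoc (ι (tl S z c)), ← (hX₂ _).eq, ← mul_assoc,
      ← map_mul, ← map_mul, tl_mul, tl_mul, h1, h2]
    simp only [zero_smul, map_zero, zero_mul]
    rw [mul_assoc (ι (tl S e z)), ← (hX₁ _).eq, ← mul_assoc, ← map_mul, tl_mul, h1]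
    simp
  obtain ⟨e₁, he₁, hez⟩ := exists_partner S (U := Submodule.span F {z}) (w := c) hc (-1)
  have he₁z : S.B₂ e₁ z = 0 := S.comm₂ (hez z (Submodule.mem_span_singleton_self z))
  have he₁c : S.B₂ e₁ c = 1 := by rw [S.skew₂, he₁, neg_neg]
  have h2 := W.sub_mem (hW (y + (1 - S.B₂ y c) • e₁)
    (by rw [map_add, LinearMap.add_apply, hy, map_smul, LinearMap.smul_apply, he₁z, smul_zero, add_zero])
    (by rw [map_add, LinearMap.add_apply, map_smul, LinearMap.smul_apply, he₁c, smul_eq_mul, mul_one,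
      add_sub_cancel])) (W.smul_mem (1 - S.B₂ y c) (hW e₁ he₁z he₁c))
  rwa [add_sub_cancel_right] at h2

variable (S) in
/-- A pure piece. -/
def Piece (f : Module.End F (Fin k → F)) : Prop :=
  (∃ z, z ≠ 0 ∧ f = tl S z z) ∨
    ∃ c z, c ≠ 0 ∧ z ∉ Submodule.span F {c} ∧ S.B₂ c z = 0 ∧ f = tl S c z - tl S z c

/-- One factor is split off as a piece. -/
theorem Inv.peel (hk : 6 ≤ k) (hR : Inv S ι R) {K : A} (hK : K ∈ R) (hnc : ¬ ∀ f, Commute K (ι f)) :
    ∃ f X, Piece S f ∧ X ≠ 0 ∧ (∀ g, Commute (ι g) X) ∧ (∀ B, (∀ g, Commute B (ι g)) → Commute B K → Commute B X) ∧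
      ι f * X ∈ R := by
  obtain ⟨c, z, hc, hz, hcz, hne⟩ := exists_ct_ne S ι hk hnc
  set X₁ := ct S ι c z K with hX₁
  set X₂ := ct S ι z c K with hX₂
  have hs : ι (tl S c z) * X₁ + ι (tl S z c) * X₂ ∈ R := by
    set N := ι (tl S c c) with hN
    set N' := ι (tl S z z) with hN'
    have hNN : N' * N = 0 := by rw [hN, hN', ← map_mul, tl_mul, S.comm₂ hcz, zero_smul, map_zero]
    have hNN' : N * N' = 0 := by rw [hN, hN', ← map_mul, tl_mul, hcz, zero_smul, map_zero]
    have h1 := hR _ (hR K hK 1 c) 1 z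
    rw [one_smul, one_smul, ← hN, ← hN'] at h1
    have h2 := R.sub_mem (R.sub_mem (R.sub_mem h1 hK) (hR.diff hK c)) (hR.diff hK z)
    rw [← hN, ← hN'] at h2
    have h3 := R.neg_mem h2
    convert h3 using 1
    rw [← ct_key, ← ct_key, ← hN, ← hN']
    simp only [add_mul, mul_sub, mul_add, sub_mul, one_mul, mul_one, mul_assoc]
    simp only [← mul_assoc N' N, hNN, zero_mul, mul_zero, sub_zero, add_zero, hNN']
    abel
  have hcommK : ∀ x y, ∀ B, (∀ g, Commute B (ι g)) → Commute B K → Commute B (ct S ι x y K) :=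
    fun x y B h1 h2 => ct_commute_of S ι h1 x y h2
  by_cases h12 : X₁ + X₂ = 0
  · refine ⟨tl S c z - tl S z c, X₁, Or.inr ⟨c, z, hc, hz, hcz, rfl⟩, hne, fun g => ct_comm S ι g c z K,
      hcommK c z, ?_⟩
    rw [map_sub, sub_mul, sub_eq_add_neg, ← mul_neg]
    rwa [← eq_neg_of_add_eq_zero_right h12]
  · have hz0 : z ≠ 0 := fun e => hz (e ▸ Submodule.zero_mem _)
    refine ⟨tl S z z, X₁ + X₂, Or.inl ⟨z, hz0, rfl⟩, h12,
      fun g => (ct_comm S ι g c z K).add_right (ct_comm S ι g z c K),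
      fun B h1 h2 => (hcommK c z B h1 h2).add_right (hcommK z c B h1 h2), ?_⟩
    rw [mul_add]
    exact hR.linear (fun g => ct_comm S ι g c z K) (fun g => ct_comm S ι g z c K) hs (not_mem_span_symm hc hz) hcz
      (S.alt₂ z)

/-! ### Inside the endomorphisms of the factor -/

variable {R' : Submodule F (Module.End F (Fin k → F))}

theorem Inv.tl_step (hR : Inv S (AlgHom.id F _) R') {x y : Fin k → F} (h : tl S x y ∈ R') (s : F) (e : Fin k → F) :
    tl S (x + (s * S.B₂ e x) • e) (y + (s * S.B₂ e y) • e) ∈ R' := by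
  convert hR _ h s e using 1
  simp only [AlgHom.id_apply, add_mul, mul_sub, one_mul, mul_one, smul_mul_assoc, mul_smul_comm, tl_mul, tl_add_left,
    tl_add_right, tl_smul_left, tl_smul_right, smul_smul, S.skew₂ e y]
  module

/-- A second piece whose product with the first is elementary. -/
theorem Inv.partner (hk : 6 ≤ k) (hR : Inv S (AlgHom.id F _) R') {f : Module.End F (Fin k → F)} (hf : Piece S f)
    (h : f ∈ R') : ∃ g ∈ R', ∃ c d, c ≠ 0 ∧ d ≠ 0 ∧ f * g = tl S c d := by
  rcases hf with ⟨z, hz, rfl⟩ | ⟨c, z, hc, hz, hcz, rfl⟩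
  · obtain ⟨w, hw, -⟩ := exists_partner S (U := ⊥) (w := z) (by rwa [Submodule.mem_bot]) 1
    have hw0 : w ≠ 0 := fun e => by simp [e] at hw
    have hmem : tl S w w ∈ R' :=
      orbit S (P := fun v => tl S v v ∈ R') (fun v s e hv => hR.tl_step hv s e) hz hw0 h
    exact ⟨_, hmem, z, w, hz, hw0, by rw [tl_mul, hw, one_smul]⟩
  have hz0 : z ≠ 0 := fun e => hz (e ▸ Submodule.zero_mem _)
  obtain ⟨w, hw, hwc⟩ := exists_partner S (U := Submodule.span F {c}) (w := z) hz 1
  have hcw : S.B₂ c w = 0 := hwc c (Submodule.mem_span_singleton_self c)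
  obtain ⟨u, hu, hu1, hu2⟩ := exists_avoid S ![c, z, w] (Submodule.span F {z}) (Submodule.span F {c})
    (by rw [finrank_span_singleton hz0]; omega) (by rw [finrank_span_singleton hc]; omega)
  have hcu : S.B₂ c u = 0 := hu 0
  have hzu : S.B₂ z u = 0 := hu 1
  have hwu : S.B₂ w u = 0 := hu 2
  have hu0 : u ≠ 0 := fun e => hu1 (e ▸ Submodule.zero_mem _)
  have hX : ∀ g : Module.End F (Fin k → F), Commute (AlgHom.id F _ g) (1 : Module.End F (Fin k → F)) := fun g =>
    Commute.one_right _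
  have hX' : ∀ g : Module.End F (Fin k → F), Commute (AlgHom.id F _ g) (-1 : Module.End F (Fin k → F)) := fun g =>
    LinearMap.ext fun v => by simp
  have hm : ∀ g : Module.End F (Fin k → F), g * -1 = -g := fun g => LinearMap.ext fun v => by simp
  have h1 := hR.linear (c := c) (z := z) (y := u) hX hX' (by simpa [sub_eq_add_neg, hm] using h) (not_mem_span_symm hc hz)
    hcz (S.comm₂ hzu)
  have h2 := hR.linear (c := z) (z := u) (y := w) hX' hX
    (by simpa [sub_eq_add_neg, add_comm, hm] using h1) (not_mem_span_symm hz0 hu1) hzu hwu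
  refine ⟨tl S u w - tl S w u, by simpa [sub_eq_add_neg, add_comm, hm] using h2, -c, u, neg_ne_zero.2 hc, hu0, ?_⟩
  rw [mul_sub, sub_mul, sub_mul, tl_mul, tl_mul, tl_mul, tl_mul, hzu, hcu, hcw, hw]
  rw [show -c = (-1 : F) • c from (neg_one_smul F c).symm, tl_smul_left]
  simp
  exact (neg_one_smul F _).symm

/-- An elementary member gives one that is not nilpotent after a product. -/
theorem Inv.idem (hR : Inv S (AlgHom.id F _) R') {c d : Fin k → F} (hc : c ≠ 0) (hd : d ≠ 0) (h : tl S c d ∈ R') :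
    ∃ g ∈ R', ∃ c' d' : Fin k → F, ∃ r : F, r ≠ 0 ∧ S.B₂ d' c' = 1 ∧ tl S c d * g = r • tl S c' d' := by
  by_cases hcd : S.B₂ c d = 0
  · obtain ⟨f₁, h₁⟩ := not_forall.1 fun h0 => hc (S.nd₂ c h0)
    obtain ⟨f₂, h₂⟩ := not_forall.1 fun h0 => hd (S.nd₂ d h0)
    obtain ⟨e, he1, he2⟩ : ∃ e, S.B₂ c e ≠ 0 ∧ S.B₂ d e ≠ 0 := by
      by_cases h3 : S.B₂ d f₁ = 0
      · by_cases h4 : S.B₂ c f₂ = 0
        · exact ⟨f₁ + f₂, by rw [map_add, h4, add_zero]; exact h₁, by rw [map_add, h3, zero_add]; exact h₂⟩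
        · exact ⟨f₂, h4, h₂⟩
      · exact ⟨f₁, h₁, h3⟩
    have h1 := hR.tl_step h 1 e
    rw [one_mul, one_mul] at h1
    set c₂ := c + S.B₂ e c • e with hc₂
    set d₂ := d + S.B₂ e d • e with hd₂
    have e1 : S.B₂ d c₂ = S.B₂ e c * S.B₂ d e := by
      rw [hc₂, map_add, S.comm₂ hcd, zero_add, map_smul, smul_eq_mul]
    have e2 : S.B₂ d₂ c = S.B₂ e d * S.B₂ e c := by
      rw [hd₂, map_add, LinearMap.add_apply, S.comm₂ hcd, zero_add, map_smul, LinearMap.smul_apply, smul_eq_mul]
    have hec : S.B₂ e c ≠ 0 := by rw [S.skew₂]; exact neg_ne_zero.2 he1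
    have hed : S.B₂ e d ≠ 0 := by rw [S.skew₂]; exact neg_ne_zero.2 he2
    refine ⟨_, h1, c, (S.B₂ d₂ c)⁻¹ • d₂, S.B₂ d c₂ * S.B₂ d₂ c, ?_, ?_, ?_⟩
    · exact mul_ne_zero (e1 ▸ mul_ne_zero hec he2) (e2 ▸ mul_ne_zero hed hec)
    · rw [map_smul, LinearMap.smul_apply, smul_eq_mul, inv_mul_cancel₀ (e2 ▸ mul_ne_zero hed hec)]
    · rw [tl_mul, tl_smul_right, smul_smul, mul_assoc, mul_inv_cancel₀ (e2 ▸ mul_ne_zero hed hec), mul_one]
  · have hdc : S.B₂ d c ≠ 0 := by rw [S.skew₂]; exact neg_ne_zero.2 hcd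
    refine ⟨_, h, c, (S.B₂ d c)⁻¹ • d, S.B₂ d c * S.B₂ d c, mul_ne_zero hdc hdc, ?_, ?_⟩
    · rw [map_smul, LinearMap.smul_apply, smul_eq_mul, inv_mul_cancel₀ hdc]
    · rw [tl_mul, tl_smul_right, smul_smul, mul_assoc, mul_inv_cancel₀ hdc, mul_one]

/-- A hyperbolic elementary member generates everything. -/
theorem Inv.all (hR : Inv S (AlgHom.id F _) R') {c d : Fin k → F} (hdc : S.B₂ d c = 1) (h : tl S c d ∈ R')
    (f : Module.End F (Fin k → F)) : f ∈ R' := by
  have hpres : ∀ x y : Fin k → F, ∀ (s : F) e,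
      S.B₂ (y + (s * S.B₂ e y) • e) (x + (s * S.B₂ e x) • e) = S.B₂ y x := fun x y s e => by
    simp only [map_add, map_smul, LinearMap.add_apply, LinearMap.smul_apply, smul_eq_mul, S.alt₂, S.skew₂ e y]
    ring
  have hc : c ≠ 0 := fun e => by simp [e] at hdc
  have hone : ∀ x y, S.B₂ y x = 1 → tl S x y ∈ R' := by
    intro x y hyx
    have hx : x ≠ 0 := fun e => by simp [e] at hyx
    obtain ⟨y₀, hy₀, hmem⟩ : ∃ y₀, S.B₂ y₀ x = 1 ∧ tl S x y₀ ∈ R' :=
      orbit S (P := fun v => ∃ w, S.B₂ w v = 1 ∧ tl S v w ∈ R')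
        (fun v s e ⟨w, h1, h2⟩ => ⟨_, by rw [hpres]; exact h1, hR.tl_step h2 s e⟩) hc hx ⟨d, hdc, h⟩
    have move : ∀ p q, S.B₂ p x = 1 → S.B₂ q x = 1 → S.B₂ p q ≠ 0 → tl S x p ∈ R' → tl S x q ∈ R' := by
      intro p q hp hq hpq hmem
      have hne : S.B₂ (q - p) p ≠ 0 := by
        rw [map_sub, LinearMap.sub_apply, S.alt₂, sub_zero, S.skew₂]; exact neg_ne_zero.2 hpq
      have h1 := hR.tl_step hmem (S.B₂ (q - p) p)⁻¹ (q - p)
      rwa [inv_mul_cancel₀ hne, one_smul, add_sub_cancel,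
        show S.B₂ (q - p) x = 0 by rw [map_sub, LinearMap.sub_apply, hp, hq, sub_self], mul_zero, zero_smul,
        add_zero] at h1
    by_cases hyy : S.B₂ y₀ y = 0
    · have hxy : S.B₂ x y = -1 := by rw [S.skew₂, hyx]
      refine move (y₀ + x) y ?_ hyx ?_ (move y₀ (y₀ + x) hy₀ ?_ ?_ hmem)
      · rw [map_add, LinearMap.add_apply, hy₀, S.alt₂, add_zero]
      · rw [map_add, LinearMap.add_apply, hyy, hxy, zero_add]; exact neg_ne_zero.2 one_ne_zero
      · rw [map_add, LinearMap.add_apply, hy₀, S.alt₂, add_zero]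
      · rw [map_add, S.alt₂, hy₀, zero_add]; exact one_ne_zero
    · exact move y₀ y hy₀ hyx hyy hmem
  refine span_tl S (fun x y => ?_) f
  have hne : ∀ y, S.B₂ y x ≠ 0 → tl S x y ∈ R' := fun y hy => by
    have := R'.smul_mem (S.B₂ y x) (hone x ((S.B₂ y x)⁻¹ • y)
      (by rw [map_smul, LinearMap.smul_apply, smul_eq_mul, inv_mul_cancel₀ hy]))
    rwa [← tl_smul_right, smul_inv_smul₀ hy] at this
  by_cases hyx : S.B₂ y x = 0
  · rcases eq_or_ne x 0 with rfl | hx
    · rw [tl_zero_left]; exact R'.zero_mem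
    obtain ⟨p, hp, -⟩ := exists_partner S (U := ⊥) (w := x) (by rwa [Submodule.mem_bot]) 1
    have hpx : S.B₂ p x ≠ 0 := by rw [S.skew₂, hp]; exact neg_ne_zero.2 one_ne_zero
    rw [show y = (y + p) + (-1 : F) • p by module, tl_add_right, tl_smul_right]
    exact R'.add_mem (hne _ (by rw [map_add, LinearMap.add_apply, hyx, zero_add]; exact hpx))
      (R'.smul_mem _ (hne p hpx))
  · exact hne y hyx

end Cfsg.Agent.H72.SympWreath
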