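import Cfsg.Agent.H72.SympWreath.Pairing
import Cfsg.Agent.H96.TensorPower

/-!
The tensor power of a symplectic space read in the coordinates of each slot.
-/

set_option autoImplicit false

namespace Cfsg.Agent.H72.SympWreath

open QuadraticMap Module Matrix Cfsg.Agent.Orthogonal Cfsg.Agent.H98 Cfsg.Agent.H98.ExtField Cfsg.Agent.H98.TensorGL
  Cfsg.Agent.H98.TensorSp Cfsg.Agent.H96.TensorPower

variable {F : Type*} [Field F] {k t : ℕ}

section Coords

/-- The dimension of the other slots together. -/
abbrev rk (k t : ℕ) (_i : Fin t) : ℕ := k ^ (t - 1)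

/-- Indices of the slots other than `i`. -/
noncomputable def restEquiv (k : ℕ) (i : Fin t) : ({j // j ≠ i} → Fin k) ≃ Fin (rk k t i) :=
  Fintype.equivFinOfCardEq (by simp)

/-- The index split at slot `i`. -/
noncomputable def idxEquiv (k : ℕ) (i : Fin t) : (Fin t → Fin k) ≃ Fin (rk k t i) × Fin k :=
  (Equiv.piSplitAt i fun _ => Fin k).trans ((Equiv.prodComm _ _).trans ((restEquiv k i).prodCongr (Equiv.refl _)))

/-- Coordinates at slot `i`. -/
noncomputable def Ls (F : Type*) [Field F] (k : ℕ) (i : Fin t) : T F (rk k t i) k ≃ₗ[F] Sp F k t :=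
  (LinearEquiv.curry F F (Fin (rk k t i)) (Fin k)).symm.trans (LinearEquiv.funCongrLeft F F (idxEquiv k i))

theorem Ls_apply (i : Fin t) (m : T F (rk k t i) k) (f : Fin t → Fin k) :
    Ls F k i m f = m (restEquiv k i fun j => f j) (f i) := rfl

/-- The vector of the other slots of a pure tensor. -/
noncomputable def restVec (i : Fin t) (x : Fin t → Fin k → F) : Fin (rk k t i) → F :=
  fun r => ∏ j : {j // j ≠ i}, x j ((restEquiv k i).symm r j)

theorem Ls_pure (i : Fin t) (v : Fin k → F) (x : Fin t → Fin k → F) :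
    Ls F k i (TensorGL.pure v (restVec i x)) = pureT (Function.update x i v) := by
  funext f
  rw [Ls_apply, TensorGL.pure_apply, Pi.smul_apply, smul_eq_mul, restVec, Equiv.symm_apply_apply, pureT,
    ← Finset.mul_prod_erase Finset.univ _ (Finset.mem_univ i), Function.update_self, mul_comm]
  congr 1
  rw [← Finset.prod_coe_sort (Finset.univ.erase i)]
  refine Fintype.prod_equiv (Equiv.subtypeEquivRight fun j => by simp) _ _ fun j => ?_
  rw [Equiv.subtypeEquivRight_apply_coe, Function.update_of_ne j.2]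

theorem Ls_pure_self (i : Fin t) (x : Fin t → Fin k → F) :
    Ls F k i (TensorGL.pure (x i) (restVec i x)) = pureT x := by rw [Ls_pure, Function.update_eq_self]

theorem exists_restVec_single (i : Fin t) (hk : 0 < k) (r : Fin (rk k t i)) :
    ∃ g : Fin t → Fin k, restVec (F := F) i (fun l => Pi.single (g l) 1) = Pi.single r 1 := by
  refine ⟨fun l => if h : l = i then ⟨0, hk⟩ else (restEquiv k i).symm r ⟨l, h⟩, funext fun r' => ?_⟩
  by_cases h : r' = r
  · subst h
    rw [Pi.single_eq_same, restVec]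
    refine Finset.prod_eq_one fun j _ => ?_
    simp only [dif_neg j.2, Pi.single_eq_same]
  · rw [Pi.single_eq_of_ne h, restVec]
    obtain ⟨j, hj⟩ := Function.ne_iff.1 fun e => h ((restEquiv k i).symm.injective e)
    refine Finset.prod_eq_zero (Finset.mem_univ j) ?_
    simp only [dif_neg j.2, Pi.single_eq_of_ne hj]

theorem ext_rest {W : Type*} [AddCommGroup W] [Module F W] (i : Fin t) (hk : 0 < k)
    {f g : (Fin (rk k t i) → F) →ₗ[F] W} (h : ∀ x, f (restVec i x) = g (restVec i x)) : f = g :=
  LinearMap.pi_ext' fun r => LinearMap.ext_ring <| by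
    obtain ⟨s, hs⟩ := exists_restVec_single (F := F) i hk r
    simpa [hs] using h fun l => Pi.single (s l) 1

theorem ext_T {W : Type*} [AddCommGroup W] [Module F W] (i : Fin t) (hk : 0 < k)
    {f g : T F (rk k t i) k →ₗ[F] W}
    (h : ∀ v x, f (TensorGL.pure v (restVec i x)) = g (TensorGL.pure v (restVec i x))) : f = g := by
  refine LinearMap.ext fun m => ?_
  rw [eq_sum_pure m, map_sum, map_sum]
  refine Finset.sum_congr rfl fun j _ => ?_
  exact LinearMap.congr_fun (ext_rest i hk (f := f ∘ₗ TensorGL.pure (Pi.single j 1))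
    (g := g ∘ₗ TensorGL.pure (Pi.single j 1)) (h _)) _

/-- Maps of the tensor power in the coordinates of slot `i`. -/
noncomputable def cj (F : Type*) [Field F] (k : ℕ) (i : Fin t) :
    Module.End F (Sp F k t) ≃ₐ[F] Module.End F (T F (rk k t i) k) :=
  (Ls F k i).symm.conjAlgEquiv F

theorem cj_apply (i : Fin t) (f : Module.End F (Sp F k t)) (m : T F (rk k t i) k) :
    cj F k i f m = (Ls F k i).symm (f (Ls F k i m)) := rfl

theorem cj_slot_self (i : Fin t) (hk : 0 < k) (f : (Fin k → F) →ₗ[F] (Fin k → F)) (v : Fin k → F)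
    (u : Fin (rk k t i) → F) :
    cj F k i (slot i f) (TensorGL.pure v u) = TensorGL.pure (f v) u := by
  refine LinearMap.congr_fun (ext_rest i hk (f := cj F k i (slot i f) ∘ₗ TensorGL.pure v)
    (g := TensorGL.pure (f v)) fun x => ?_) u
  rw [LinearMap.comp_apply, cj_apply, Ls_pure, slot_pureT, Function.update_self, Function.update_idem,
    ← Ls_pure, LinearEquiv.symm_apply_apply]

/-- An operator of slot `j` on the slots other than `i`. -/
noncomputable def rs (i j : Fin t) (f : (Fin k → F) →ₗ[F] (Fin k → F)) :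
    Matrix (Fin (rk k t i)) (Fin (rk k t i)) F :=
  Matrix.of fun r r' => ∏ l : {l // l ≠ i},
    (if (l : Fin t) = j then LinearMap.toMatrix' f else 1) ((restEquiv k i).symm r l) ((restEquiv k i).symm r' l)

theorem rs_restVec (i j : Fin t) (f : (Fin k → F) →ₗ[F] (Fin k → F)) (x : Fin t → Fin k → F) :
    rs i j f *ᵥ restVec i x = restVec i (Function.update x j (f (x j))) := by
  funext r
  simp only [Matrix.mulVec, dotProduct, rs, Matrix.of_apply, restVec]
  rw [← Equiv.sum_comp (restEquiv k i)]
  simp only [Equiv.symm_apply_apply, ← Finset.prod_mul_distrib]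
  rw [← Fintype.prod_sum fun (l : {l // l ≠ i}) (p : Fin k) =>
    (if (l : Fin t) = j then LinearMap.toMatrix' f else 1) ((restEquiv k i).symm r l) p * x l p]
  refine Finset.prod_congr rfl fun l _ => ?_
  by_cases hl : (l : Fin t) = j
  · rw [if_pos hl, hl, Function.update_self, ← LinearMap.toMatrix'_mulVec]
    rfl
  · rw [if_neg hl, Function.update_of_ne hl]
    simp [Matrix.one_apply]

theorem cj_slot_ne {i j : Fin t} (hij : j ≠ i) (hk : 0 < k) (f : (Fin k → F) →ₗ[F] (Fin k → F)) :
    cj F k i (slot j f) = lt (rs i j f) :=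
  ext_T i hk fun v x => by
    rw [cj_apply, Ls_pure, slot_pureT, Function.update_of_ne hij, lt_pure, rs_restVec i j,
      Function.update_comm hij.symm, ← Ls_pure, LinearEquiv.symm_apply_apply]

end Coords

/-- The data of a symplectic tensor power inside a quadratic space. -/
structure Base (F : Type*) [Field F] (k t : ℕ) where
  β : (Fin k → F) →ₗ[F] (Fin k → F) →ₗ[F] F
  Q : QuadraticForm F (Sp F k t)
  c : F
  alt : ∀ x, β x x = 0
  nd : ∀ x, (∀ y, β x y = 0) → x = 0
  k_pos : 0 < k
  ht : 2 ≤ t
  hQ : Nondeg Q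
  polar_pure : ∀ x y, polar Q (pureT x) (pureT y) = c * ∏ l, β (x l) (y l)
  pure_sing : ∀ x, Q (pureT x) = 0

/-- The same with a large slot. -/
structure Setup (F : Type*) [Field F] (k t : ℕ) extends Base F k t where
  hk : 6 ≤ k

namespace Base

variable (D : Base F k t)

theorem rk_pos (D : Base F k t) (i : Fin t) : 0 < rk k t i := pow_pos D.k_pos _

theorem exists_hyp (D : Base F k t) : ∃ e f : Fin k → F, D.β e f = 1 := by
  let e : Fin k → F := Pi.single ⟨0, D.k_pos⟩ 1
  obtain ⟨f, hf⟩ := not_forall.1 fun h => (show e ≠ 0 by simp [e]) (D.nd e h)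
  exact ⟨e, (D.β e f)⁻¹ • f, by rw [map_smul, smul_eq_mul, inv_mul_cancel₀ hf]⟩

/-- The first vector of a fixed hyperbolic pair. -/
noncomputable def he : Fin k → F := D.exists_hyp.choose

/-- The second vector of a fixed hyperbolic pair. -/
noncomputable def hf : Fin k → F := D.exists_hyp.choose_spec.choose

theorem he_hf : D.β D.he D.hf = 1 := D.exists_hyp.choose_spec.choose_spec

theorem polar_sum_right' {ι : Type*} (s : Finset ι) (x : Sp F k t) (g : ι → Sp F k t) :
    polar D.Q x (∑ r ∈ s, g r) = ∑ r ∈ s, polar D.Q x (g r) :=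
  map_sum (D.Q.polarBilin x) g s

theorem polar_sum_left' {ι : Type*} (s : Finset ι) (y : Sp F k t) (g : ι → Sp F k t) :
    polar D.Q (∑ r ∈ s, g r) y = ∑ r ∈ s, polar D.Q (g r) y := by
  rw [polar_comm, D.polar_sum_right']
  exact Finset.sum_congr rfl fun r _ => polar_comm _ _ _

theorem skew (x y : Fin k → F) : D.β y x = -D.β x y := by
  have h := D.alt (x + y)
  simp only [map_add, LinearMap.add_apply, D.alt, zero_add, add_zero] at h
  exact eq_neg_of_add_eq_zero_left h

theorem polar_Ls (i : Fin t) (v w : Fin k → F) (u u' : Fin (rk k t i) → F) :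
    polar D.Q (Ls F k i (TensorGL.pure v u)) (Ls F k i (TensorGL.pure w u')) =
      D.β v w * polar D.Q (Ls F k i (TensorGL.pure D.he u)) (Ls F k i (TensorGL.pure D.hf u')) := by
  let B := D.Q.polarBilin
  let P : (Fin k → F) → (Fin k → F) → (Fin (rk k t i) → F) →ₗ[F] (Fin (rk k t i) → F) →ₗ[F] F := fun v w =>
    B.compl₁₂ ((Ls F k i).toLinearMap ∘ₗ TensorGL.pure v) ((Ls F k i).toLinearMap ∘ₗ TensorGL.pure w)
  have h : P v w = D.β v w • P D.he D.hf := by
    refine ext_rest i D.k_pos fun x => ext_rest i D.k_pos fun y => ?_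
    have e : ∀ v w, P v w (restVec i x) (restVec i y) =
        D.c * (D.β v w * ∏ l ∈ Finset.univ.erase i, D.β (x l) (y l)) := fun v w => by
      show polar D.Q (Ls F k i _) (Ls F k i _) = _
      rw [Ls_pure, Ls_pure, D.polar_pure, ← Finset.mul_prod_erase Finset.univ _ (Finset.mem_univ i),
        Function.update_self, Function.update_self]
      congr 2
      exact Finset.prod_congr rfl fun l hl => by
        rw [Function.update_of_ne (Finset.ne_of_mem_erase hl), Function.update_of_ne (Finset.ne_of_mem_erase hl)]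
    rw [LinearMap.smul_apply, LinearMap.smul_apply, e, e, D.he_hf, smul_eq_mul]
    ring
  exact LinearMap.congr_fun (LinearMap.congr_fun h u) u'

/-- The form on the slots other than `i`. -/
noncomputable def form (i : Fin t) : (Fin (rk k t i) → F) →ₗ[F] (Fin (rk k t i) → F) →ₗ[F] F :=
  D.Q.polarBilin.compl₁₂ ((Ls F k i).toLinearMap ∘ₗ TensorGL.pure D.he)
    ((Ls F k i).toLinearMap ∘ₗ TensorGL.pure D.hf)

theorem form_apply (i : Fin t) (u u' : Fin (rk k t i) → F) :
    D.form i u u' = polar D.Q (Ls F k i (TensorGL.pure D.he u)) (Ls F k i (TensorGL.pure D.hf u')) := rfl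

theorem form_skew (i : Fin t) (u u' : Fin (rk k t i) → F) : D.form i u' u = -D.form i u u' := by
  rw [form_apply, form_apply, polar_comm, D.polar_Ls i D.hf D.he, D.skew D.he D.hf, D.he_hf, neg_one_mul]

theorem form_alt (i : Fin t) (u : Fin (rk k t i) → F) : D.form i u u = 0 := by
  conv_lhs => rw [pi_eq_sum_univ' u]
  simp only [map_sum, LinearMap.sum_apply]
  rw [sum_pairs _ fun r => ?_]
  · refine Finset.sum_eq_zero fun p _ => ?_
    simp only [map_smul, LinearMap.smul_apply, smul_eq_mul]
    rw [D.form_skew i (Pi.single p.2 (1 : F)) (Pi.single p.1 1)]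
    ring
  obtain ⟨g, hg⟩ := exists_restVec_single (F := F) i D.k_pos r
  obtain ⟨j, hj⟩ : ∃ j : Fin t, j ≠ i := by
    obtain ⟨j, hj⟩ := Fintype.exists_ne_of_one_lt_card (by rw [Fintype.card_fin]; exact D.ht) i
    exact ⟨j, hj⟩
  simp only [map_smul, LinearMap.smul_apply, smul_eq_mul]
  rw [form_apply, ← hg, Ls_pure, Ls_pure, D.polar_pure, Finset.prod_eq_zero (Finset.mem_univ j)]
  · simp
  · rw [Function.update_of_ne hj, Function.update_of_ne hj, D.alt]

theorem form_nd (i : Fin t) (u : Fin (rk k t i) → F) (hu : ∀ u', D.form i u u' = 0) : u = 0 := by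
  have h : Ls F k i (TensorGL.pure D.he u) = 0 := D.hQ _ fun y => by
    obtain ⟨m, rfl⟩ := (Ls F k i).surjective y
    rw [eq_sum_pure m, map_sum, D.polar_sum_right']
    refine Finset.sum_eq_zero fun j _ => ?_
    rw [D.polar_Ls i, ← form_apply, hu, mul_zero]
  refine pure_injective (fun e => ?_) (((Ls F k i).map_eq_zero_iff.1 h).trans (map_zero _).symm)
  have := D.he_hf
  rw [e, map_zero, LinearMap.zero_apply] at this
  exact zero_ne_one this

/-- The two forms at slot `i`. -/
noncomputable def pair (i : Fin t) : Pair F (rk k t i) k where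
  B₁ := D.form i
  B₂ := D.β
  alt₁ := D.form_alt i
  nd₁ := D.form_nd i
  alt₂ := D.alt
  nd₂ := D.nd

theorem coord (i : Fin t) : Coord (D.pair i) D.Q (Ls F k i) := by
  refine ⟨fun x y => ?_, fun v u => ?_⟩
  · conv_lhs => rw [sum_pure_rows x, sum_pure_rows y]
    rw [map_sum, map_sum, D.polar_sum_left', Pair.Bt]
    refine Finset.sum_congr rfl fun r _ => ?_
    rw [D.polar_sum_right']
    refine Finset.sum_congr rfl fun r' _ => ?_
    rw [D.polar_Ls i, ← form_apply, mul_comm]
    rfl
  · suffices ∀ s : Finset (Fin (rk k t i)),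
        D.Q (Ls F k i (∑ r ∈ s, TensorGL.pure v (u r • Pi.single r (1 : F)))) = 0 by
      have h := this Finset.univ
      rwa [← map_sum, ← pi_eq_sum_univ' u] at h
    intro s
    classical
    induction s using Finset.induction_on with
    | empty => simp
    | @insert r s hr ih =>
      rw [Finset.sum_insert hr, map_add, map_add_polar, ih, map_smul, map_smul, QuadraticMap.map_smul]
      obtain ⟨g, hg⟩ := exists_restVec_single (F := F) i D.k_pos r
      rw [← hg, Ls_pure, D.pure_sing, smul_zero, zero_add, zero_add, ← Ls_pure, map_sum, polar_smul_left',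
        D.polar_sum_right']
      rw [Finset.sum_eq_zero fun r' _ => by rw [D.polar_Ls i v v, D.alt, zero_mul], mul_zero]

/-- The root of slot `i` at `v`. -/
noncomputable def root (i : Fin t) (v : Fin k → F) : Module.End F (Sp F k t) := slot i ((D.β v).smulRight v)

theorem cj_root (i : Fin t) (v : Fin k → F) :
    cj F k i (D.root i v) = te (1 : Matrix (Fin (rk k t i)) (Fin (rk k t i)) F) v ((D.pair i).B₂ v) :=
  ext_T i D.k_pos fun w x => by
    rw [root, cj_slot_self i D.k_pos, te_apply, ev_pure, Matrix.one_mulVec, LinearMap.smulRight_apply]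
    exact funext fun r => by simp [pair, smul_smul, mul_comm]

end Base

/-- The column of slot `i` at `v`. -/
noncomputable def Col (i : Fin t) (v : Fin k → F) : Submodule F (Sp F k t) :=
  (col (rk k t i) v).map (Ls F k i).toLinearMap

theorem finrank_Col {i : Fin t} {v : Fin k → F} (hv : v ≠ 0) : finrank F (Col i v) = k ^ (t - 1) := by
  rw [Col, LinearEquiv.finrank_map_eq, finrank_col hv]

/-- Another slot in the coordinates of slot `i`. -/
theorem Col_other {i l : Fin t} (hli : l ≠ i) {v : Fin k → F} (hv : v ≠ 0) :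
    ∃ Z : Submodule F (Fin (rk k t i) → F), k * finrank F Z = rk k t i ∧
      (Col l v).map (Ls F k i).symm.toLinearMap = oth k Z := by
  obtain ⟨φ, hφ⟩ := exists_dual_pure hv
  set f : (Fin k → F) →ₗ[F] (Fin k → F) := φ.smulRight v with hf
  have hk : 0 < k := by
    by_contra h
    have : k = 0 := by omega
    subst this
    exact hv (Subsingleton.elim _ _)
  have hr : LinearMap.range (slot l f) = Col l v := by
    refine le_antisymm ?_ ?_
    · rintro _ ⟨y, rfl⟩
      obtain ⟨m, rfl⟩ := (Ls F k l).surjective y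
      rw [eq_sum_pure m, map_sum, map_sum]
      refine Submodule.sum_mem _ fun j _ => ?_
      refine ⟨_, ⟨φ (Pi.single j 1) • (fun r => m r j), rfl⟩, ?_⟩
      have := cj_slot_self l hk f (Pi.single j 1) fun r => m r j
      rw [cj_apply, LinearEquiv.symm_apply_eq] at this
      rw [this, hf, LinearMap.smulRight_apply, LinearEquiv.coe_coe]
      exact congrArg _ (funext fun r => by simp [smul_smul, mul_comm])
    · rintro _ ⟨_, ⟨u, rfl⟩, rfl⟩
      refine ⟨Ls F k l (TensorGL.pure v u), ?_⟩
      have := cj_slot_self l hk f v u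
      rw [cj_apply, LinearEquiv.symm_apply_eq, hf, LinearMap.smulRight_apply, hφ, one_smul] at this
      exact this
  have he : (Col l v).map (Ls F k i).symm.toLinearMap = LinearMap.range (lt (b := k) (rs i l f)) := by
    rw [← cj_slot_ne hli hk f, ← hr]
    refine le_antisymm ?_ ?_
    · rintro _ ⟨_, ⟨y, rfl⟩, rfl⟩
      exact ⟨(Ls F k i).symm y, by rw [cj_apply, LinearEquiv.apply_symm_apply]; rfl⟩
    · rintro _ ⟨m, rfl⟩
      exact ⟨_, ⟨Ls F k i m, rfl⟩, rfl⟩
  set R := (rs i l f).mulVecLin
  have hlt : LinearMap.range (lt (b := k) (rs i l f)) = oth k (LinearMap.range R) := by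
    refine le_antisymm ?_ fun m hm => ?_
    · rintro _ ⟨m, rfl⟩
      exact mem_oth.2 fun χ => ⟨ev χ m, by rw [ev_lt]; rfl⟩
    · rw [eq_sum_pure m]
      refine Submodule.sum_mem _ fun j _ => ?_
      obtain ⟨u, hu⟩ := mem_oth.1 hm (LinearMap.proj j)
      exact ⟨TensorGL.pure (Pi.single j 1) u, by rw [lt_pure]; exact congrArg _ hu⟩
  refine ⟨LinearMap.range R, ?_, he.trans hlt⟩
  rw [← finrank_oth, ← hlt, ← he, LinearEquiv.finrank_map_eq, finrank_Col hv]


end Cfsg.Agent.H72.SympWreath
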