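import Cfsg.Agent.H72.SympWreath.Rest
import Cfsg.Agent.H72.SympWreath.Peel

/-!
A non-scalar member of one algebra gives all of them.
-/

set_option autoImplicit false

namespace Cfsg.Agent.H72.SympWreath

open QuadraticMap Module Matrix Cfsg.Agent.Orthogonal Cfsg.Agent.H98 Cfsg.Agent.H98.ExtField Cfsg.Agent.H98.TensorGL
  Cfsg.Agent.H98.TensorSp Cfsg.Agent.H96.TensorPower

variable {F : Type*} [Field F] {k t : ℕ}

namespace Setup

variable (D : Setup F k t) (X : Subgroup (O D.Q))

/-- The group contains every root. -/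
def Roots : Prop := ∀ (i : Fin t) (c : F) (v : Fin k → F), MN (D.gl X) (c • D.root i v)

variable {D X}

/-- The algebra of slot `i`. -/
def Lalg (hR : D.Roots X) (i : Fin t) : Submodule F (Matrix (Fin (rk k t i)) (Fin (rk k t i)) F) where
  carrier := {K | InL (D.pair i) (D.Mi X i) K}
  add_mem' := fun h h' => InL.add h h'
  zero_mem' := by simpa using (D.genR hR i).inL_scalar 0
  smul_mem' := fun c _ h => (D.genR hR i).smul_mem D.hk h c

theorem mem_Lalg (hR : D.Roots X) {i : Fin t} {K : Matrix (Fin (rk k t i)) (Fin (rk k t i)) F} :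
    K ∈ Lalg hR i ↔ InL (D.pair i) (D.Mi X i) K := Iff.rfl

theorem Lalg_mul (hR : D.Roots X) {i : Fin t} {K L : Matrix (Fin (rk k t i)) (Fin (rk k t i)) F}
    (hK : K ∈ Lalg hR i) (hL : L ∈ Lalg hR i) : K * L ∈ Lalg hR i :=
  (D.genR hR i).mul_mem D.hk hK hL

theorem cj_root_ne {i j : Fin t} (hj : j ≠ i) (v : Fin k → F) :
    cj F k i (D.root j v) = lt (rsHom i D.k_pos hj (D.tauL v v)) := by
  rw [D.root_eq, cj_slot_ne hj D.k_pos, rs_eq_rsF, rsHom_apply]

theorem inv_Lalg (hR : D.Roots X) {i j : Fin t} (hj : j ≠ i) :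
    Inv (D.pair i) (rsHom i D.k_pos hj) (Lalg hR i) := by
  intro K hK s v
  set R := rsHom i D.k_pos hj (s • tl (D.pair i) v v) with hRdef
  have hR' : R = s • rsHom i D.k_pos hj (D.tauL v v) := by rw [hRdef, map_smul]; rfl
  have hadj : (D.pair i).IsAdj R (-R) := by
    rw [hR', ← smul_neg]
    refine Pair.IsAdj.smul (D.pair i) ?_ s
    simpa using D.isAdj_tl hj v v
  have hm : MN (D.Mi X i) (lt R) := by
    rw [hR', lt_smul, ← cj_root_ne hj, ← map_smul]
    exact (D.MN_cj i).2 (hR j s v)
  obtain ⟨K', h⟩ := (D.pair i).exists_adj K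
  have h1 : (D.pair i).IsAdj (1 + R) (1 - R) := by
    simpa [sub_eq_add_neg] using Pair.IsAdj.add (D.pair i) (D.pair i).isAdj_one hadj
  have h2 : (D.pair i).IsAdj (1 - R) (1 + R) := Pair.IsAdj.symm (D.pair i) h1
  intro Y hY a b ha hb hab
  obtain rfl := Pair.IsAdj.unique (D.pair i) (Pair.IsAdj.mul (D.pair i) (Pair.IsAdj.mul (D.pair i) h1 h) h2) hY
  obtain ⟨hN2, u, hu, huN⟩ := hm
  have := ((mem_Lalg hR).1 hK K' h a b ha hb hab).conj hu
  rw [coe_inv_of_eq hN2 huN, huN] at this
  convert this using 1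
  have hsub : lt (1 - R) = (1 : Module.End F (T F (rk k t i) k)) - lt R := by
    rw [eq_sub_iff_add_eq, ← lt_add, sub_add_cancel, lt_one]
  rw [← hsub, ← lt_one, ← lt_add]
  simp only [Pair.sk, mul_add, add_mul, lt_mul_te, te_mul_lt, mul_assoc]

theorem inv_times (hR : D.Roots X) {i j : Fin t} (hj : j ≠ i) {P : Fin t → Module.End F (Fin k → F)}
    (hP : P j = 1) :
    Inv (D.pair i) (rsHom i D.k_pos hj) ((Lalg hR i).comap (LinearMap.mulLeft F (rsF i P))) := by
  intro K hK s v
  rw [Submodule.mem_comap, LinearMap.mulLeft_apply] at hK ⊢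
  have := inv_Lalg hR hj _ hK s v
  convert this using 1
  have h := (Commute.add_right (Commute.one_right (rsF i P))
    (rsF_commute i D.k_pos hj hP (s • tl (D.pair i) v v))).eq
  rw [← mul_assoc (1 + _), ← h]
  simp only [mul_assoc]

/-- The members obtained by changing one slot. -/
def at_ (hR : D.Roots X) {i j : Fin t} (hj : j ≠ i) (P : Fin t → Module.End F (Fin k → F)) :
    Submodule F (Module.End F (Fin k → F)) where
  carrier := {g | rsF i (Function.update P j g) ∈ Lalg hR i}
  add_mem' := fun {f g} hf hg => by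
    show rsF i (Function.update P j (f + g)) ∈ Lalg hR i
    rw [rsF_update_add i D.k_pos hj]
    exact (Lalg hR i).add_mem hf hg
  zero_mem' := by
    show rsF i (Function.update P j 0) ∈ Lalg hR i
    rw [← zero_smul F (0 : Module.End F (Fin k → F)), rsF_update_smul i D.k_pos hj, zero_smul]
    exact (Lalg hR i).zero_mem
  smul_mem' := fun c f hf => by
    show rsF i (Function.update P j (c • f)) ∈ Lalg hR i
    rw [rsF_update_smul i D.k_pos hj]
    exact (Lalg hR i).smul_mem c hf

theorem inv_at (hR : D.Roots X) {i j : Fin t} (hj : j ≠ i) (P : Fin t → Module.End F (Fin k → F)) :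
    Inv (D.pair i) (AlgHom.id F _) (at_ hR hj P) := by
  intro g hg s v
  have hQ : Function.update P j 1 j = (1 : Module.End F (Fin k → F)) := Function.update_self _ _ _
  have key : ∀ g, rsF i (Function.update P j g) = rsF i (Function.update P j 1) * rsHom i D.k_pos hj g := fun g => by
    rw [rsF_mul_rsHom i D.k_pos hj hQ, Function.update_idem]
  show rsF i (Function.update P j _) ∈ Lalg hR i
  have hg' : rsHom i D.k_pos hj g ∈ (Lalg hR i).comap (LinearMap.mulLeft F (rsF i (Function.update P j 1))) := by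
    rw [Submodule.mem_comap, LinearMap.mulLeft_apply, ← key]
    exact hg
  have := inv_times hR hj hQ _ hg' s v
  rw [Submodule.mem_comap, LinearMap.mulLeft_apply] at this
  rw [key]
  simpa using this

theorem self_mem_at (hR : D.Roots X) {i j : Fin t} (hj : j ≠ i) {P : Fin t → Module.End F (Fin k → F)}
    (hP : rsF i P ∈ Lalg hR i) : P j ∈ at_ hR hj P := by
  show rsF i (Function.update P j (P j)) ∈ Lalg hR i
  rwa [Function.update_eq_self]

theorem piece_ne_one {a : ℕ} {S : Pair F a k} (hk : 6 ≤ k) : ¬ Piece S (1 : Module.End F (Fin k → F)) := by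
  intro h
  have key : ∀ z : Fin k → F, ∃ x, S.B₂ z x = 0 ∧ x ∉ Submodule.span F {z} := fun z => by
    have h1 : finrank F (Submodule.span F ({z} : Set (Fin k → F))) + 3 < k := by
      rcases eq_or_ne z 0 with rfl | hz
      · rw [Submodule.span_zero_singleton, finrank_bot]; omega
      · rw [finrank_span_singleton hz]; omega
    obtain ⟨x, hx, hx', -⟩ := exists_avoid S ![z, z, z] _ _ h1 h1
    exact ⟨x, hx 0, hx'⟩
  rcases h with ⟨z, -, hz⟩ | ⟨c, z, hc, -, hcz, hz⟩
  · obtain ⟨x, hx, hx'⟩ := key z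
    have := LinearMap.congr_fun hz x
    rw [Module.End.one_apply, tl_apply, hx, zero_smul] at this
    exact hx' (this ▸ Submodule.zero_mem _)
  · have := LinearMap.congr_fun hz c
    simp [tl_apply, S.alt₂, S.comm₂ hcz] at this
    exact hc this

/-- All slots but `i` can be peeled. -/
theorem exists_pieces (hR : D.Roots X) {i : Fin t} {K : Matrix (Fin (rk k t i)) (Fin (rk k t i)) F}
    (hK : K ∈ Lalg hR i) (hns : ∀ c : F, K ≠ c • 1) :
    ∃ P : Fin t → Module.End F (Fin k → F), P i = 1 ∧ rsF i P ∈ Lalg hR i ∧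
      (∀ l, P l = 1 ∨ Piece (D.pair i) (P l)) ∧ ∃ l, P l ≠ 1 := by
  classical
  suffices key : ∀ s : Finset (Fin t), i ∉ s → ∃ (P : Fin t → Module.End F (Fin k → F))
      (Y : Matrix (Fin (rk k t i)) (Fin (rk k t i)) F), (∀ l ∉ s, P l = 1) ∧
        (∀ l, P l = 1 ∨ Piece (D.pair i) (P l)) ∧ Y ≠ 0 ∧ ((∀ l, P l = 1) → Y = K) ∧ rsF i P * Y ∈ Lalg hR i ∧
        ∀ l ∈ s, ∀ hl : l ≠ i, ∀ f, Commute Y (rsHom i D.k_pos hl f) by
    obtain ⟨P, Y, h1, h2, hY0, hYK, hmem, hcomm⟩ := key (Finset.univ.erase i) (Finset.notMem_erase i _)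
    obtain ⟨c, rfl⟩ := D.rest_central i fun j hj f => hcomm j (Finset.mem_erase.2 ⟨hj, Finset.mem_univ j⟩) hj f
    have hc : c ≠ 0 := fun e => hY0 (by rw [e, zero_smul])
    refine ⟨P, h1 i (Finset.notMem_erase i _), ?_, h2, ?_⟩
    · have := (Lalg hR i).smul_mem c⁻¹ hmem
      rwa [mul_smul_comm, mul_one, inv_smul_smul₀ hc] at this
    · by_contra h
      push Not at h
      exact hns c (hYK h).symm
  intro s
  induction s using Finset.induction_on with
  | empty =>
    refine fun _ => ⟨fun _ => 1, K, fun l _ => rfl, fun l => Or.inl rfl, ?_, fun _ => rfl, ?_, by simp⟩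
    · intro e
      exact hns 0 (by rw [e, zero_smul])
    · rw [rsF_one i D.k_pos, one_mul]
      exact hK
  | @insert j s hjs ih =>
    intro his
    rw [Finset.mem_insert, not_or] at his
    obtain ⟨P, Y, h1, h2, hY0, hYK, hmem, hcomm⟩ := ih his.2
    have hj : j ≠ i := Ne.symm his.1
    have hPj : P j = 1 := h1 j hjs
    by_cases hc : ∀ f, Commute Y (rsHom i D.k_pos hj f)
    · refine ⟨P, Y, fun l hl => h1 l fun h => hl (Finset.mem_insert_of_mem h), h2, hY0, hYK, hmem, fun l hl hli => ?_⟩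
      rcases Finset.mem_insert.1 hl with rfl | hl
      · exact hc
      · exact hcomm l hl hli
    obtain ⟨f, Z, hf, hZ0, hZj, hZold, hfZ⟩ := (inv_times hR hj hPj).peel D.hk
      (K := Y) (by rw [Submodule.mem_comap, LinearMap.mulLeft_apply]; exact hmem) hc
    rw [Submodule.mem_comap, LinearMap.mulLeft_apply, ← mul_assoc, rsF_mul_rsHom i D.k_pos hj hPj] at hfZ
    refine ⟨Function.update P j f, Z, fun l hl => ?_, fun l => ?_, hZ0, fun h => ?_, hfZ, fun l hl hli g => ?_⟩
    · rw [Function.update_of_ne (fun e : l = j => hl (e ▸ Finset.mem_insert_self _ _))]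
      exact h1 l fun h => hl (Finset.mem_insert_of_mem h)
    · rcases eq_or_ne l j with rfl | hlj
      · rw [Function.update_self]; exact Or.inr hf
      · rw [Function.update_of_ne hlj]; exact h2 l
    · exfalso
      have := h j
      rw [Function.update_self] at this
      exact absurd (this ▸ hf) (piece_ne_one D.hk)
    · rcases Finset.mem_insert.1 hl with rfl | hl
      · exact (hZj g).symm
      · refine (hZold _ (fun g' => ?_) (hcomm l hl hli g).symm).symm
        rw [rsHom_apply i D.k_pos hli]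
        refine rsF_commute i D.k_pos hj ?_ g'
        exact Function.update_of_ne (fun e : j = l => hjs (e ▸ hl)) _ _

/-- All operators of slot `j` lie in the algebra of slot `i`. -/
def Reach (hR : D.Roots X) (i j : Fin t) : Prop :=
  ∃ hj : j ≠ i, ∀ f, rsHom i D.k_pos hj f ∈ Lalg hR i

/-- Some slot is reached. -/
theorem exists_reach (hR : D.Roots X) {i : Fin t} (hL : HasL (D.pair i) (D.Mi X i)) :
    ∃ j, Reach hR i j := by
  classical
  obtain ⟨K, hK, hns⟩ := hL
  obtain ⟨P, hPi, hP, hpc, l₀, hl₀⟩ := exists_pieces hR (i := i) hK hns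
  set A := Finset.univ.filter fun l => P l ≠ 1 with hAdef
  have hA : ∀ {l}, l ∈ A ↔ P l ≠ 1 := fun {l} => by simp [hAdef]
  have hiA : i ∉ A := fun h => hA.1 h hPi
  have hpart : ∀ (P₀ : Fin t → Module.End F (Fin k → F)), rsF i P₀ ∈ Lalg hR i →
      (∀ l ∈ A, Piece (D.pair i) (P₀ l)) → (∀ l ∉ A, P₀ l = 1) →
      ∃ E : Fin t → Module.End F (Fin k → F), rsF i E ∈ Lalg hR i ∧
        (∀ l ∈ A, ∃ c d, c ≠ 0 ∧ d ≠ 0 ∧ E l = tl (D.pair i) c d) ∧ ∀ l ∉ A, E l = 1 := by
    intro P₀ hP₀ hpi hone
    have key : ∀ B ⊆ A, ∃ G : Fin t → Module.End F (Fin k → F), rsF i G ∈ Lalg hR i ∧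
        (∀ l ∈ B, ∃ c d, c ≠ 0 ∧ d ≠ 0 ∧ P₀ l * G l = tl (D.pair i) c d) ∧ ∀ l ∉ B, G l = P₀ l := by
      intro B
      induction B using Finset.induction_on with
      | empty => exact fun _ => ⟨P₀, hP₀, by simp, fun l _ => rfl⟩
      | @insert j s hjs ih =>
        intro hsub
        obtain ⟨G, hG, hg1, hg2⟩ := ih fun l hl => hsub (Finset.mem_insert_of_mem hl)
        have hji : j ≠ i := fun e => hiA (e ▸ hsub (Finset.mem_insert_self _ _))
        have hm := self_mem_at hR hji hG
        obtain ⟨g, hg, hcd⟩ := (inv_at hR hji G).partner D.hk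
          (f := G j) (by rw [hg2 j hjs]; exact hpi j (hsub (Finset.mem_insert_self _ _))) hm
        refine ⟨Function.update G j g, hg, fun l hl => ?_, fun l hl => ?_⟩
        · rcases eq_or_ne l j with rfl | hlj
          · rw [Function.update_self, ← hg2 l hjs]; exact hcd
          · rw [Function.update_of_ne hlj]
            exact hg1 l (Finset.mem_of_mem_insert_of_ne hl hlj)
        · rw [Function.update_of_ne (fun e : l = j => hl (e ▸ Finset.mem_insert_self _ _))]
          exact hg2 l fun h => hl (Finset.mem_insert_of_mem h)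
    obtain ⟨G, hG, hg1, hg2⟩ := key A subset_rfl
    refine ⟨fun l => P₀ l * G l, by rw [← rsF_mul i D.k_pos]; exact Lalg_mul hR hP₀ hG, hg1, fun l hl => ?_⟩
    show P₀ l * G l = 1
    rw [hg2 l hl, hone l hl, one_mul]
  obtain ⟨E, hE, hE1, hE2⟩ := hpart P hP (fun l hl => (hpc l).resolve_left (hA.1 hl)) fun l hl =>
    not_not.1 fun h => hl (hA.2 h)
  clear hpart
  -- hyperbolic members
  have key : ∀ B ⊆ A, ∃ G : Fin t → Module.End F (Fin k → F), rsF i G ∈ Lalg hR i ∧
      (∀ l ∈ B, ∃ c d, ∃ r : F, r ≠ 0 ∧ (D.pair i).B₂ d c = 1 ∧ E l * G l = r • tl (D.pair i) c d) ∧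
        ∀ l ∉ B, G l = E l := by
    intro B
    induction B using Finset.induction_on with
    | empty => exact fun _ => ⟨E, hE, by simp, fun l _ => rfl⟩
    | @insert j s hjs ih =>
      intro hsub
      obtain ⟨G, hG, hg1, hg2⟩ := ih fun l hl => hsub (Finset.mem_insert_of_mem hl)
      have hji : j ≠ i := fun e => hiA (e ▸ hsub (Finset.mem_insert_self _ _))
      obtain ⟨c, d, hc, hd, he⟩ := hE1 j (hsub (Finset.mem_insert_self _ _))
      obtain ⟨g, hg, hcd⟩ := (inv_at hR hji G).idem hc hd (by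
        rw [← he, ← hg2 j hjs]; exact self_mem_at hR hji hG)
      refine ⟨Function.update G j g, hg, fun l hl => ?_, fun l hl => ?_⟩
      · rcases eq_or_ne l j with rfl | hlj
        · rw [Function.update_self, he]; exact hcd
        · rw [Function.update_of_ne hlj]
          exact hg1 l (Finset.mem_of_mem_insert_of_ne hl hlj)
      · rw [Function.update_of_ne (fun e : l = j => hl (e ▸ Finset.mem_insert_self _ _))]
        exact hg2 l fun h => hl (Finset.mem_insert_of_mem h)
  obtain ⟨G, hG, hg1, hg2⟩ := key A subset_rfl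
  set H : Fin t → Module.End F (Fin k → F) := fun l => E l * G l with hH
  have hHmem : rsF i H ∈ Lalg hR i := by rw [hH, ← rsF_mul i D.k_pos]; exact Lalg_mul hR hE hG
  -- everything in each slot
  have hall : ∀ B ⊆ A, ∀ Y : Fin t → Module.End F (Fin k → F), (∀ l ∉ B, Y l = H l) → rsF i Y ∈ Lalg hR i := by
    intro B
    induction B using Finset.induction_on with
    | empty => exact fun _ Y hY => by rw [funext fun l => hY l (by simp)]; exact hHmem
    | @insert j s hjs ih =>
      intro hsub Y hY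
      have hji : j ≠ i := fun e => hiA (e ▸ hsub (Finset.mem_insert_self _ _))
      obtain ⟨c, d, r, hr, hdc, he⟩ := hg1 j (hsub (Finset.mem_insert_self _ _))
      have h0 : rsF i (Function.update Y j (H j)) ∈ Lalg hR i := by
        refine ih (fun l hl => hsub (Finset.mem_insert_of_mem hl)) _ fun l hl => ?_
        rcases eq_or_ne l j with rfl | hlj
        · rw [Function.update_self]
        · rw [Function.update_of_ne hlj]
          exact hY l fun h => hl (Finset.mem_of_mem_insert_of_ne h hlj)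
      have h1 : r • tl (D.pair i) c d ∈ at_ hR hji Y := by
        rw [← he]
        exact h0
      have h2 := (at_ hR hji Y).smul_mem r⁻¹ h1
      rw [inv_smul_smul₀ hr] at h2
      have h3 := (inv_at hR hji Y).all hdc h2 (Y j)
      have h4 : rsF i (Function.update Y j (Y j)) ∈ Lalg hR i := h3
      rwa [Function.update_eq_self] at h4
  have hl₀A : l₀ ∈ A := hA.2 hl₀
  refine ⟨l₀, fun e => hiA (e ▸ hl₀A), fun f => ?_⟩
  rw [rsHom_apply]
  refine hall A subset_rfl _ fun l hl => ?_
  rw [Function.update_of_ne (fun e : l = l₀ => hl (e ▸ hl₀A))]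
  show 1 = E l * G l
  rw [hg2 l hl, hE2 l hl, one_mul]

end Setup

end Cfsg.Agent.H72.SympWreath
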